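import Mathlib

/-!
Arithmetic of the order formula for an involution centraliser `GL2(q)/Z` with semidihedral Sylow 2-subgroups: apart
from the two known series, the index `N` is prime to `p`, and that case has no solution.
-/

set_option autoImplicit false
set_option linter.style.haveILetI false

namespace CfsgLib.GL2Cent.Arith

/-- `f` divides `s ^ 2` with odd cofactor when `N * f ^ 2 = s ^ 3 * X * Y` with `Y` congruent to `-s`. -/
theorem core {N X Y f s : ℤ} (hs0 : s ≠ 0) (hN : Odd N) (h : N * f ^ 2 = s ^ 3 * X * Y)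
    (hX : IsCoprime f X) (hY : f ∣ Y + s) : ∃ g, Odd g ∧ f * g = s ^ 2 := by
  obtain ⟨k, hk⟩ := hY
  set d : ℤ := (Int.gcd f s : ℤ) with hd
  have hd0 : d ≠ 0 := by simp [hd, Int.gcd_eq_zero_iff, hs0]
  obtain ⟨f1, hf1⟩ : d ∣ f := Int.gcd_dvd_left f s
  obtain ⟨s1, hs1⟩ : d ∣ s := Int.gcd_dvd_right f s
  have hc : IsCoprime f1 s1 := by
    refine ⟨Int.gcdA f s, Int.gcdB f s, ?_⟩
    apply mul_left_cancel₀ hd0
    have hb := Int.gcd_eq_gcd_ab f s
    rw [← hd] at hb
    linear_combination -hb - Int.gcdA f s * hf1 - Int.gcdB f s * hs1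
  have e1 : N * f1 ^ 2 = d ^ 2 * s1 ^ 3 * X * (k * f1 - s1) := by
    refine mul_left_cancel₀ (pow_ne_zero 2 hd0) ?_
    have hy : Y = d * (k * f1 - s1) := by linear_combination hk + k * hf1 - hs1
    rw [hf1, hs1, hy] at h
    linear_combination h
  have hX1 : IsCoprime f1 X := hX.of_isCoprime_of_dvd_left ⟨d, by rw [hf1]; ring⟩
  have hk1 : IsCoprime f1 (k * f1 - s1) := by
    have : IsCoprime f1 (-s1 + f1 * k) := (hc.neg_right).add_mul_left_right k
    rwa [show k * f1 - s1 = -s1 + f1 * k by ring]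
  have h2 : f1 ^ 2 ∣ d ^ 2 := by
    have h3 : f1 ^ 2 ∣ d ^ 2 * (s1 ^ 3 * X * (k * f1 - s1)) := ⟨N, by linear_combination -e1⟩
    exact (((hc.pow_right).mul_right hX1).mul_right hk1).pow_left.dvd_of_dvd_mul_right h3
  obtain ⟨c, hc'⟩ := (Int.pow_dvd_pow_iff two_ne_zero).mp h2
  refine ⟨c * s1 ^ 2, ?_, by rw [hf1, hs1, hc']; ring⟩
  have e2 : N * f1 ^ 2 = f1 ^ 2 * (c ^ 2 * s1 ^ 3 * X * (k * f1 - s1)) := by rw [e1, hc']; ring
  have hf10 : f1 ≠ 0 := fun e => hd0 (by rw [hc', e, zero_mul])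
  have e3 : N = c ^ 2 * s1 ^ 3 * X * (k * f1 - s1) :=
    mul_left_cancel₀ (pow_ne_zero 2 hf10) (by linear_combination e2)
  rw [e3] at hN
  simp only [Int.odd_mul, Int.odd_pow' two_ne_zero, Int.odd_pow' (by norm_num : 3 ≠ 0)] at hN
  exact Int.odd_mul.mpr ⟨hN.1.1.1, hN.1.1.2.pow⟩

/-- The only factorisation of `(q + 1) ^ 2` with both factors congruent to one modulo `q` and one odd. -/
theorem two_n_case {q f g : ℤ} (hq : 7 ≤ q) (hqo : Odd q) (hf : q ∣ f - 1) (h : f * g = (q + 1) ^ 2) (hg : Odd g) :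
    f = (q + 1) ^ 2 := by
  obtain ⟨a, ha⟩ := hf
  have hq0 : q ≠ 0 := by omega
  have hg1 : q ∣ g - 1 := ⟨q + 2 - a * g, by linear_combination h - g * ha⟩
  obtain ⟨b, hb⟩ := hg1
  have hf' : f = q * a + 1 := by linear_combination ha
  have hg' : g = q * b + 1 := by linear_combination hb
  subst hf' hg'
  have hab : a * b * q + a + b = q + 2 := mul_left_cancel₀ hq0 (by linear_combination h)
  have hbe : Even b := by
    have : Even (q * b) := by
      obtain ⟨k, hk⟩ := hg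
      exact ⟨k, by omega⟩
    rcases Int.even_mul.mp this with e | e
    · exact absurd e (Int.not_even_iff_odd.mpr hqo)
    · exact e
  rcases eq_or_ne b 0 with rfl | hb0
  · rw [show a = q + 2 by linear_combination hab]; ring
  exfalso
  obtain ⟨b', rfl⟩ := hbe
  have ha0 : a ≠ 0 := fun e => by
    subst e
    have hf2 : Even ((q + 1) ^ 2) := (Int.even_pow.mpr ⟨hqo.add_one, two_ne_zero⟩)
    rw [← h, Int.even_mul] at hf2
    rcases hf2 with e | e
    · simp at e
    · exact Int.not_even_iff_odd.mpr hg e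
  rcases lt_or_gt_of_ne ha0 with ha | ha <;> rcases lt_or_gt_of_ne hb0 with hb | hb
  · have h1 : 0 ≤ (a + 1) * (b' + b' + 1) := mul_nonneg_of_nonpos_of_nonpos (by omega) (by omega)
    have h2 := mul_nonneg h1 (show (0 : ℤ) ≤ q by omega)
    have h3 : 3 * (q - 1) ≤ (-a - (b' + b')) * (q - 1) := mul_le_mul_of_nonneg_right (by omega) (by omega)
    nlinarith
  · nlinarith [mul_le_mul_of_nonneg_right (show (1 : ℤ) ≤ -a by omega) (show (0 : ℤ) ≤ (b' + b') * q by nlinarith),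
      mul_nonneg (show (0 : ℤ) ≤ q - 1 by omega) (show (0 : ℤ) ≤ b' + b' by omega)]
  · nlinarith [mul_le_mul_of_nonneg_right (show (1 : ℤ) ≤ -(b' + b') by omega) (show (0 : ℤ) ≤ a * q by nlinarith),
      mul_nonneg (show (0 : ℤ) ≤ q - 1 by omega) (show (0 : ℤ) ≤ a by omega)]
  · nlinarith [mul_le_mul_of_nonneg_right (show (2 : ℤ) ≤ b' + b' by omega) (show (0 : ℤ) ≤ a * q by nlinarith),
      mul_nonneg (show (0 : ℤ) ≤ q - 1 by omega) (show (0 : ℤ) ≤ a - 1 by omega)]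

/-- The divisor analysis when `p` does not divide `D`. -/
theorem regular_case {q D g : ℤ} (hq : 3 ≤ q) (hqo : Odd q) (hD : D ∣ q ^ 2 - 1) (hg : Odd g)
    (h : (q * (q + 1) + D) * g = (q + 1) ^ 2) : D = q + 1 := by
  obtain ⟨j, hj⟩ := hD
  rcases eq_or_ne g 1 with rfl | hg1
  · linear_combination h
  exfalso
  have hne : q ^ 2 - 1 ≠ 0 := by nlinarith
  have habs : |D| ≤ q ^ 2 - 1 := by
    have := Int.le_of_dvd (by nlinarith) ((abs_dvd D _).mpr ⟨j, hj⟩)
    exact this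
  have hD1 := (abs_le.mp habs).1
  have hfpos : 0 < q * (q + 1) + D := by nlinarith
  have hgpos : 0 < g := by nlinarith
  obtain ⟨k, hk⟩ := hg
  have hk1 : 1 ≤ k := by omega
  have hf3 : 3 * (q * (q + 1) + D) ≤ (q + 1) ^ 2 := by
    have : (q * (q + 1) + D) * 3 ≤ (q * (q + 1) + D) * g := mul_le_mul_of_nonneg_left (by omega) hfpos.le
    linarith
  have hDneg : D < 0 := by nlinarith
  rcases lt_trichotomy j (-1) with hj2 | hj2 | hj2
  · have : (-D) * 2 ≤ (-D) * (-j) := mul_le_mul_of_nonneg_left (by omega) (by omega)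
    nlinarith
  · subst hj2
    have hD2 : D = 1 - q ^ 2 := by linear_combination hj
    subst hD2
    have hgq : g = q + 1 := mul_left_cancel₀ (show q + 1 ≠ 0 by omega) (by linear_combination h)
    have hq2 : 2 * k = q := by omega
    obtain ⟨l, hl⟩ := hqo
    omega
  · rcases lt_or_ge j 0 with e | e
    · omega
    · nlinarith [mul_nonpos_of_nonpos_of_nonneg hDneg.le e]

/-- The Diophantine system left by the bound. -/
theorem tail_none {q g j : ℤ} (hq : 7 ≤ q) (hq' : q = g * j - 1) (hg : Odd g) (hd : j - 1 ∣ g - 2)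
    (hd2 : q ∣ j ^ 2 + j - 1) (hcop : IsCoprime g (j + 1)) : False := by
  obtain ⟨i, hi⟩ := hd
  have hgne : g ≠ 2 := by rintro rfl; revert hg; decide
  have key : g = j + 1 := by
    rcases lt_trichotomy j 0 with hjn | rfl | hjp
    · have hgn : g < 0 := by
        by_contra h
        nlinarith [mul_nonpos_of_nonneg_of_nonpos (not_lt.mp h) hjn.le]
      have hi1 : 1 ≤ i := by
        by_contra h
        nlinarith [mul_nonneg_of_nonpos_of_nonpos (show j - 1 ≤ 0 by omega) (show i ≤ 0 by omega)]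
      have h1 : g - 2 ≤ j - 1 := by
        nlinarith [mul_le_mul_of_nonpos_left hi1 (show j - 1 ≤ 0 by omega)]
      rcases eq_or_ne j (-1) with rfl | hj1
      · have h2 : q ∣ 1 := by simpa using hd2
        have := Int.le_of_dvd one_pos h2
        omega
      have hle : q ≤ j ^ 2 + j - 1 := Int.le_of_dvd (by
        nlinarith [mul_le_mul_of_nonpos_right (show j + 1 ≤ -1 by omega) hjn.le]) hd2
      by_contra hne
      nlinarith [mul_le_mul_of_nonpos_right (show g ≤ j by omega) hjn.le]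
    · omega
    · have hgp : 0 < g := by
        by_contra h
        nlinarith [mul_nonpos_of_nonpos_of_nonneg (not_lt.mp h) hjp.le]
      rcases eq_or_ne g 1 with rfl | hg1
      · rcases lt_or_ge i 0 with h | h
        · nlinarith [mul_le_mul_of_nonneg_left (show i ≤ -1 by omega) (show (0 : ℤ) ≤ j - 1 by omega)]
        · nlinarith [mul_nonneg (show (0 : ℤ) ≤ j - 1 by omega) h]
      have hg3 : 3 ≤ g := by omega
      have hj2 : 2 ≤ j := by
        by_contra h
        obtain rfl : j = 1 := by omega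
        simp at hi
        omega
      have hi1 : 1 ≤ i := by
        by_contra h
        nlinarith [mul_nonpos_of_nonneg_of_nonpos (show (0 : ℤ) ≤ j - 1 by omega) (show i ≤ 0 by omega)]
      have h1 : j - 1 ≤ g - 2 := by
        nlinarith [mul_le_mul_of_nonneg_left hi1 (show (0 : ℤ) ≤ j - 1 by omega)]
      have hle : q ≤ j ^ 2 + j - 1 := Int.le_of_dvd (by nlinarith) hd2
      by_contra hne
      nlinarith [mul_le_mul_of_nonneg_right (show j + 2 ≤ g by omega) hjp.le]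
  subst key
  rcases Int.isUnit_iff.mp (isCoprime_self.mp hcop) with h | h <;> (rw [h] at hq'; omega)

/-- The last case has no solution. -/
theorem empty_none {q N e g : ℤ} (hq : 7 ≤ q) (hg : Odd g) (heg : e * g = (q + 1) ^ 2)
    (hN : N * e ^ 2 = (q + 1) ^ 3 * (e - 1) * (q * e - (q + 1))) (hd : e - (q + 1) ∣ q ^ 2 - 1)
    (hmod : q ∣ g ^ 2 - g - 1)
    (hL : ∀ r : ℕ, r.Prime → r ≠ 2 → (r : ℤ) ∣ q + 1 → ∀ a : ℕ, (r : ℤ) ^ a ∣ q + 1 → ¬ (r : ℤ) ^ (a + 1) ∣ q + 1 →
      ¬ (r : ℤ) ^ (2 * a + 1) ∣ N) : False := by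
  set s : ℤ := q + 1 with hs
  have hs0 : s ≠ 0 := by omega
  set d : ℤ := (Int.gcd e s : ℤ) with hdd
  have hd0 : d ≠ 0 := by simp [hdd, Int.gcd_eq_zero_iff, hs0]
  obtain ⟨f1, hf1⟩ : d ∣ e := Int.gcd_dvd_left e s
  obtain ⟨s1, hs1⟩ : d ∣ s := Int.gcd_dvd_right e s
  have hc : IsCoprime f1 s1 := by
    refine ⟨Int.gcdA e s, Int.gcdB e s, ?_⟩
    apply mul_left_cancel₀ hd0
    have hb := Int.gcd_eq_gcd_ab e s
    rw [← hdd] at hb
    linear_combination -hb - Int.gcdA e s * hf1 - Int.gcdB e s * hs1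
  have h1 : f1 * g = d * s1 ^ 2 := mul_left_cancel₀ hd0 (by rw [hf1, hs1] at heg; linear_combination heg)
  obtain ⟨k, hk⟩ : f1 ∣ d := (hc.pow_right).dvd_of_dvd_mul_right ⟨g, h1.symm⟩
  have hf10 : f1 ≠ 0 := fun h => hd0 (by rw [hk, h, zero_mul])
  have hgk : g = k * s1 ^ 2 := mul_left_cancel₀ hf10 (by rw [hk] at h1; linear_combination h1)
  have hN1 : N = k ^ 2 * s1 ^ 3 * (e - 1) * (q * f1 - s1) := by
    refine mul_left_cancel₀ (mul_ne_zero (pow_ne_zero 2 hd0) (pow_ne_zero 2 hf10)) ?_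
    rw [show q * e - s = d * (q * f1 - s1) by rw [hf1, hs1]; ring] at hN
    rw [hf1] at hN
    rw [hf1]
    rw [hs1] at hN
    linear_combination hN + d ^ 2 * s1 ^ 3 * (d * f1 - 1) * (q * f1 - s1) * (d + f1 * k) * hk
  have hodd : Odd k ∧ Odd s1 := by
    rw [hgk] at hg
    exact ⟨(Int.odd_mul.mp hg).1, Int.odd_pow' two_ne_zero |>.mp (Int.odd_mul.mp hg).2⟩
  -- the bound forces `s1` to be a unit
  have hsk : s = k * f1 * s1 := by rw [hs1, hk]; ring
  have exists_exact : ∀ r : ℕ, r.Prime → ∃ a : ℕ, (r : ℤ) ^ a ∣ s ∧ ¬ (r : ℤ) ^ (a + 1) ∣ s := fun r hr => by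
    have hfin : FiniteMultiplicity (r : ℤ) s :=
      Int.finiteMultiplicity_iff.mpr ⟨by simpa using hr.ne_one, hs0⟩
    exact ⟨multiplicity (r : ℤ) s, pow_multiplicity_dvd _ _,
      hfin.not_pow_dvd_of_multiplicity_lt (Nat.lt_succ_self _)⟩
  have hbad : ∀ x : ℤ, Odd x → (∀ r : ℕ, r.Prime → r ≠ 2 → ¬ (r : ℤ) ∣ x) → x.natAbs = 1 := by
    intro x hx hx'
    by_contra hne
    obtain ⟨r, hr, hrx⟩ := Nat.exists_prime_and_dvd hne
    refine hx' r hr ?_ (Int.natCast_dvd.mpr hrx)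
    rintro rfl
    exact (Nat.not_even_iff_odd.mpr (Int.natAbs_odd.mpr hx)) (even_iff_two_dvd.mpr hrx)
  have hone : s1.natAbs = 1 := hbad s1 hodd.2 fun r hr hr2 hrs => by
    obtain ⟨a, ha, ha'⟩ := exists_exact r hr
    have hp : Prime (r : ℤ) := Nat.prime_iff_prime_int.mp hr
    have hrf : IsCoprime ((r : ℤ) ^ a) f1 :=
      (hp.coprime_iff_not_dvd.mpr fun hrf => hp.not_isUnit
        (hc.isUnit_of_dvd' hrf hrs)).pow_left
    have h2 : (r : ℤ) ^ a ∣ k * s1 := hrf.dvd_of_dvd_mul_right (by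
      rw [show k * s1 * f1 = s by rw [hsk]; ring]; exact ha)
    refine hL r hr hr2 (hrs.trans ⟨d, by rw [mul_comm]; exact hs1⟩) a ha ha' ?_
    rw [hN1, pow_succ, show 2 * a = a + a by ring, pow_add]
    refine Dvd.dvd.mul_right (Dvd.dvd.mul_right ?_ _) _
    calc (r : ℤ) ^ a * (r : ℤ) ^ a * r ∣ k * s1 * (k * s1) * s1 := mul_dvd_mul (mul_dvd_mul h2 h2) hrs
      _ = k ^ 2 * s1 ^ 3 := by ring
  have hs1sq : s1 * s1 = 1 := by
    rcases Int.natAbs_eq s1 with h | h <;> rw [h, hone] <;> norm_num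
  have hgk' : g = k := by rw [hgk, pow_two, hs1sq, mul_one]
  set j := f1 * s1 with hj
  have hsj : s = g * j := by rw [hsk, hgk', hj]; ring
  have hej : e = s * j := by
    rw [hj, hf1, hs1]
    linear_combination (-(d * f1)) * hs1sq
  have hcop : IsCoprime g (j + 1) := by
    rw [Int.isCoprime_iff_nat_coprime]
    refine Nat.coprime_of_dvd' fun r hr hrg hrj => ?_
    exfalso
    have hrg' : (r : ℤ) ∣ g := Int.natCast_dvd.mpr hrg
    have hrj' : (r : ℤ) ∣ j + 1 := Int.natCast_dvd.mpr hrj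
    have hr2 : r ≠ 2 := by
      rintro rfl
      exact (Int.not_even_iff_odd.mpr hg) (even_iff_two_dvd.mpr hrg')
    have hp : Prime (r : ℤ) := Nat.prime_iff_prime_int.mp hr
    have hrf : ¬ (r : ℤ) ∣ f1 := fun h => hp.not_dvd_one (by
      have := dvd_sub hrj' (h.mul_right s1)
      rwa [show j + 1 - f1 * s1 = 1 by rw [hj]; ring] at this)
    obtain ⟨a, ha, ha'⟩ := exists_exact r hr
    have h2 : (r : ℤ) ^ a ∣ k * s1 := ((hp.coprime_iff_not_dvd.mpr hrf).pow_left).dvd_of_dvd_mul_right (by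
      rw [show k * s1 * f1 = s by rw [hsk]; ring]; exact ha)
    have h3 : (r : ℤ) ∣ q * f1 - s1 := by
      have e1 : q * f1 - s1 = s1 * (g * j ^ 2 - (j + 1)) := by
        have : q = g * j - 1 := by rw [← hsj]; omega
        rw [this, hj]
        linear_combination (f1 - g * f1 ^ 2 * s1) * hs1sq
      rw [e1]
      exact (dvd_sub (hrg'.mul_right _) hrj').mul_left _
    refine hL r hr hr2 (hrg'.trans ⟨j, hsj⟩) a ha ha' ?_
    rw [hN1, pow_succ, show 2 * a = a + a by ring, pow_add,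
      show k ^ 2 * s1 ^ 3 * (e - 1) * (q * f1 - s1) = k * s1 * (k * s1) * (q * f1 - s1) * (s1 * (e - 1)) by ring]
    exact (mul_dvd_mul (mul_dvd_mul h2 h2) h3).mul_right _
  have hq' : q = g * j - 1 := by rw [← hsj]; omega
  have hd1 : j - 1 ∣ g - 2 := by
    have h2 : s * (j - 1) ∣ s * (q - 1) := by
      rw [show s * (j - 1) = e - s by rw [hej]; ring, show s * (q - 1) = q ^ 2 - 1 by rw [hs]; ring]
      exact hd
    have h3 := (mul_dvd_mul_iff_left hs0).mp h2
    have h4 := dvd_sub h3 (dvd_mul_left (j - 1) g)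
    rwa [show q - 1 - g * (j - 1) = g - 2 by rw [hq']; ring] at h4
  have hd2 : q ∣ j ^ 2 + j - 1 := by
    have h2 := hmod.mul_left (j ^ 2)
    have h3 : q ∣ j ^ 2 * (g ^ 2 - g - 1) - (g * j - 1) * (g * j + 1 - j) :=
      dvd_sub h2 ((show q ∣ g * j - 1 by rw [← hq']).mul_right _)
    rw [show j ^ 2 * (g ^ 2 - g - 1) - (g * j - 1) * (g * j + 1 - j) = -(j ^ 2 + j - 1) by ring] at h3
    exact dvd_neg.mp h3
  exact tail_none hq (by omega) hg hd1 hd2 hcop

/-- An element of `ℤ` written as a power of `p` times an element prime to `p`. -/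
theorem exists_split {p : ℕ} (hp : p.Prime) {D : ℤ} (hD : D ≠ 0) : ∃ i : ℕ, ∃ d : ℤ, D = (p : ℤ) ^ i * d ∧
    ¬ (p : ℤ) ∣ d := by
  have hfin : FiniteMultiplicity (p : ℤ) D := Int.finiteMultiplicity_iff.mpr ⟨by simpa using hp.ne_one, hD⟩
  obtain ⟨d, hd, hd'⟩ := hfin.exists_eq_pow_mul_and_not_dvd
  exact ⟨_, d, hd, hd'⟩

/-- The two series and the case of index prime to `p`. -/
theorem qd_cases {p n : ℕ} (hp : p.Prime) (hn : 1 ≤ n) {q : ℤ} (hq : q = (p : ℤ) ^ n) (hq7 : 7 ≤ q) (hqo : Odd q)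
    {N B C : ℤ} (hN : Odd N) (hB0 : B ≠ 0) (hB1 : B ≠ 1) (hC : C * (q ^ 2 - B) = q ^ 2 * (B - 1))
    (heq : N * (B + q) ^ 2 = q * (q + 1) ^ 3 * B * (B - 1)) :
    (q ∣ N → N = q ^ 2 * (q ^ 2 + q + 1) ∨ N = q * (q + 2) * (q ^ 2 + q - 1)) ∧
      (¬ (p : ℤ) ∣ N → ∃ e g : ℤ, Odd g ∧ e * g = (q + 1) ^ 2 ∧
        N * e ^ 2 = (q + 1) ^ 3 * (e - 1) * (q * e - (q + 1)) ∧ e - (q + 1) ∣ q ^ 2 - 1) := by
  have hpp : Prime (p : ℤ) := Nat.prime_iff_prime_int.mp hp
  have hp0 : (p : ℤ) ≠ 0 := by simpa using hp.ne_zero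
  have hpq : (p : ℤ) ∣ q := hq ▸ dvd_pow_self _ (by omega)
  have hq0 : q ≠ 0 := by omega
  have hs0 : q + 1 ≠ 0 := by omega
  have hps : ¬ (p : ℤ) ∣ q + 1 := fun h => hpp.not_dvd_one (by simpa using dvd_sub h hpq)
  have cop : ∀ x : ℤ, ¬ (p : ℤ) ∣ x → ∀ k : ℕ, IsCoprime ((p : ℤ) ^ k) x := fun x hx k =>
    (hpp.coprime_iff_not_dvd.mpr hx).pow_left
  have copq : ∀ x : ℤ, ¬ (p : ℤ) ∣ x → IsCoprime q x := fun x hx => hq ▸ cop x hx n
  have hf0 : B + q ≠ 0 := fun h => by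
    rw [h] at heq
    simp [hq0, hs0, hB0, sub_eq_zero, hB1] at heq
  obtain ⟨D, rfl⟩ : ∃ D, B = q ^ 2 + D := ⟨B - q ^ 2, by ring⟩
  have hD0 : D ≠ 0 := fun h => by
    subst h
    simp [hq0, sub_eq_zero] at hC
    exact hB1 (by simpa using hC)
  have hDdvd : D ∣ q ^ 2 * (q ^ 2 - 1) := ⟨-C - q ^ 2, by linear_combination -hC⟩
  obtain ⟨i, d, hDd, hpd⟩ := exists_split hp hD0
  have hi2 : i ≤ 2 * n := by
    by_contra h
    have h1 : (p : ℤ) ^ (2 * n) * p ∣ q ^ 2 * (q ^ 2 - 1) := by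
      rw [← pow_succ]
      exact (pow_dvd_pow _ (by omega)).trans ((dvd_mul_right _ d).trans (hDd ▸ hDdvd))
    rw [show q ^ 2 = (p : ℤ) ^ (2 * n) by rw [hq, ← pow_mul, mul_comm]] at h1
    have h2 := (mul_dvd_mul_iff_left (pow_ne_zero _ hp0)).mp h1
    exact hpp.not_dvd_one (by simpa using dvd_sub (dvd_pow_self (p : ℤ) (show 2 * n ≠ 0 by omega)) h2)
  have hd1 : d ∣ q ^ 2 - 1 := by
    refine (IsCoprime.pow_right (n := 2) (copq d hpd).symm).dvd_of_dvd_mul_left ?_
    exact (dvd_mul_left d _).trans (hDd ▸ hDdvd)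
  -- the middle range
  have middle : ∀ {F U : ℤ} {j : ℕ}, ¬ (p : ℤ) ∣ F → ¬ (p : ℤ) ∣ U → 0 < j → j < n →
      N * F ^ 2 = (p : ℤ) ^ j * U → ¬ q ∣ N ∧ (p : ℤ) ∣ N := fun {F U j} hF hU hj hjn h => by
    constructor
    · intro hqN
      refine hU (((mul_dvd_mul_iff_left (pow_ne_zero j hp0)).mp ?_))
      rw [← pow_succ, ← h]
      exact ((pow_dvd_pow _ (by omega)).trans (hq ▸ hqN)).mul_right _
    · exact (hpp.dvd_or_dvd (h ▸ (dvd_pow_self _ hj.ne').mul_right U : (p : ℤ) ∣ N * F ^ 2)).resolve_right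
        fun h' => hF (hpp.dvd_of_dvd_pow h')
  rcases lt_trichotomy i n with hin | rfl | hin
  · rcases Nat.eq_zero_or_pos i with rfl | hi0
    · -- `p` prime to `D`
      simp only [pow_zero, one_mul] at hDd
      subst hDd
      have hfp : ¬ (p : ℤ) ∣ q * (q + 1) + D := fun h => hpd (by
        simpa using dvd_sub h (hpq.mul_right (q + 1)))
      have hfB : IsCoprime (q * (q + 1) + D) (q ^ 2 + D) := by
        have h1 : IsCoprime q (q * (q + 1) + D) := copq _ hfp
        have h2 := h1.symm.neg_right.add_mul_left_right 1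
        rwa [show -q + (q * (q + 1) + D) * 1 = q ^ 2 + D by ring] at h2
      obtain ⟨g, hg, hfg⟩ := core (s := q + 1) (f := q * (q + 1) + D) (X := q * (q ^ 2 + D)) (Y := q ^ 2 + D - 1)
        hs0 hN (by linear_combination heq) ((copq _ hfp).symm.mul_right hfB) ⟨1, by ring⟩
      have hD' := regular_case (by omega) hqo hd1 hg hfg
      refine ⟨fun _ => Or.inl ?_, fun hpN => absurd ?_ hpN⟩
      · subst hD'
        refine mul_right_cancel₀ (pow_ne_zero 2 (pow_ne_zero 2 hs0)) ?_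
        linear_combination heq
      · have h1 : (p : ℤ) ∣ N * (q * (q + 1) + D) ^ 2 := by
          rw [show N * (q * (q + 1) + D) ^ 2 = q * ((q + 1) ^ 3 * (q ^ 2 + D) * (q ^ 2 + D - 1)) by
            linear_combination heq]
          exact hpq.mul_right _
        exact (hpp.dvd_or_dvd h1).resolve_right fun h => hfp (hpp.dvd_of_dvd_pow h)
    · obtain ⟨r, hr⟩ : ∃ r, n = i + r := ⟨n - i, by omega⟩
      have hqi : q = (p : ℤ) ^ i * (p : ℤ) ^ r := by rw [hq, hr, pow_add]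
      have hpr : (p : ℤ) ∣ (p : ℤ) ^ r := dvd_pow_self _ (by omega)
      have := middle (F := (p : ℤ) ^ r * (q + 1) + d) (U := (q + 1) ^ 3 * (q * (p : ℤ) ^ r + d) * (q ^ 2 + D - 1))
        (j := r) (fun h => hpd (by simpa using dvd_sub h (hpr.mul_right (q + 1))))
        (fun h => by
          rcases hpp.dvd_or_dvd h with h | h
          · rcases hpp.dvd_or_dvd h with h | h
            · exact hps (hpp.dvd_of_dvd_pow h)
            · exact hpd (by simpa using dvd_sub h (hpr.mul_left q))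
          · have hd2 : (p : ℤ) ∣ q ^ 2 + D := dvd_add (dvd_pow hpq two_ne_zero)
              (hDd ▸ (dvd_pow_self _ hi0.ne').mul_right d)
            exact hpp.not_dvd_one (by simpa using dvd_sub hd2 h))
        (by omega) (by omega) (by
          refine mul_left_cancel₀ (pow_ne_zero 2 (pow_ne_zero i hp0)) ?_
          rw [hDd, hqi] at heq ⊢
          linear_combination heq)
      exact ⟨fun h => absurd h this.1, fun h => absurd this.2 h⟩
  · -- `D = q d`
    rw [← hq] at hDd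
    subst hDd
    set e := q + 1 + d with he
    have hU : ¬ (p : ℤ) ∣ (q + 1) ^ 3 * (q + d) * (q ^ 2 + q * d - 1) := fun h => by
      rcases hpp.dvd_or_dvd h with h | h
      · rcases hpp.dvd_or_dvd h with h | h
        · exact hps (hpp.dvd_of_dvd_pow h)
        · exact hpd (by simpa using dvd_sub h hpq)
      · exact hpp.not_dvd_one (by
          simpa using dvd_sub (dvd_add (dvd_pow hpq two_ne_zero) (hpq.mul_right d)) h)
    have hNe : N * e ^ 2 = (q + 1) ^ 3 * (q + d) * (q ^ 2 + q * d - 1) :=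
      mul_left_cancel₀ (pow_ne_zero 2 hq0) (by rw [he]; linear_combination heq)
    refine ⟨fun h => absurd ((hpq.trans h).mul_right _) (hNe ▸ hU), fun _ => ?_⟩
    have heX : IsCoprime e (e - 1) := ⟨1, -1, by ring⟩
    obtain ⟨g, hg, heg⟩ := core (s := q + 1) (f := e) (X := e - 1) (Y := q * e - (q + 1)) hs0 hN
      (by rw [hNe, he]; ring) heX ⟨q, by ring⟩
    refine ⟨e, g, hg, heg, by rw [hNe, he]; ring, ?_⟩
    rwa [show e - (q + 1) = d by rw [he]; ring]
  · obtain ⟨r, hr⟩ : ∃ r, i = n + r := ⟨i - n, by omega⟩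
    have hDr : D = q * (p : ℤ) ^ r * d := by rw [hDd, hr, pow_add, hq]
    rcases lt_or_eq_of_le hi2 with hlt | heq2
    · obtain ⟨k, hk⟩ : ∃ k, n = r + k := ⟨n - r, by omega⟩
      have hqk : q = (p : ℤ) ^ r * (p : ℤ) ^ k := by rw [hq, hk, pow_add]
      have hpk : (p : ℤ) ∣ (p : ℤ) ^ k := dvd_pow_self _ (by omega)
      have hprr : (p : ℤ) ∣ (p : ℤ) ^ r := dvd_pow_self _ (by omega)
      have := middle (F := q + 1 + (p : ℤ) ^ r * d) (U := (q + 1) ^ 3 * ((p : ℤ) ^ k + d) * (q ^ 2 + D - 1))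
        (j := r) (fun h => hps (by simpa using dvd_sub h (hprr.mul_right d)))
        (fun h => by
          rcases hpp.dvd_or_dvd h with h | h
          · rcases hpp.dvd_or_dvd h with h | h
            · exact hps (hpp.dvd_of_dvd_pow h)
            · exact hpd (by simpa using dvd_sub h hpk)
          · have hd2 : (p : ℤ) ∣ q ^ 2 + D := dvd_add (dvd_pow hpq two_ne_zero)
              (hDr ▸ (hpq.mul_right _).mul_right d)
            exact hpp.not_dvd_one (by simpa using dvd_sub hd2 h))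
        (by omega) (by omega) (by
          refine mul_left_cancel₀ (pow_ne_zero 2 hq0) ?_
          rw [hDr] at heq ⊢
          rw [hqk] at heq ⊢
          linear_combination heq)
      exact ⟨fun h => absurd h this.1, fun h => absurd this.2 h⟩
    · have hD2 : D = q ^ 2 * d := by rw [hDd, heq2, hq, ← pow_mul, mul_comm n]
      subst hD2
      set f := q * (1 + d) + 1 with hf
      have hfp : ¬ (p : ℤ) ∣ f := fun h => hpp.not_dvd_one (by simpa [hf] using dvd_sub h (hpq.mul_right (1 + d)))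
      have hNf : N * f ^ 2 = (q + 1) ^ 3 * (q * (1 + d)) * (q ^ 2 * (1 + d) - 1) :=
        mul_left_cancel₀ (pow_ne_zero 2 hq0) (by rw [hf]; linear_combination heq)
      obtain ⟨g, hg, hfg⟩ := core (s := q + 1) (f := f) (X := q * (1 + d)) (Y := q ^ 2 * (1 + d) - 1) hs0 hN hNf
        ⟨1, -1, by rw [hf]; ring⟩ ⟨q, by rw [hf]; ring⟩
      have hf2 := two_n_case hq7 hqo ⟨1 + d, by rw [hf]; ring⟩ hfg hg
      refine ⟨fun _ => Or.inr ?_, fun hpN => absurd ?_ hpN⟩
      · have hd2 : 1 + d = q + 2 := mul_left_cancel₀ hq0 (by rw [hf] at hf2; linear_combination hf2)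
        rw [hf2, hd2] at hNf
        refine mul_right_cancel₀ (pow_ne_zero 2 (pow_ne_zero 2 hs0)) ?_
        linear_combination hNf
      · have h1 : (p : ℤ) ∣ N * f ^ 2 := by
          rw [hNf]; exact ((hpq.mul_right _).mul_left _).mul_right _
        exact (hpp.dvd_or_dvd h1).resolve_right fun h => hfp (hpp.dvd_of_dvd_pow h)

end CfsgLib.GL2Cent.Arith
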