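import Cfsg.Agent.Lib.GL2Cent.PairGroup

/-!
The series with index `q (q + 2) (q² + q - 1)` does not occur: there the product of two commuting root groups is a
Sylow subgroup whose normaliser has index incongruent to one modulo `p`.
-/

set_option autoImplicit false
set_option linter.unusedSectionVars false
set_option linter.style.haveILetI false

namespace CfsgLib.GL2Cent

open Matrix
open scoped Pointwise

variable {G : Type*} [Group G] {F : Type*} [Field F]

/-- Fusion inside an abelian Sylow subgroup. -/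
theorem exists_normalizer_conj [Finite G] {p : ℕ} [Fact p.Prime] (P : Sylow p G) {A B : Subgroup G}
    (hab : ∀ x ∈ (P : Subgroup G), ∀ y ∈ (P : Subgroup G), x * y = y * x) (hA : A ≤ (P : Subgroup G))
    (hB : B ≤ (P : Subgroup G)) {g : G} (hg : A.map (MulAut.conj g).toMonoidHom = B) :
    ∃ m ∈ Subgroup.normalizer ((P : Subgroup G) : Set G), A.map (MulAut.conj m).toMonoidHom = B := by
  have h1 : (P : Subgroup G) ≤ Subgroup.centralizer (B : Set G) := fun x hx =>
    Subgroup.mem_centralizer_iff.mpr fun y hy => hab y (hB hy) x hx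
  have h2 : ((g • P : Sylow p G) : Subgroup G) ≤ Subgroup.centralizer (B : Set G) := by
    rintro _ ⟨x, hx, rfl⟩
    refine Subgroup.mem_centralizer_iff.mpr fun y hy => ?_
    rw [SetLike.mem_coe, ← hg] at hy
    obtain ⟨a, ha, rfl⟩ := hy
    show g * a * g⁻¹ * (g * x * g⁻¹) = g * x * g⁻¹ * (g * a * g⁻¹)
    calc g * a * g⁻¹ * (g * x * g⁻¹) = g * (a * x) * g⁻¹ := by group
      _ = g * (x * a) * g⁻¹ := by rw [hab a (hA ha) x hx]
      _ = _ := by group
  obtain ⟨c, hc⟩ := MulAction.exists_smul_eq (Subgroup.centralizer (B : Set G)) ((g • P).subtype h2) (P.subtype h1)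
  have hP : ((c : G) * g) • P = P := by
    rw [mul_smul]
    exact Sylow.subtype_injective (hP := by
      intro x hx
      obtain ⟨y, hy, rfl⟩ := hx
      exact mul_mem (mul_mem c.2 (h2 hy)) (inv_mem c.2)) (hQ := h1) ((Sylow.smul_subtype h2 c).symm.trans hc)
  refine ⟨(c : G) * g, Sylow.smul_eq_iff_mem_normalizer.mp hP, ?_⟩
  rw [show (MulAut.conj ((c : G) * g)).toMonoidHom = (MulAut.conj (c : G)).toMonoidHom.comp
    (MulAut.conj g).toMonoidHom from MonoidHom.ext fun x => by simp [MulAut.conj_apply, mul_assoc], ← Subgroup.map_map, hg]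
  have hcb : ∀ b ∈ B, (c : G) * b * (c : G)⁻¹ = b := fun b hb => by
    rw [← Subgroup.mem_centralizer_iff.mp c.2 b hb, mul_inv_cancel_right]
  ext x
  refine ⟨fun ⟨b, hb, e⟩ => ?_, fun hx => ⟨x, hx, hcb x hx⟩⟩
  rw [← e]
  show (c : G) * b * (c : G)⁻¹ ∈ B
  rw [hcb b hb]; exact hb

namespace Hyp

variable {f : GL (Fin 2) F →* G} (hf : Hyp f) [Finite G] [Fintype F]
include hf

theorem card_range_eq : Nat.card f.range = Fintype.card F * (Fintype.card F + 1) * Nat.card (tor f) := by
  refine Nat.eq_of_mul_eq_mul_right (Nat.card_pos (α := f.ker)) ?_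
  rw [hf.card_cent, mul_assoc _ (Nat.card (tor f)), hf.card_tor]
  ring

theorem card_group : Nat.card G =
    (Subgroup.centralizer {tt f}).index * (Fintype.card F * (Fintype.card F + 1) * Nat.card (tor f)) := by
  rw [← hf.card_range_eq, hf.range, mul_comm, Subgroup.card_mul_index]

variable {p : ℕ} [hp : Fact p.Prime] {n : ℕ} (hq : Fintype.card F = p ^ n) (hn : n ≠ 0)
include hq hn

theorem not_dvd_tor : ¬ p ∣ Nat.card (tor f) := fun h => by
  have h' : p ∣ Nat.card (tor f) * Nat.card f.ker := h.mul_right _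
  rw [hf.card_tor] at h'
  exact not_dvd_pred hq hn (hp.out.dvd_of_dvd_pow h')

end Hyp

namespace Pair

variable {f f' : GL (Fin 2) F →* G} (h : Pair f f') (hc : Adj f f') [Finite G] [IsSimpleGroup G] [Fintype F]
  (h2 : (2 : F) ≠ 0) {p : ℕ} [hp : Fact p.Prime] {n : ℕ} (hq : Fintype.card F = p ^ n) (hn : n ≠ 0)
include h hc h2 hq hn

theorem tor_le_normalizer : tor f ≤ Subgroup.normalizer (qq f f' : Set G) := fun _ hk =>
  Subgroup.mem_normalizer_fintype fun _ hx => h.qq_conj_tor hc h2 hk hx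

theorem qq_inf_third {x : G} (hx : x ∈ qq f f') (hxc : x * (tt f * tt f') = tt f * tt f' * x) : x = 1 := by
  have e := h.qq_inv_third hc h2 hx
  rw [← hxc, mul_inv_cancel_right] at e
  obtain ⟨k, hk⟩ := (h.qq_isPGroup hc h2 hq hn) ⟨x, hx⟩
  have hk' : x ^ p ^ k = 1 := congrArg Subtype.val hk
  have h2' : x ^ 2 = 1 := by rw [pow_two]; exact eq_inv_iff_mul_eq_one.mp e
  have hodd : Nat.Coprime (p ^ k) 2 := by
    refine ((Nat.coprime_primes hp.out Nat.prime_two).mpr fun e2 => h2 ?_).pow_left k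
    have h0 := FiniteField.cast_card_eq_zero F
    rw [hq, e2, Nat.cast_pow, Nat.cast_ofNat] at h0
    exact pow_eq_zero_iff hn |>.mp h0
  exact orderOf_eq_one_iff.mp (Nat.eq_one_of_dvd_coprimes hodd (orderOf_dvd_of_pow_eq_one hk')
    (orderOf_dvd_of_pow_eq_one h2'))

/-- A root group of the third centraliser normalising the product gives a subgroup of order `q ^ 3`. -/
theorem triple_card {g : GL (Fin 2) F →* G} (hg : Hyp g) (ht : tt g = tt f * tt f')
    (hle : root g ≤ Subgroup.normalizer (qq f f' : Set G)) :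
    IsPGroup p (qq f f' ⊔ root g : Subgroup G) ∧ Nat.card (qq f f' ⊔ root g : Subgroup G) = Fintype.card F ^ 3 := by
  have hpQ := h.qq_isPGroup hc h2 hq hn
  refine ⟨hpQ.to_sup_of_normal_left' (IsPGroup.of_card (n := n) (hg.card_root.trans hq)) hle, ?_⟩
  have e := CfsgLib.CentrallyLarge.card_sup_mul_card_inf hle
  have hbot : qq f f' ⊓ root g = ⊥ := (Subgroup.eq_bot_iff_forall _).mpr fun x hx =>
    h.qq_inf_third hc h2 hq hn hx.1 (by rw [← ht]; exact root_tt_mem hg hx.2)
  rw [hbot, Subgroup.card_bot, mul_one, h.qq_card hc h2, hg.card_root] at e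
  rw [e]; ring

/-- The series with a Sylow subgroup of order `q ^ 2`. -/
theorem no_meleven (hq7 : 7 ≤ Fintype.card F)
    (hN : (Subgroup.centralizer ({tt f} : Set G)).index =
      Fintype.card F * (Fintype.card F + 2) * (Fintype.card F ^ 2 + Fintype.card F - 1)) : False := by
  set q := Fintype.card F with hq'
  have hp2 : p ≠ 2 := fun e => h2 (by
    have h0 := FiniteField.cast_card_eq_zero F
    rw [← hq', hq, e, Nat.cast_pow, Nat.cast_ofNat] at h0
    exact pow_eq_zero_iff hn |>.mp h0)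
  have hpq : p ∣ q := hq ▸ dvd_pow_self p hn
  have hG := h.hf.card_group
  rw [hN, ← hq'] at hG
  have hcop : (p : ℕ).Coprime ((q + 2) * (q ^ 2 + q - 1) * (q + 1) * Nat.card (tor f)) := by
    refine (Nat.Prime.coprime_iff_not_dvd hp.out).mpr fun hd => ?_
    rcases hp.out.dvd_mul.mp hd with hd | hd
    · rcases hp.out.dvd_mul.mp hd with hd | hd
      · rcases hp.out.dvd_mul.mp hd with hd | hd
        · have := Nat.dvd_sub hd hpq
          rw [Nat.add_sub_cancel_left] at this
          exact hp2 ((Nat.prime_dvd_prime_iff_eq hp.out Nat.prime_two).mp this)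
        · have h1 : p ∣ q ^ 2 + q := dvd_add (dvd_pow hpq two_ne_zero) hpq
          have := Nat.dvd_sub h1 hd
          rw [Nat.sub_sub_self (by nlinarith : 1 ≤ q ^ 2 + q)] at this
          exact hp.out.not_dvd_one this
      · exact Hyp.not_dvd_succ hq hn (hq' ▸ hd)
    · exact h.hf.not_dvd_tor hq hn hd
  -- no subgroup of order `q ^ 3`
  have hcube : ∀ P : Subgroup G, IsPGroup p P → q ^ 2 < Nat.card P → False := fun P hP hlt => by
    obtain ⟨k, hk⟩ := IsPGroup.iff_card.mp hP
    have hd : p ^ k ∣ q ^ 2 * ((q + 2) * (q ^ 2 + q - 1) * (q + 1) * Nat.card (tor f)) := by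
      rw [← hk]
      refine (Subgroup.card_subgroup_dvd_card P).trans (dvd_of_eq ?_)
      rw [hG]; ring
    have := Nat.le_of_dvd (pow_pos (by omega) 2) ((hcop.pow_left k).dvd_of_dvd_mul_right hd)
    omega
  have hroot : ∀ g : GL (Fin 2) F →* G, Hyp g → tt g = tt f * tt f' →
      root g ≤ Subgroup.normalizer (qq f f' : Set G) → False := fun g hg ht hle => by
    obtain ⟨h1, h3⟩ := h.triple_card hc h2 hq hn hg ht hle
    refine hcube _ h1 ?_
    rw [h3]
    exact Nat.pow_lt_pow_right (by omega) (by omega)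
  have hno : ¬ ∃ g : GL (Fin 2) F →* G, Pair f g ∧ Pair f' g ∧ tt g = tt f * tt f' ∧ Adj f g ∧ Adj f' g := by
    rintro ⟨g, hg, -, ht, ha, hb⟩
    refine hroot g hg.hf' ht fun b hb' => Subgroup.centralizer_le_normalizer _
      (Subgroup.mem_centralizer_iff.mpr fun x hx => ?_)
    obtain ⟨x1, hx1, x2, hx2, rfl⟩ := (qq_mem hc).mp hx
    exact (Commute.mul_left (ha x1 hx1 b hb') (hb x2 hx2 b hb')).eq
  have hM := h.card_normalizer hc h2 hq hn hno
  obtain ⟨g, hg, -, ht⟩ := h.exists_third h2
  set M := Subgroup.normalizer (qq f f' : Set G) with hMdef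
  set L := M ⊓ Subgroup.centralizer {tt f * tt f'} with hL
  have hLg : L ≤ g.range := by rw [hg.hf'.range, ht]; exact inf_le_right
  set D := L.comap g with hD
  have hK : ∀ a b : Fˣ, dg a b ∈ D := fun a b => Subgroup.mem_comap.mpr
    ⟨h.tor_le_normalizer hc h2 hq hn (hg.htor ▸ mem_tor.mpr ⟨a, b, rfl⟩), by
      rw [← ht, ← hg.hf'.range]; exact ⟨_, rfl⟩⟩
  have hDnr : ¬ HasRoot D := by
    rintro (hr | hr)
    · exact hroot g hg.hf' ht fun x hx => by
        obtain ⟨β, rfl⟩ := mem_root.mp hx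
        exact (hr β).1
    · refine hroot (flip' g) hg.hf'.flip'_hyp ((tt_flip' g).trans ht) fun x hx => ?_
      obtain ⟨β, rfl⟩ := mem_root.mp hx
      rw [flip'_xr]
      exact (hr β).1
  have hDM : D ≤ monom := fun m hm => by
    by_cases hd : Diag m
    · obtain ⟨a, b, rfl⟩ := eq_dg hd
      exact Subgroup.mem_sup_left ⟨(a, b), rfl⟩
    · have ha : Anti m := not_not.mp fun ha => hDnr (root_of_mixed hK h2 hq7 hm ⟨hd, ha⟩)
      have hdw : Diag (m * ww) := by constructor <;> simp [mul_apply', ww, ha.1, ha.2]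
      obtain ⟨a, b, e⟩ := eq_dg hdw
      rw [show m = m * ww * ww by rw [mul_assoc, ww_mul_self, mul_one], e]
      exact mul_mem (Subgroup.mem_sup_left ⟨(a, b), rfl⟩) (Subgroup.mem_sup_right (Subgroup.mem_zpowers _))
  -- `Q` is a Sylow subgroup
  obtain ⟨P, hP⟩ := (h.qq_isPGroup hc h2 hq hn).exists_le_sylow
  have hPQ : (P : Subgroup G) = qq f f' := (Subgroup.eq_of_le_of_card_ge hP (by
    rw [h.qq_card hc h2]; exact not_lt.mp fun hlt => hcube _ P.2 hlt)).symm
  obtain ⟨c0, -, hc0, -⟩ := h.exists_conj_root h2 hq hn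
  have hnm := exists_normalizer_conj P (A := root f) (B := root f')
    (fun x hx y hy => (Subgroup.mem_centralizer_iff.mp (h.qq_le_cent hc h2 (hPQ ▸ hy)) x (hPQ ▸ hx)))
    (hPQ.symm ▸ le_sup_left) (hPQ.symm ▸ le_sup_right) hc0
  rw [hPQ] at hnm
  obtain ⟨m, hm, hmA⟩ := hnm
  have hcardL : Nat.card L = 2 * Nat.card (tor f) := by
    have hDtop : D = monom := by
      refine le_antisymm hDM (sup_le ?_ (Subgroup.zpowers_le.mpr ?_))
      · rintro _ ⟨⟨a, b⟩, rfl⟩; exact hK a b
      by_contra hww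
      -- then the normaliser is `Q H`, which does not fuse the two root groups
      have hLtor : L ≤ tor f := fun x hx => by
        obtain ⟨v, rfl⟩ := hLg hx
        have hv : v ∈ D := hx
        by_cases hd : Diag v
        · obtain ⟨a, b, rfl⟩ := eq_dg hd
          exact hg.htor ▸ mem_tor.mpr ⟨a, b, rfl⟩
        · exfalso
          have ha : Anti v := not_not.mp fun ha => hDnr (root_of_mixed hK h2 hq7 hv ⟨hd, ha⟩)
          have hdw : Diag (ww * v) := by constructor <;> simp [mul_apply', ww, ha.1, ha.2]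
          obtain ⟨a, b, e⟩ := eq_dg hdw
          refine hww ?_
          rw [show ww = ww * v * v⁻¹ by group, e]
          exact mul_mem (hK a b) (inv_mem hv)
      have hsup : qq f f' ⊔ tor f = M := by
        refine Subgroup.eq_of_le_of_card_ge (sup_le Subgroup.le_normalizer (h.tor_le_normalizer hc h2 hq hn)) ?_
        rw [hM]
        refine le_trans (Nat.mul_le_mul_left _ (Subgroup.card_le_of_le hLtor)) (Nat.le_of_dvd Nat.card_pos ?_)
        rw [← h.qq_card hc h2]
        refine Nat.Coprime.mul_dvd_of_dvd_of_dvd ?_ (Subgroup.card_dvd_of_le le_sup_left)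
          (Subgroup.card_dvd_of_le le_sup_right)
        rw [h.qq_card hc h2, ← hq', hq, ← pow_mul]
        exact ((Nat.Prime.coprime_iff_not_dvd hp.out).mpr (h.hf.not_dvd_tor hq hn)).pow_left _
      have hfix : M ≤ Subgroup.normalizer (root f : Set G) := by
        rw [← hsup]
        refine sup_le (fun x hx => ?_) fun x hx => Subgroup.mem_normalizer_fintype fun y hy =>
          h.hf.tor_conj_root h2 hx hy
        refine Subgroup.centralizer_le_normalizer _ (h.cent_qq_le hc h2 (h.qq_le_cent hc h2 hx))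
      have hA : root f' ≤ root f := by
        rw [← hmA]
        rintro _ ⟨x, hx, rfl⟩
        exact (Subgroup.mem_normalizer_iff.mp (hfix hm) x).mp hx
      obtain ⟨x, hx, hx1⟩ : ∃ x ∈ root f', x ≠ 1 := by
        refine ⟨f' (xr 1), mem_root.mpr ⟨1, rfl⟩, fun e => one_ne_zero (h.hf'.root_inj e)⟩
      exact hx1 (h.root_cent_eq_one h2 (hA hx) (root_tt_mem h.hf' hx))
    have e : L = (g.comp D.subtype).range := by
      rw [MonoidHom.range_comp, Subgroup.range_subtype, hD, Subgroup.map_comap_eq_self hLg]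
    have hk : Nat.card L * Nat.card g.ker = Nat.card D := by
      rw [e]
      exact card_range_comp g D.subtype D.subtype_injective (by
        rw [Subgroup.range_subtype]; exact g.ker_le_comap L)
    rw [hDtop, card_monom, ← hg.hf'.card_tor, hg.htor] at hk
    exact Nat.eq_of_mul_eq_mul_right (Nat.card_pos (α := g.ker)) (hk.trans (mul_assoc _ _ _).symm)
  -- the number of Sylow subgroups
  have hidx := M.card_mul_index
  rw [hM, hcardL, ← hq', hG] at hidx
  have h2k : 2 * M.index = (q + 2) * (q ^ 2 + q - 1) * (q + 1) := by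
    refine Nat.eq_of_mul_eq_mul_left (mul_pos (pow_pos (show 0 < q by omega) 2) (Nat.card_pos (α := tor f))) ?_
    linarith
  have hsyl := card_sylow_modEq_one p G
  rw [Sylow.card_eq_index_normalizer P] at hsyl
  change (Subgroup.normalizer ((P : Subgroup G) : Set G)).index ≡ 1 [MOD p] at hsyl
  rw [hPQ, ← hMdef, ← ZMod.natCast_eq_natCast_iff, Nat.cast_one] at hsyl
  have hcast := congrArg (fun k : ℕ => (k : ZMod p)) h2k
  have hq0 : (q : ZMod p) = 0 := (ZMod.natCast_eq_zero_iff _ _).mpr hpq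
  push_cast [Nat.cast_sub (show 1 ≤ q ^ 2 + q by nlinarith)] at hcast
  rw [hsyl, hq0] at hcast
  have h4 : ((4 : ℕ) : ZMod p) = 0 := by push_cast; linear_combination hcast
  exact hp2 ((Nat.prime_dvd_prime_iff_eq hp.out Nat.prime_two).mp
    (hp.out.dvd_of_dvd_pow (n := 2) ((ZMod.natCast_eq_zero_iff _ _).mp h4)))

end Pair

end CfsgLib.GL2Cent
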