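import Cfsg.Agent.Lib.GL2Cent.Cases
import Cfsg.Agent.Lib.GL2Cent.MEleven

/-!
The Borel subgroup of the centraliser as the normaliser of its root group.
-/

set_option autoImplicit false
set_option linter.unusedSectionVars false
set_option linter.style.haveILetI false

namespace CfsgLib.GL2Cent

open Matrix

variable {G : Type*} [Group G] {F : Type*} [Field F]

namespace Hyp

variable {f : GL (Fin 2) F →* G} (hf : Hyp f) [Finite G] [IsSimpleGroup G] [Fintype F] (h2 : (2 : F) ≠ 0)
include hf h2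

omit h2 in
theorem upper_of_norm {g : GL (Fin 2) F} (hg : f g * f (xr 1) * (f g)⁻¹ ∈ root f) : g.1 1 0 = 0 := by
  obtain ⟨β, hβ⟩ := mem_root.mp hg
  have hz : (xr β * g)⁻¹ * (g * xr 1) ∈ f.ker := f.mem_ker.mpr (by
    rw [map_mul, map_inv, map_mul, map_mul, hβ, inv_mul_cancel_right, inv_mul_cancel])
  obtain ⟨a, ha⟩ := exists_scalar (hf.kerc hz)
  have e : g * xr 1 = xr β * g * dg a a := by rw [← ha, mul_inv_cancel_left]
  have hd := congrArg (fun v : GL (Fin 2) F => Matrix.GeneralLinearGroup.det v) e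
  have dx : ∀ γ : F, Matrix.GeneralLinearGroup.det (xr γ) = 1 := fun γ => Units.ext (by simp [xr, Matrix.det_fin_two])
  have dd : Matrix.GeneralLinearGroup.det (dg a a) = a * a := Units.ext (by simp [dg, Matrix.det_fin_two])
  simp only [map_mul, dx, dd, one_mul, mul_one] at hd
  have ha2 : a * a = 1 := mul_eq_left.mp hd.symm
  rw [hf.eq_one_of_unit (by rw [← ha]; exact f.mem_ker.mp hz) ha2, dg_one, mul_one] at e
  simpa [mul_apply', xr] using entry e 1 1

theorem borel_le {x : G} (hc : x * tt f = tt f * x) (hn : x * f (xr 1) * x⁻¹ ∈ root f) : x ∈ root f ⊔ tor f := by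
  obtain ⟨g, rfl⟩ := hf.mem_cent.mp hc
  obtain ⟨a, b, e⟩ := tri_cases (g := g) (hf.upper_of_norm hn)
  rw [e, map_mul]
  exact mul_mem (Subgroup.mem_sup_right (mem_tor.mpr ⟨a, b, rfl⟩)) (Subgroup.mem_sup_left (mem_root.mpr ⟨_, rfl⟩))

theorem card_borel : Nat.card (root f ⊔ tor f : Subgroup G) = Fintype.card F * Nat.card (tor f) := by
  have e := CfsgLib.CentrallyLarge.card_sup_mul_card_inf (H := root f) (K := tor f)
    fun k hk => Subgroup.mem_normalizer_fintype fun x hx => hf.tor_conj_root h2 hk hx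
  have hbot : root f ⊓ tor f = ⊥ := (Subgroup.eq_bot_iff_forall _).mpr fun x hx => by
    obtain ⟨β, rfl⟩ := mem_root.mp hx.1
    rw [hf.xr_mem_tor hx.2, xr_zero, map_one]
  rwa [hbot, Subgroup.card_bot, mul_one, hf.card_root] at e

/-- The normaliser in the centraliser of a `p`-group whose centralised part is the root group. -/
theorem card_cent_norm_dvd {p : ℕ} [hp : Fact p.Prime] {n : ℕ} (hq : Fintype.card F = p ^ n) (hn : n ≠ 0)
    {E : Subgroup G} (hE : IsPGroup p E) (hr : root f ≤ E) :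
    Nat.card (Subgroup.normalizer (E : Set G) ⊓ Subgroup.centralizer {tt f} : Subgroup G) ∣
      Fintype.card F * Nat.card (tor f) := by
  rw [← hf.card_borel h2]
  refine Subgroup.card_dvd_of_le fun x hx => ?_
  have hxc := Subgroup.mem_centralizer_singleton_iff.mp hx.2
  refine hf.borel_le h2 hxc ?_
  have hroot : E ⊓ Subgroup.centralizer {tt f} = root f := by
    refine (Subgroup.eq_of_le_of_card_ge (le_inf hr fun y hy =>
      Subgroup.mem_centralizer_singleton_iff.mpr (root_tt_mem hf hy)) ?_).symm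
    rw [hf.card_root]
    exact hf.pgroup_card_le hq hn (hE.to_le inf_le_left) (hf.range.symm ▸ inf_le_right)
  rw [← hroot]
  exact ⟨(Subgroup.mem_normalizer_iff.mp hx.1 _).mp (hr (mem_root.mpr ⟨1, rfl⟩)),
    (Subgroup.centralizer {tt f}).mul_mem ((Subgroup.centralizer {tt f}).mul_mem hx.2
      (Subgroup.mem_centralizer_singleton_iff.mpr (hf.root_tt 1))) ((Subgroup.centralizer {tt f}).inv_mem hx.2)⟩

end Hyp

end CfsgLib.GL2Cent
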