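import Cfsg.Agent.Lib.GL2Cent.Dichotomy

/-!
The two cases read at the prime `p`: a commuting pair of root groups makes `q` divide the index of the involution
centraliser, and otherwise the root group is a Sylow subgroup.
-/

set_option autoImplicit false
set_option linter.unusedSectionVars false
set_option linter.style.haveILetI false

namespace CfsgLib.GL2Cent

open Matrix
open scoped Pointwise

variable {G : Type*} [Group G] {F : Type*} [Field F]

namespace Hyp

variable {f : GL (Fin 2) F →* G} (hf : Hyp f) [Finite G] [IsSimpleGroup G] [Fintype F] (h2 : (2 : F) ≠ 0)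
  {p : ℕ} [hp : Fact p.Prime] {n : ℕ} (hq : Fintype.card F = p ^ n) (hn : n ≠ 0)
include hf h2 hq hn

omit h2 in
theorem root_isPGroup : IsPGroup p (root f) := IsPGroup.of_card (hf.card_root.trans hq)

/-- A root group of the other centraliser meets the centraliser of `tt f` trivially. -/
theorem other_root_tor {f' : GL (Fin 2) F →* G} (hf' : Hyp f') (ht : tt f' = uu f ∨ tt f' = tt f * uu f)
    (htor : tor f' = tor f) {x : G} (hx : x ∈ root f') (hc : x * tt f = tt f * x) : x = 1 := by
  obtain ⟨β, rfl⟩ := mem_root.mp hx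
  have hxu : f' (xr β) * tt f' = tt f' * f' (xr β) := hf'.root_tt β
  have hmem : f' (xr β) ∈ tor f := by
    refine (hf.tor_iff h2).mpr ⟨hc, ?_⟩
    rcases ht with e | e
    · rwa [e] at hxu
    · rw [e] at hxu
      have hu : uu f = tt f * (tt f * uu f) := by rw [← mul_assoc, tt_sq, one_mul]
      rw [hu, ← mul_assoc, hc, mul_assoc, hxu, ← mul_assoc]
  rw [← htor] at hmem
  rw [hf'.xr_mem_tor hmem, xr_zero, map_one]

/-- A pair gives `q ^ 2` in the order. -/
theorem pair_dvd {f' : GL (Fin 2) F →* G} (hf' : Hyp f') (ht : tt f' = uu f ∨ tt f' = tt f * uu f)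
    (htor : tor f' = tor f) (hcomm : ∀ x ∈ root f, ∀ y ∈ root f', x * y = y * x) :
    IsPGroup p (root f ⊔ root f' : Subgroup G) ∧ Nat.card (root f ⊔ root f' : Subgroup G) = Fintype.card F ^ 2 ∧
      p ∣ (Subgroup.centralizer {tt f}).index := by
  have hc : ∀ a : root f, ∀ b : root f', Commute ((root f).subtype a) ((root f').subtype b) := fun a b =>
    hcomm a a.2 b b.2
  set φ := MonoidHom.noncommCoprod (root f).subtype (root f').subtype hc
  have hinj : Function.Injective φ := (injective_iff_map_eq_one _).mpr fun ab e => by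
    have e' : (ab.1 : G) * ab.2 = 1 := e
    obtain ⟨β, hβ⟩ := mem_root.mp ab.1.2
    have h2' : (ab.2 : G) = (ab.1 : G)⁻¹ := eq_inv_of_mul_eq_one_right e'
    have hb : (ab.2 : G) = 1 := hf.other_root_tor h2 hq hn hf' ht htor ab.2.2 (by
      rw [h2', ← hβ, ← map_inv]; exact hf.mem_cent.mpr ⟨_, rfl⟩)
    rw [hb, mul_one] at e'
    exact Prod.ext (Subtype.ext e') (Subtype.ext hb)
  have hrange : φ.range = root f ⊔ root f' := by
    rw [MonoidHom.noncommCoprod_range, Subgroup.range_subtype, Subgroup.range_subtype]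
  have hcard : Nat.card (root f ⊔ root f' : Subgroup G) = Fintype.card F ^ 2 := by
    rw [← hrange, ← Nat.card_congr (MonoidHom.ofInjective hinj).toEquiv, Nat.card_prod, hf.card_root,
      hf'.card_root, pow_two]
  refine ⟨IsPGroup.of_card (n := n * 2) (by rw [hcard, hq, pow_mul]), hcard, ?_⟩
  by_contra hdiv
  have h1 : Fintype.card F ^ 2 ∣ Nat.card f.range * Nat.card f.ker * (Subgroup.centralizer {tt f}).index := by
    rw [hf.range, mul_right_comm, Subgroup.card_mul_index, ← hcard]
    exact (Subgroup.card_subgroup_dvd_card _).mul_right _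
  rw [hf.card_cent, mul_assoc (Fintype.card F) _ _, mul_assoc (Fintype.card F) _ _, pow_two,
    Nat.mul_dvd_mul_iff_left Fintype.card_pos] at h1
  have h3 : p ∣ (Fintype.card F - 1) ^ 2 * (Fintype.card F + 1) * (Subgroup.centralizer {tt f}).index :=
    (hq ▸ dvd_pow_self p hn : p ∣ Fintype.card F).trans h1
  rcases hp.out.dvd_mul.mp h3 with h | h
  · rcases hp.out.dvd_mul.mp h with h | h
    · exact not_dvd_pred hq hn (hp.out.dvd_of_dvd_pow h)
    · exact not_dvd_succ hq hn h
  · exact hdiv h

omit hq hn in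
omit hp in
theorem normalizer_root_le (hB : Subgroup.centralizer (root f : Set G) ≤ f.range) :
    Subgroup.normalizer (root f : Set G) ≤ f.range := by
  intro g hg
  rw [hf.range, Subgroup.mem_centralizer_singleton_iff]
  have htK : tt f ∈ Subgroup.centralizer (root f : Set G) := Subgroup.mem_centralizer_iff.mpr fun x hx => by
    obtain ⟨β, rfl⟩ := mem_root.mp hx
    exact hf.root_tt β
  have hK : g * tt f * g⁻¹ ∈ Subgroup.centralizer (root f : Set G) := Subgroup.mem_centralizer_iff.mpr fun y hy => by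
    have := Subgroup.mem_centralizer_iff.mp htK (g⁻¹ * y * g) ((Subgroup.mem_normalizer_iff''.mp hg y).mp hy)
    calc y * (g * tt f * g⁻¹) = g * (g⁻¹ * y * g * tt f) * g⁻¹ := by group
      _ = g * (tt f * (g⁻¹ * y * g)) * g⁻¹ := by rw [this]
      _ = _ := by group
  have hsq : g * tt f * g⁻¹ * (g * tt f * g⁻¹) = 1 := by
    rw [show g * tt f * g⁻¹ * (g * tt f * g⁻¹) = g * (tt f * tt f) * g⁻¹ by group, tt_sq]; group
  have hct : g * tt f * g⁻¹ * tt f = tt f * (g * tt f * g⁻¹) :=
    hf.mem_cent.mpr (MonoidHom.mem_range.mp (hB hK))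
  obtain ⟨a, γ, e⟩ := hf.cent_one one_ne_zero hct
    (Subgroup.mem_centralizer_iff.mp hK _ (mem_root.mpr ⟨1, rfl⟩)).symm
  have hs := hf.two_elt_scal h2 e (k := 1) (by rw [pow_one, pow_two, hsq])
  rcases hf.scal_sq_one h2 hs hsq with h | h
  · exact absurd (conj_eq_one_iff.mp h) (hf.tt_ne h2)
  · exact mul_inv_eq_iff_eq_mul.mp h

/-- With the centraliser of the root group inside the involution centraliser the root group is a Sylow subgroup. -/
theorem root_sylow (hB : Subgroup.centralizer (root f : Set G) ≤ f.range) :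
    ∃ P : Sylow p G, (P : Subgroup G) = root f := by
  have hN := hf.normalizer_root_le h2 hB
  obtain ⟨P, hP⟩ := (hf.root_isPGroup hq hn).exists_le_sylow
  refine ⟨P, ?_⟩
  by_contra hne
  have hlt : (root f).subgroupOf P < ⊤ := lt_top_iff_ne_top.mpr fun e =>
    hne (le_antisymm (Subgroup.subgroupOf_eq_top.mp e) hP)
  haveI : Group.IsNilpotent (P : Subgroup G) := P.2.isNilpotent
  obtain ⟨x, hxN, hxr⟩ := SetLike.exists_of_lt (Group.normalizerCondition_of_isNilpotent _ hlt)
  set R := ((root f).subgroupOf P ⊔ Subgroup.zpowers x).map (P : Subgroup G).subtype with hR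
  have hRP : IsPGroup p R := (P.2.to_subgroup _).map _
  have hRN : R ≤ f.range := by
    rw [hR, Subgroup.map_sup, MonoidHom.map_zpowers, sup_le_iff]
    refine ⟨fun y hy => ?_, Subgroup.zpowers_le.mpr (hN ?_)⟩
    · obtain ⟨z, hz, rfl⟩ := hy
      obtain ⟨β, hβ⟩ := mem_root.mp hz
      exact ⟨_, hβ⟩
    · refine Subgroup.mem_normalizer_fintype fun y hy => ?_
      exact (Subgroup.mem_normalizer_iff.mp hxN ⟨y, hP hy⟩).mp hy
  have hlt2 : Nat.card ((root f).subgroupOf P) < Nat.card ((root f).subgroupOf P ⊔ Subgroup.zpowers x : Subgroup P) :=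
    lt_of_not_ge fun h => hxr ((Subgroup.eq_of_le_of_card_ge le_sup_left h).symm ▸
      Subgroup.mem_sup_right (Subgroup.mem_zpowers x))
  rw [← Subgroup.card_map_of_injective (P : Subgroup G).subtype_injective, ← Subgroup.card_map_of_injective
    (K := (root f).subgroupOf P ⊔ Subgroup.zpowers x) (P : Subgroup G).subtype_injective,
    Subgroup.map_subgroupOf_eq_of_le hP, hf.card_root] at hlt2
  exact absurd (hf.pgroup_card_le hq hn hRP hRN) (not_le.mpr hlt2)

theorem not_dvd_index (hB : Subgroup.centralizer (root f : Set G) ≤ f.range) :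
    ¬ p ∣ (Subgroup.centralizer {tt f}).index := by
  obtain ⟨P, hP⟩ := hf.root_sylow h2 hq hn hB
  refine fun h => P.not_dvd_index (h.trans (Subgroup.index_dvd_of_le ?_))
  rw [hP, ← hf.range]
  exact fun x hx => by obtain ⟨β, e⟩ := mem_root.mp hx; exact ⟨_, e⟩

end Hyp

end CfsgLib.GL2Cent
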