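import Cfsg.Agent.Lib.GL2Cent.Count
import Cfsg.Agent.Lib.HSub.Complement
import Cfsg.Agent.Lib.StabAlt5.Four

/-!
The centraliser of a root group: either it lies in the involution centraliser, or it contains a root group of a
second involution centraliser.
-/

set_option autoImplicit false
set_option linter.unusedSectionVars false
set_option linter.style.haveILetI false

namespace CfsgLib.GL2Cent

open Matrix

/-- A subgroup with a cyclic Sylow 2-subgroup: its elements of odd order form a subgroup. -/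
theorem exists_odd_part {G : Type*} [Group G] [Finite G] (K : Subgroup G) (P : Sylow 2 K)
    (hP : IsCyclic (P : Subgroup K)) :
    ∃ N : Subgroup G, Odd (Nat.card N) ∧ (∀ x, x ∈ N ↔ x ∈ K ∧ Odd (orderOf x)) ∧
      ∀ k ∈ K, ∃ m ∈ N, ∃ s ∈ (P : Subgroup K).map K.subtype, k = m * s := by
  haveI : Fact (Nat.Prime 2) := ⟨Nat.prime_two⟩
  obtain ⟨Q, N, hN, hc⟩ := CfsgLib.HSub.hasNormalPComplement_of_cyclic (p := 2) (fun q hq _ => hq.two_le) P hP
  have hNodd : Odd (Nat.card N) := by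
    refine Nat.not_even_iff_odd.mp fun he => Q.not_dvd_index ?_
    rw [hc.index_eq_card]
    exact even_iff_two_dvd.mp he
  haveI := hN
  have hidx : ∃ e, N.index = 2 ^ e := by
    obtain ⟨e, he⟩ := IsPGroup.iff_card.mp Q.2
    exact ⟨e, by rw [hc.symm.index_eq_card, he]⟩
  have hchar : ∀ x : K, x ∈ N ↔ Odd (orderOf x) := by
    refine fun x => ⟨fun hx => hNodd.of_dvd_nat (Subgroup.orderOf_dvd_natCard _ hx), fun hx => ?_⟩
    obtain ⟨e, he⟩ := hidx
    rw [← QuotientGroup.eq_one_iff x, ← orderOf_eq_one_iff]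
    refine Nat.eq_one_of_dvd_coprimes (Nat.Coprime.pow_right e (Nat.coprime_two_right.mpr hx))
      (orderOf_map_dvd (QuotientGroup.mk' N) x) ?_
    rw [← he]
    exact orderOf_dvd_natCard _
  refine ⟨N.map K.subtype, ?_, fun x => ?_, fun k hk => ?_⟩
  · rw [Subgroup.card_map_of_injective K.subtype_injective]; exact hNodd
  · constructor
    · rintro ⟨y, hy, rfl⟩
      exact ⟨y.2, by rw [Subgroup.coe_subtype, Subgroup.orderOf_coe]; exact (hchar y).mp hy⟩
    · rintro ⟨h1, h2⟩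
      exact ⟨⟨x, h1⟩, (hchar _).mpr (by rwa [← Subgroup.orderOf_coe]), rfl⟩
  · -- `K = N P`
    have hcop : N.IsComplement' (P : Subgroup K) := by
      refine Subgroup.isComplement'_of_coprime ?_ ?_
      · rw [P.card_eq_multiplicity, ← Q.card_eq_multiplicity]
        exact hc.card_mul
      · rw [P.card_eq_multiplicity]
        exact hNodd.coprime_two_right.pow_right _
    obtain ⟨⟨m, s⟩, e⟩ := hcop.2 (⟨k, hk⟩ : K)
    exact ⟨_, Subgroup.mem_map_of_mem _ m.2, _, Subgroup.mem_map_of_mem _ s.2, (congrArg Subtype.val e).symm⟩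

variable {G : Type*} [Group G] {F : Type*} [Field F]

namespace Hyp

variable {f : GL (Fin 2) F →* G} (hf : Hyp f)
include hf

theorem cent_one {x : G} {β : F} (hβ : β ≠ 0) (hc : x * tt f = tt f * x)
    (h : x * f (xr β) = f (xr β) * x) : ∃ a γ, x = f (dg a a) * f (xr γ) := by
  obtain ⟨g, rfl⟩ := hf.mem_cent.mp hc
  obtain ⟨h10, hd⟩ := (commute_xr hβ).mp (hf.comm_iff.mp h)
  obtain ⟨a, b, e⟩ := tri_cases (g := g) h10
  have ha : g.1 0 0 = a := by rw [e]; simp [mul_apply', dg, xr]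
  have hb : g.1 1 1 = b := by rw [e]; simp [mul_apply', dg, xr]
  have hab : a = b := Units.ext (by rw [← ha, ← hb, hd])
  exact ⟨a, g.1 0 1 / g.1 0 0, by rw [← map_mul]; exact congrArg f (hab ▸ e)⟩

omit hf in
theorem scal_root_comm (a : Fˣ) (γ : F) : f (dg a a) * f (xr γ) = f (xr γ) * f (dg a a) := by
  rw [← map_mul, ← map_mul, (Subgroup.mem_center_iff.mp (scalar_central a) (xr γ))]

theorem xr_mem_tor {γ : F} (h : f (xr γ) ∈ tor f) : γ = 0 := by
  obtain ⟨a, b, e⟩ := mem_tor.mp h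
  obtain ⟨c, hc⟩ := exists_scalar (hf.kerc (f.mem_ker.mpr
    (show f ((dg a b)⁻¹ * xr γ) = 1 by rw [map_mul, map_inv, e, inv_mul_cancel])))
  rw [inv_mul_eq_iff_eq_mul, dg_mul] at hc
  simpa [xr, dg] using entry hc 0 1

theorem root_tt (γ : F) : f (xr γ) * tt f = tt f * f (xr γ) := hf.mem_cent.mpr ⟨_, rfl⟩

variable (h2 : (2 : F) ≠ 0)
include h2

theorem scal_sq_one {x : G} (hx : x ∈ scal f) (h : x * x = 1) : x = 1 ∨ x = tt f := by
  obtain ⟨a, rfl⟩ := mem_scal.mp hx
  rcases hf.inv_cases h2 (hf.mem_cent.mpr ⟨_, rfl⟩) h with e | e | ⟨g, e⟩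
  · exact Or.inl e
  · exact Or.inr e
  · exfalso
    rw [← map_mul, (Subgroup.mem_center_iff.mp (scalar_central a) g), map_mul, mul_inv_cancel_right] at e
    have h1 : f (dg a a * dg 1 (-1)) = 1 := by rw [map_mul]; exact (congrArg (· * uu f) e).trans uu_sq
    rw [dg_mul, mul_one] at h1
    obtain ⟨c, hc⟩ := exists_scalar (hf.kerc (f.mem_ker.mpr h1))
    have := (dg_inj hc).2.trans (dg_inj hc).1.symm
    exact neg_one_ne h2 (mul_left_cancel (a := a) (by simpa using this))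

omit h2 in
theorem elt_scal {x : G} {a : Fˣ} {γ : F} (e : x = f (dg a a) * f (xr γ)) {m : ℕ} (hm : (m : F) ≠ 0)
    (hk : x ^ m = 1) : x ∈ scal f := by
  have hpow : ∀ i : ℕ, (xr γ) ^ i = xr ((i : F) * γ) := by
    intro i
    induction i with
    | zero => simp [xr_zero]
    | succ i ih => rw [pow_succ, ih, xr_add]; push_cast; ring_nf
  rw [e, (show Commute (f (dg a a)) (f (xr γ)) from scal_root_comm a γ).mul_pow, ← map_pow, ← map_pow, hpow,
    mul_eq_one_iff_eq_inv'] at hk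
  have h0 : (m : F) * γ = 0 := by
    refine hf.xr_mem_tor ?_
    rw [hk, ← map_inv]
    exact mem_tor.mpr ⟨(a ^ m)⁻¹, (a ^ m)⁻¹, by
      congr 1; rw [← dg_inv]; congr 1
      exact (map_pow (dgHom (F := F)) (a, a) m)⟩
  have hγ : γ = 0 := (mul_eq_zero.mp h0).resolve_left hm
  exact mem_scal.mpr ⟨a, by rw [e, hγ, xr_zero, map_one, mul_one]⟩

theorem two_elt_scal {x : G} {a : Fˣ} {γ : F} (e : x = f (dg a a) * f (xr γ)) {k : ℕ} (hk : x ^ (2 ^ k) = 1) :
    x ∈ scal f :=
  hf.elt_scal e (by push_cast; exact pow_ne_zero k h2) hk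

variable [Finite G] [Fintype F]

/-- The elements of odd order of a subgroup whose part in the centraliser is scalars times the root group. -/
theorem odd_part {K : Subgroup G} (htK : tt f ∈ K)
    (hK : ∀ x ∈ K, x * tt f = tt f * x → ∃ a γ, x = f (dg a a) * f (xr γ)) :
    ∃ N : Subgroup G, Odd (Nat.card N) ∧ (∀ x, x ∈ N ↔ x ∈ K ∧ Odd (orderOf x)) ∧
      ∀ k ∈ K, ∃ m ∈ N, ∃ s ∈ scal f, k = m * s := by
  haveI : Fact (Nat.Prime 2) := ⟨Nat.prime_two⟩
  have ho : orderOf (⟨tt f, htK⟩ : K) = 2 := by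
    rw [← Subgroup.orderOf_coe]; exact orderOf_eq_prime (by rw [pow_two, tt_sq]) (hf.tt_ne h2)
  obtain ⟨P, hP⟩ := (IsPGroup.of_card (n := 1) (by rw [Nat.card_zpowers, ho, pow_one]) :
    IsPGroup 2 (Subgroup.zpowers (⟨tt f, htK⟩ : K))).exists_le_sylow
  have htP : (⟨tt f, htK⟩ : K) ∈ (P : Subgroup K) := hP (Subgroup.mem_zpowers _)
  have key : ∀ x : K, x ∈ (P : Subgroup K) → (x : G) * tt f = tt f * x → (x : G) ∈ scal f := by
    intro x hx hc
    obtain ⟨a, γ, e⟩ := hK x x.2 hc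
    obtain ⟨k, hk⟩ := P.2 ⟨x, hx⟩
    exact hf.two_elt_scal h2 e (k := k) (congrArg (fun y : (P : Subgroup K) => ((y : K) : G)) hk)
  haveI : Nontrivial (P : Subgroup K) := ⟨⟨⟨_, htP⟩, 1, fun e => hf.tt_ne h2
    (congrArg (fun y : (P : Subgroup K) => ((y : K) : G)) e)⟩⟩
  haveI := P.2.center_nontrivial
  obtain ⟨z, hz⟩ := exists_prime_orderOf_dvd_card' (G := Subgroup.center (P : Subgroup K)) 2 (by
    obtain ⟨e, he⟩ := IsPGroup.iff_card.mp (P.2.to_subgroup (Subgroup.center (P : Subgroup K)))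
    rw [he]
    refine dvd_pow_self 2 fun e0 => ?_
    rw [e0, pow_zero] at he
    exact not_subsingleton _ ((Nat.card_eq_one_iff_unique.mp he).1))
  set z' : G := (((z : (P : Subgroup K)) : K) : G) with hz'
  have hzc : ∀ x : K, x ∈ (P : Subgroup K) → (x : G) * z' = z' * x := fun x hx =>
    congrArg (fun y : (P : Subgroup K) => ((y : K) : G)) (Subgroup.mem_center_iff.mp z.2 ⟨x, hx⟩)
  have hzt : z' = tt f := by
    refine ((hf.scal_sq_one h2 (key _ (z : (P : Subgroup K)).2 (hzc _ htP).symm) ?_).resolve_left fun e => ?_)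
    · have := pow_orderOf_eq_one z
      rw [hz, pow_two] at this
      exact congrArg (fun y : Subgroup.center (P : Subgroup K) => (((y : (P : Subgroup K)) : K) : G)) this
    · rw [show z = 1 from Subtype.ext (Subtype.ext (Subtype.ext e)), orderOf_one] at hz
      omega
  have hPs : (P : Subgroup K).map K.subtype ≤ scal f := by
    rintro _ ⟨x, hx, rfl⟩
    exact key x hx (hzt ▸ hzc x hx)
  haveI : IsCyclic (scal f) := isCyclic_of_surjective _ (MonoidHom.rangeRestrict_surjective _)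
  have hc : IsCyclic (P : Subgroup K) := isCyclic_of_injective
    ((Subgroup.inclusion hPs).comp (K.subtype.subgroupMap (P : Subgroup K)))
    ((Subgroup.inclusion_injective hPs).comp fun a b e => by simpa using congrArg Subtype.val e)
  obtain ⟨N, h1, hN, h3⟩ := exists_odd_part K P hc
  refine ⟨N, h1, hN, fun k hk => ?_⟩
  obtain ⟨m, hm, s, hs, e⟩ := h3 k hk
  exact ⟨m, hm, s, hPs hs, e⟩

/-- The order formula for the four-group. -/
theorem four {N : Subgroup G} (hN : Odd (Nat.card N)) (nt : ∀ x ∈ N, tt f * x * (tt f)⁻¹ ∈ N)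
    (nu : ∀ x ∈ N, uu f * x * (uu f)⁻¹ ∈ N) :
    Nat.card N * Nat.card (N ⊓ tor f : Subgroup G) ^ 2 =
      Nat.card (N ⊓ Subgroup.centralizer {tt f} : Subgroup G) *
      Nat.card (N ⊓ Subgroup.centralizer {uu f} : Subgroup G) *
      Nat.card (N ⊓ Subgroup.centralizer {tt f * uu f} : Subgroup G) := by
  set V : Subgroup G := ((powMonoidHom 2 : Fˣ × Fˣ →* Fˣ × Fˣ).ker).map (f.comp dgHom) with hV
  have htu : tt f * uu f = f (dg (-1) 1) := by rw [tt, uu, ← map_mul, dg_mul]; simp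
  have hmem : ∀ a, a ∈ V ↔ a = 1 ∨ a = tt f ∨ a = uu f ∨ a = tt f * uu f := by
    intro a
    constructor
    · rintro ⟨⟨b, c⟩, hbc, rfl⟩
      have h1 : b ^ 2 = 1 ∧ c ^ 2 = 1 := Prod.ext_iff.mp hbc
      have hs : ∀ b : Fˣ, b ^ 2 = 1 → b = 1 ∨ b = -1 := fun b hb => (sq_eq_one_iff.mp
        (show (b : F) ^ 2 = 1 by rw [← Units.val_pow_eq_pow_val, hb, Units.val_one])).imp
          (fun e => Units.ext e) (fun e => Units.ext (by simpa using e))
      rw [htu]
      show f (dg b c) = 1 ∨ f (dg b c) = _ ∨ f (dg b c) = _ ∨ f (dg b c) = _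
      rcases hs b h1.1 with rfl | rfl <;> rcases hs c h1.2 with rfl | rfl <;> simp [tt, uu, dg_one]
    · rw [htu]
      rintro (rfl | rfl | rfl | rfl)
      · exact one_mem V
      · exact ⟨(-1, -1), by simp [MonoidHom.mem_ker, Prod.ext_iff], rfl⟩
      · exact ⟨(1, -1), by simp [MonoidHom.mem_ker, Prod.ext_iff], rfl⟩
      · exact ⟨(-1, 1), by simp [MonoidHom.mem_ker, Prod.ext_iff], rfl⟩
  have hcV : N ⊓ Subgroup.centralizer (V : Set G) = N ⊓ tor f := by
    ext x
    simp only [Subgroup.mem_inf, and_congr_right_iff, hf.tor_iff h2, Subgroup.mem_centralizer_iff, SetLike.mem_coe]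
    intro _
    refine ⟨fun h => ⟨(h _ ((hmem _).mpr (by simp))).symm, (h _ ((hmem _).mpr (by simp))).symm⟩, fun h a ha => ?_⟩
    rcases (hmem a).mp ha with rfl | rfl | rfl | rfl
    · simp
    · exact h.1.symm
    · exact h.2.symm
    · rw [mul_assoc, ← h.2, ← mul_assoc, ← h.1, mul_assoc]
  rw [← hcV]
  exact CfsgLib.StabAlt5.four_formula hN tt_sq uu_sq hf.uu_comm.symm (hf.tt_ne h2) (hf.uu_ne h2)
    (hf.uu_ne_tt h2).symm nt nu hmem

end Hyp

end CfsgLib.GL2Cent
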