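import Cfsg.Agent.Lib.GL2Cent.Setting
import Mathlib.LinearAlgebra.Matrix.GeneralLinearGroup.Card

/-!
Orders of the centraliser, its torus, its scalars and its root group.
-/

set_option autoImplicit false
set_option linter.unusedSectionVars false
set_option linter.style.haveILetI false

namespace CfsgLib.GL2Cent

open Matrix

variable {G : Type*} [Group G] {F : Type*} [Field F]

theorem card_range_comp {A : Type*} [Group A] [Finite A] (f : GL (Fin 2) F →* G) (e : A →* GL (Fin 2) F)
    (he : Function.Injective e) (hle : f.ker ≤ e.range) :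
    Nat.card (f.comp e).range * Nat.card f.ker = Nat.card A := by
  have h : Nat.card (f.comp e).ker = Nat.card f.ker := by
    rw [← MonoidHom.comap_ker, ← Subgroup.card_map_of_injective he, Subgroup.map_comap_eq_self hle]
  rw [← h, ← Subgroup.index_ker, mul_comm, Subgroup.card_mul_index]

theorem dgHom_inj : Function.Injective (dgHom : Fˣ × Fˣ →* GL (Fin 2) F) := fun _ _ e => by
  obtain ⟨h1, h2⟩ := dg_inj e
  exact Prod.ext h1 h2

theorem xrHom_inj : Function.Injective (xrHom : Multiplicative F →* GL (Fin 2) F) := fun _ _ e =>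
  Multiplicative.toAdd.injective (xr_inj e)

namespace Hyp

variable {f : GL (Fin 2) F →* G} (hf : Hyp f) [Fintype F]
include hf

theorem ker_le_scalar : f.ker ≤ (dgHom.comp ((MonoidHom.id Fˣ).prod (MonoidHom.id Fˣ))).range :=
  fun _ hx => by
    obtain ⟨a, e⟩ := exists_scalar (hf.kerc hx)
    exact ⟨a, e.symm⟩

omit hf in
theorem card_units' : Nat.card Fˣ = Fintype.card F - 1 := by
  rw [Nat.card_units, Nat.card_eq_fintype_card]

theorem card_tor : Nat.card (tor f) * Nat.card f.ker = (Fintype.card F - 1) ^ 2 := by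
  rw [tor, card_range_comp f dgHom dgHom_inj
    (hf.ker_le_scalar.trans fun x ⟨a, e⟩ => ⟨(a, a), e⟩), Nat.card_prod, card_units', pow_two]

theorem card_scal : Nat.card (scal f) * Nat.card f.ker = Fintype.card F - 1 := by
  rw [scal, card_range_comp f _ (fun a b e => (dg_inj e).1) hf.ker_le_scalar, card_units']

theorem ker_dvd : Nat.card f.ker ∣ Fintype.card F - 1 := ⟨_, (mul_comm _ _).trans hf.card_scal |>.symm⟩

theorem card_root : Nat.card (root f) = Fintype.card F := by
  have hinj : Function.Injective (f.comp xrHom) := (injective_iff_map_eq_one _).mpr fun x hx =>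
    Multiplicative.toAdd.injective ((hf.root_inj hx).trans toAdd_one.symm)
  rw [root, ← Nat.card_congr (MonoidHom.ofInjective hinj).toEquiv]
  exact (Nat.card_congr Multiplicative.toAdd).trans Nat.card_eq_fintype_card

theorem card_cent : Nat.card f.range * Nat.card f.ker =
    Fintype.card F * (Fintype.card F - 1) ^ 2 * (Fintype.card F + 1) := by
  rw [← Subgroup.index_ker, mul_comm, Subgroup.card_mul_index, Matrix.card_GL_field, Fin.prod_univ_two]
  obtain ⟨k, hk⟩ : ∃ k, Fintype.card F = k + 1 := ⟨Fintype.card F - 1, by have := Fintype.card_pos (α := F); omega⟩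
  simp only [Fin.val_zero, Fin.val_one, pow_zero, pow_one, hk, Nat.add_sub_cancel]
  rw [show (k + 1) ^ 2 - 1 = k ^ 2 + 2 * k by ring_nf; omega,
    show (k + 1) ^ 2 - (k + 1) = k ^ 2 + k by ring_nf; omega]
  ring

variable {p : ℕ} [hp : Fact p.Prime] {n : ℕ} (hq : Fintype.card F = p ^ n) (hn : n ≠ 0)
include hq hn

omit hf in
theorem not_dvd_pred : ¬ p ∣ Fintype.card F - 1 := fun h => by
  have h1 : 1 ≤ Fintype.card F := Fintype.card_pos
  have h3 := Nat.dvd_sub (hq ▸ dvd_pow_self p hn : p ∣ Fintype.card F) h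
  rw [Nat.sub_sub_self h1] at h3
  exact hp.out.not_dvd_one h3

omit hf in
theorem not_dvd_succ : ¬ p ∣ Fintype.card F + 1 := fun h => by
  have h3 := Nat.dvd_sub h (hq ▸ dvd_pow_self p hn : p ∣ Fintype.card F)
  rw [Nat.add_sub_cancel_left] at h3
  exact hp.out.not_dvd_one h3

theorem not_dvd_ker : ¬ p ∣ Nat.card f.ker := fun h => not_dvd_pred hq hn (h.trans hf.ker_dvd)

/-- A `p`-subgroup of the centraliser has at most `q` elements. -/
theorem pgroup_card_le [Finite G] {P : Subgroup G} (hP : IsPGroup p P) (hle : P ≤ f.range) :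
    Nat.card P ≤ Fintype.card F := by
  obtain ⟨k, hk⟩ : ∃ k, Nat.card P = p ^ k := by
    haveI : Finite P := Finite.of_injective _ (Subgroup.inclusion_injective hle)
    exact IsPGroup.iff_card.mp hP
  have hd : p ^ k ∣ Fintype.card F * ((Fintype.card F - 1) ^ 2 * (Fintype.card F + 1)) := by
    rw [← hk, ← mul_assoc, ← hf.card_cent]
    exact Dvd.dvd.mul_right (Subgroup.card_dvd_of_le hle) _
  have hc : Nat.Coprime (p ^ k) ((Fintype.card F - 1) ^ 2 * (Fintype.card F + 1)) := by
    refine Nat.Coprime.pow_left _ ((Nat.Prime.coprime_iff_not_dvd hp.out).mpr fun h => ?_)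
    rcases hp.out.dvd_mul.mp h with h | h
    · exact not_dvd_pred hq hn (hp.out.dvd_of_dvd_pow h)
    · exact not_dvd_succ hq hn h
  rw [hk]
  exact Nat.le_of_dvd Fintype.card_pos (hc.dvd_of_dvd_mul_right hd)

end Hyp

end CfsgLib.GL2Cent
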