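import Cfsg.Agent.Lib.GL2Cent.CentX

/-!
Either the centraliser of the root group lies in the involution centraliser, or the root group commutes with a root
group of the centraliser of a second involution of the four-group.
-/

set_option autoImplicit false
set_option linter.unusedSectionVars false
set_option linter.style.haveILetI false

namespace CfsgLib.GL2Cent

open Matrix

variable {G : Type*} [Group G] {F : Type*} [Field F]

/-- The map with the two coordinates exchanged. -/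
noncomputable def flip' (f : GL (Fin 2) F →* G) : GL (Fin 2) F →* G :=
  (MulAut.conj (f ww)).toMonoidHom.comp f

theorem flip'_apply (f : GL (Fin 2) F →* G) (g : GL (Fin 2) F) : flip' f g = f (ww * g * ww⁻¹) := by
  simp [flip']

theorem flip'_xr (f : GL (Fin 2) F →* G) (β : F) : flip' f (xr β) = f (yr β) := by
  rw [flip'_apply, ww_conj_xr]

theorem tor_flip' (f : GL (Fin 2) F →* G) : tor (flip' f) = tor f := by
  ext x
  simp only [mem_tor, flip'_apply, ww_conj_dg]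
  exact ⟨fun ⟨a, b, e⟩ => ⟨b, a, e⟩, fun ⟨a, b, e⟩ => ⟨b, a, e⟩⟩

theorem tt_flip' (f : GL (Fin 2) F →* G) : tt (flip' f) = tt f := by
  rw [tt, flip'_apply, ww_conj_dg]; rfl

theorem tor_alpha (f : GL (Fin 2) F →* G) :
    tor (f.comp (alpha : GL (Fin 2) F →* GL (Fin 2) F)) = tor f := by
  ext x
  simp only [mem_tor, MonoidHom.comp_apply, alpha_dg]
  exact ⟨fun ⟨a, b, e⟩ => ⟨_, _, e⟩, fun ⟨a, b, e⟩ => ⟨b⁻¹, a⁻¹, by simpa using e⟩⟩

theorem root_alpha (f : GL (Fin 2) F →* G) :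
    root (f.comp (alpha : GL (Fin 2) F →* GL (Fin 2) F)) = root f := by
  ext x
  simp only [mem_root, MonoidHom.comp_apply, alpha_xr]
  exact ⟨fun ⟨a, e⟩ => ⟨_, e⟩, fun ⟨a, e⟩ => ⟨-a, by simpa using e⟩⟩

namespace Hyp

variable {f : GL (Fin 2) F →* G} (hf : Hyp f)
include hf

/-- A subgroup of odd order normalised by the torus. -/
theorem odd_normalised_cases [Finite G] [Fintype F] (h2 : (2 : F) ≠ 0) {N : Subgroup G} (hN : Odd (Nat.card N))
    (hn : ∀ h ∈ tor f, ∀ x ∈ N, h * x * h⁻¹ ∈ N) :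
    N ⊓ Subgroup.centralizer {tt f} ≤ tor f ∨ root f ≤ N ∨ root (flip' f) ≤ N := by
  classical
  have h3 : 3 ≤ Fintype.card F := by
    by_contra h
    have h1 : 1 < Fintype.card F := Fintype.one_lt_card
    have := FiniteField.cast_card_eq_zero F
    rw [show Fintype.card F = 2 by omega] at this
    exact h2 this
  haveI : Finite (GL (Fin 2) F) := inferInstance
  set D : Subgroup (GL (Fin 2) F) := N.comap f with hD
  have hDodd : Odd (Nat.card D) := by
    have e := Subgroup.card_mul_index (f.ker.subgroupOf D)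
    have hi : (f.ker.subgroupOf D).index = Nat.card (f.domRestrict D).range := by
      rw [← Subgroup.index_ker, MonoidHom.ker_domRestrict]
    rw [hi, Nat.card_congr (Subgroup.subgroupOfEquivOfLe (show f.ker ≤ D from fun x hx => by
      simp [hD, Subgroup.mem_comap, f.mem_ker.mp hx])).toEquiv] at e
    rw [← e]
    refine hf.kero.mul (hN.of_dvd_nat (Subgroup.card_dvd_of_le ?_))
    rintro _ ⟨x, rfl⟩
    exact x.2
  have hDn : ∀ (a b : Fˣ), ∀ g ∈ D, dg a b * g * (dg a b)⁻¹ ∈ D := fun a b g hg => by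
    rw [hD, Subgroup.mem_comap, map_mul, map_mul, map_inv]
    exact hn _ (mem_tor.mpr ⟨a, b, rfl⟩) _ hg
  by_cases hdiag : ∀ g ∈ D, Diag g
  · refine Or.inl fun x hx => ?_
    obtain ⟨g, rfl⟩ := hf.mem_cent.mp (Subgroup.mem_centralizer_singleton_iff.mp hx.2)
    obtain ⟨a, b, e⟩ := eq_dg (hdiag g hx.1)
    exact mem_tor.mpr ⟨a, b, by rw [e]⟩
  push Not at hdiag
  obtain ⟨g, hg, hnd⟩ := hdiag
  rcases odd_normalised hDodd hDn h2 h3 with h | h
  · refine Or.inr (Or.inl ?_)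
    have hb : g.1 0 1 ≠ 0 := fun e => hnd ⟨e, h g hg⟩
    intro x hx
    obtain ⟨β, rfl⟩ := mem_root.mp hx
    exact xr_in_of_upper hDn h3 hg (h g hg) hb β
  · refine Or.inr (Or.inr ?_)
    have hc : g.1 1 0 ≠ 0 := fun e => hnd ⟨h g hg, e⟩
    intro x hx
    obtain ⟨β, rfl⟩ := mem_root.mp hx
    have := xr_in_of_upper (ww_conj_norm hDn) h3 (g := ww * g * ww⁻¹)
      (Subgroup.mem_map_of_mem (MulAut.conj (ww : GL (Fin 2) F)).toMonoidHom hg)
      ((ww_conj_entries g).1.trans (h g hg)) (fun e => hc ((ww_conj_entries g).2.symm.trans e)) β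
    obtain ⟨y, hy, e⟩ := this
    show flip' f (xr β) ∈ N
    rw [flip'_apply, ← e]
    show f (ww * (ww * y * ww⁻¹) * ww⁻¹) ∈ N
    rw [show (ww : GL (Fin 2) F) * (ww * y * ww⁻¹) * ww⁻¹ = ww * ww * y * (ww * ww)⁻¹ by group, ww_mul_self,
      one_mul, inv_one, mul_one]
    exact hy

variable [Finite G] [Fintype F] (h2 : (2 : F) ≠ 0) [IsSimpleGroup G]
include h2

theorem tor_conj_root {h : G} (hh : h ∈ tor f) {x : G} (hx : x ∈ root f) : h * x * h⁻¹ ∈ root f := by
  obtain ⟨a, b, rfl⟩ := mem_tor.mp hh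
  obtain ⟨β, rfl⟩ := mem_root.mp hx
  exact mem_root.mpr ⟨_, by rw [← dg_conj_xr a b β, map_mul, map_mul, map_inv]⟩

/-- One side of the dichotomy. -/
theorem side {N : Subgroup G} (hN : Odd (Nat.card N)) (hn : ∀ h ∈ tor f, ∀ x ∈ N, h * x * h⁻¹ ∈ N)
    (hNc : N ≤ Subgroup.centralizer (root f : Set G)) :
    (∃ f' : GL (Fin 2) F →* G, Hyp f' ∧ tt f' = uu f ∧ tor f' = tor f ∧
      ∀ x ∈ root f, ∀ y ∈ root f', x * y = y * x) ∨
    N ⊓ Subgroup.centralizer {uu f} ≤ tor f := by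
  obtain ⟨s, hs1, hs2⟩ := hf.exists_swap h2
  set f1 := (MulAut.conj s).toMonoidHom.comp f with hf1
  have hf1' : Hyp f1 := hf.conj s
  have htt : tt f1 = uu f := by simp only [tt] at hs1 ⊢; exact hs1
  have hu1 : uu f1 = tt f := by simp only [uu] at hs2 ⊢; exact hs2
  have htor : tor f1 = tor f := by
    ext x
    rw [hf1'.tor_iff h2, hf.tor_iff h2, htt, hu1]
    exact and_comm
  rcases hf1'.odd_normalised_cases h2 hN (htor.symm ▸ hn) with h | h | h
  · rw [htt, htor] at h; exact Or.inr h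
  · exact Or.inl ⟨f1, hf1', htt, htor, fun x hx y hy => Subgroup.mem_centralizer_iff.mp (hNc (h hy)) x hx⟩
  · exact Or.inl ⟨flip' f1, hf1'.conj _, (tt_flip' f1).trans htt, (tor_flip' f1).trans htor,
      fun x hx y hy => Subgroup.mem_centralizer_iff.mp (hNc (h hy)) x hx⟩

theorem root_dichotomy :
    (∃ f' : GL (Fin 2) F →* G, Hyp f' ∧ (tt f' = uu f ∨ tt f' = tt f * uu f) ∧ tor f' = tor f ∧
      ∀ x ∈ root f, ∀ y ∈ root f', x * y = y * x) ∨
    Subgroup.centralizer (root f : Set G) ≤ f.range := by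
  set K := Subgroup.centralizer (root f : Set G) with hK
  have htK : tt f ∈ K := Subgroup.mem_centralizer_iff.mpr fun x hx => by
    obtain ⟨β, rfl⟩ := mem_root.mp hx
    exact hf.root_tt β
  obtain ⟨N, hN, hmem, hdec⟩ := hf.odd_part h2 htK fun x hx hc =>
    hf.cent_one one_ne_zero hc (Subgroup.mem_centralizer_iff.mp hx _ (mem_root.mpr ⟨1, rfl⟩)).symm
  have hn : ∀ h ∈ tor f, ∀ x ∈ N, h * x * h⁻¹ ∈ N := fun h hh x hx => by
    obtain ⟨h1, h3⟩ := (hmem x).mp hx
    refine (hmem _).mpr ⟨Subgroup.mem_centralizer_iff.mpr fun y hy => ?_, by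
      rw [show h * x * h⁻¹ = MulAut.conj h x from rfl, MulEquiv.orderOf_eq]; exact h3⟩
    have hy' := Subgroup.mem_centralizer_iff.mp h1 _ (by
      have := hf.tor_conj_root h2 (inv_mem hh) hy
      rwa [inv_inv] at this : h⁻¹ * y * h ∈ (root f : Set G))
    calc y * (h * x * h⁻¹) = h * (h⁻¹ * y * h * x) * h⁻¹ := by group
      _ = h * (x * (h⁻¹ * y * h)) * h⁻¹ := by rw [hy']
      _ = _ := by group
  have hNc : N ≤ K := fun x hx => ((hmem x).mp hx).1
  rcases hf.side h2 hN hn hNc with ⟨f', a, b, c, d⟩ | hu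
  · exact Or.inl ⟨f', a, Or.inl b, c, d⟩
  rcases hf.alphaComp.side h2 hN (by rw [tor_alpha]; exact hn) (by rw [root_alpha]; exact hNc) with
    ⟨f', a, b, c, d⟩ | htu
  · exact Or.inl ⟨f', a, Or.inr (b.trans hf.alpha_uu), c.trans (tor_alpha f), root_alpha f ▸ d⟩
  rw [hf.alpha_uu, tor_alpha] at htu
  right
  have hT : N ⊓ tor f ≤ N ⊓ Subgroup.centralizer {uu f} ∧ N ⊓ tor f ≤ N ⊓ Subgroup.centralizer {tt f * uu f} :=
    ⟨fun x hx => ⟨hx.1, Subgroup.mem_centralizer_singleton_iff.mpr ((hf.tor_iff h2).mp hx.2).2⟩,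
      fun x hx => ⟨hx.1, Subgroup.mem_centralizer_singleton_iff.mpr (by
        obtain ⟨e1, e2⟩ := (hf.tor_iff h2).mp hx.2
        rw [← mul_assoc, e1, mul_assoc, e2, mul_assoc])⟩⟩
  have e1 : N ⊓ Subgroup.centralizer {uu f} = N ⊓ tor f :=
    le_antisymm (le_inf inf_le_left hu) hT.1
  have e2 : N ⊓ Subgroup.centralizer {tt f * uu f} = N ⊓ tor f :=
    le_antisymm (le_inf inf_le_left htu) hT.2
  have hfour := hf.four h2 hN
    (fun x hx => hn _ ((hf.tor_iff h2).mpr ⟨rfl, hf.uu_comm.symm⟩) x hx)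
    (fun x hx => hn _ ((hf.tor_iff h2).mpr ⟨hf.uu_comm, rfl⟩) x hx)
  rw [e1, e2, mul_assoc, ← pow_two] at hfour
  have hcard := Nat.eq_of_mul_eq_mul_right (pow_pos Nat.card_pos 2) hfour
  have hle : N ≤ Subgroup.centralizer {tt f} :=
    (Subgroup.eq_of_le_of_card_ge inf_le_left hcard.le).symm.le.trans inf_le_right
  intro k hk
  obtain ⟨m, hm, s, hs, rfl⟩ := hdec k hk
  refine mul_mem (hf.range ▸ hle hm) ?_
  obtain ⟨a, rfl⟩ := mem_scal.mp hs
  exact ⟨_, rfl⟩

end Hyp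

end CfsgLib.GL2Cent
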