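import Cfsg.Agent.Lib.GL2Cent.OneClass
import Cfsg.Agent.Lib.BrauerOrder.Instance
import Cfsg.Agent.Lib.BrauerOrder.Main
import Cfsg.Agent.Lib.AlmostCyclic.SylowTypes

/-!
Brauer's order formula in the setting: the index of the involution centraliser.
-/

set_option autoImplicit false
set_option linter.unusedSectionVars false
set_option linter.style.haveILetI false

namespace CfsgLib.GL2Cent

open Matrix

universe u v

variable {G : Type u} [Group G] {F : Type v} [Field F]

/-- The four-group. -/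
noncomputable def four' (f : GL (Fin 2) F →* G) : Subgroup G := signs.map f

/-- A free action outside the fixed points. -/
theorem dvd_of_fixed {A : Type*} [Group A] [Finite A] {Ω : Type*} [MulAction A Ω] [Finite Ω] (Z : Subgroup A)
    (hZ : ∀ u ∈ Z, ∀ a : Ω, u • a = a) {c : ℤ} (hc : ∀ t : A, t ∉ Z → (Nat.card (MulAction.fixedBy Ω t) : ℤ) = c) :
    (Z.index : ℤ) ∣ (Nat.card Ω : ℤ) - c := by
  classical
  haveI := Fintype.ofFinite A
  haveI := Fintype.ofFinite Ω
  haveI : Fintype (Quotient (MulAction.orbitRel A Ω)) := Fintype.ofFinite _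
  have hb := MulAction.sum_card_fixedBy_eq_card_orbits_mul_card_group A Ω
  have hb' : ∑ t : A, (Nat.card (MulAction.fixedBy Ω t) : ℤ) =
      (Fintype.card (Quotient (MulAction.orbitRel A Ω)) : ℤ) * (Nat.card A : ℤ) := by
    simp only [Nat.card_eq_fintype_card]
    exact_mod_cast hb
  have hval : ∀ t : A, (Nat.card (MulAction.fixedBy Ω t) : ℤ) =
      (if t ∈ Z then (Nat.card Ω : ℤ) - c else 0) + c := by
    intro t
    by_cases h : t ∈ Z
    · rw [if_pos h, sub_add_cancel, Nat.card_congr (Equiv.subtypeUnivEquiv (p := fun a => t • a = a) (hZ t h))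
        |>.symm]
      rfl
    · rw [if_neg h, zero_add, hc t h]
  have hs : (Finset.univ.filter fun t => t ∈ Z).card = Nat.card Z := by
    rw [Nat.card_eq_fintype_card, Fintype.card_subtype]
  simp only [hval, Finset.sum_add_distrib, ← Finset.sum_filter, Finset.sum_const, hs, Finset.card_univ,
    nsmul_eq_mul, ← Nat.card_eq_fintype_card] at hb'
  refine ⟨(Nat.card (Quotient (MulAction.orbitRel A Ω)) : ℤ) - c, ?_⟩
  refine mul_left_cancel₀ (show (Nat.card Z : ℤ) ≠ 0 by exact_mod_cast Nat.card_pos.ne') ?_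
  rw [← Z.card_mul_index] at hb'
  push_cast at hb'
  linear_combination hb'

namespace Hyp

variable {f : GL (Fin 2) F →* G} (hf : Hyp f) [Finite G] [IsSimpleGroup G] [Fintype F] (h2 : (2 : F) ≠ 0)
include hf h2

omit h2 in
theorem sl_normal : ∃ N : Subgroup (↥(Subgroup.centralizer ({tt f} : Set G)) ⧸
      Cfsg.oddCore ↥(Subgroup.centralizer ({tt f} : Set G))),
    N.Normal ∧ ((2 : F) ≠ 0 → Nonempty (↥N ≃* Matrix.SpecialLinearGroup (Fin 2) F)) := by
  classical
  set C := Subgroup.centralizer ({tt f} : Set G)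
  set O := Cfsg.oddCore ↥C
  let ψ : GL (Fin 2) F →* C := f.codRestrict C fun g => Subgroup.mem_centralizer_singleton_iff.mpr (hf.mem_cent.mpr ⟨g, rfl⟩)
  have hψ : Function.Surjective ψ := fun x => by
    obtain ⟨g, hg⟩ := MonoidHom.mem_range.mp (hf.range.symm ▸ x.2 : (x : G) ∈ f.range)
    exact ⟨g, Subtype.ext hg⟩
  let π : GL (Fin 2) F →* C ⧸ O := (QuotientGroup.mk' O).comp ψ
  have hπ : Function.Surjective π := (QuotientGroup.mk'_surjective O).comp hψ
  let S : Subgroup (GL (Fin 2) F) := (Matrix.SpecialLinearGroup.toGL : _ →* GL (Fin 2) F).range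
  have hS : S.Normal := by
    refine ⟨fun x hx g => ?_⟩
    obtain ⟨y, rfl⟩ := hx
    refine ⟨⟨(g * Matrix.SpecialLinearGroup.toGL y * g⁻¹).1, ?_⟩, Units.ext rfl⟩
    rw [Units.val_mul, Units.val_mul, Matrix.det_mul, Matrix.det_mul, mul_right_comm, ← Matrix.det_mul,
      Units.mul_inv, Matrix.det_one, one_mul]
    exact y.2
  refine ⟨S.map π, hS.map π hπ, fun h2 => ?_⟩
  -- the kernel meets `SL₂` trivially
  set D := π.ker with hD
  have hDodd : Odd (Nat.card D) := by
    have hker : D = O.comap ψ := by rw [hD, ← MonoidHom.comap_ker, QuotientGroup.ker_mk']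
    rw [hker]
    have e := Subgroup.card_mul_index (ψ.ker.subgroupOf (O.comap ψ))
    rw [← MonoidHom.ker_domRestrict, Subgroup.index_ker] at e
    rw [← e]
    refine Odd.mul ?_ (CfsgLib.odd_card_oddCore.of_dvd_nat (Subgroup.card_dvd_of_le ?_))
    · refine hf.kero.of_dvd_nat ?_
      rw [MonoidHom.ker_domRestrict, ← Nat.card_congr
        (Subgroup.subgroupOfEquivOfLe (show ψ.ker ≤ O.comap ψ from fun x hx => by
          rw [Subgroup.mem_comap, ψ.mem_ker.mp hx]; exact one_mem O)).symm.toEquiv]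
      exact Subgroup.card_dvd_of_le fun x hx => f.mem_ker.mpr (congrArg Subtype.val (ψ.mem_ker.mp hx))
    · rintro _ ⟨x, rfl⟩
      exact x.2
  have hDn : ∀ (a b : Fˣ), ∀ g ∈ D, dg a b * g * (dg a b)⁻¹ ∈ D := fun a b g hg =>
    (inferInstance : π.ker.Normal).conj_mem g hg _
  have h3 : 3 ≤ Fintype.card F := by
    by_contra h
    have h1 : 1 < Fintype.card F := Fintype.one_lt_card
    have := FiniteField.cast_card_eq_zero F
    rw [show Fintype.card F = 2 by omega] at this
    exact h2 this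
  have hinj : Function.Injective (π.comp (Matrix.SpecialLinearGroup.toGL : _ →* GL (Fin 2) F)) := by
    refine (injective_iff_map_eq_one _).mpr fun y hy => ?_
    set g : GL (Fin 2) F := Matrix.SpecialLinearGroup.toGL y
    have hg : g ∈ D := hy
    have hww : ∀ m ∈ D, ww * m * ww⁻¹ ∈ D := fun m hm => (inferInstance : π.ker.Normal).conj_mem m hm _
    have hdiag : ∀ m ∈ D, Diag m := fun m hm => by
      rcases odd_normalised hDodd hDn h2 h3 with h | h
      · exact ⟨(ww_conj_entries m).1.symm.trans (h _ (hww m hm)), h m hm⟩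
      · exact ⟨h m hm, (ww_conj_entries m).2.symm.trans (h _ (hww m hm))⟩
    obtain ⟨a, b, e⟩ := eq_dg (hdiag g hg)
    -- conjugation by an upper unipotent element keeps it diagonal
    have hx := hdiag _ ((inferInstance : π.ker.Normal).conj_mem g hg (xr 1))
    have hab : (a : F) = b := by
      have hi : (xr (1 : F))⁻¹ = xr (-1) := inv_eq_of_mul_eq_one_right (by rw [xr_add, add_neg_cancel, xr_zero])
      have := hx.1
      rw [e, hi] at this
      simp [mul_apply', dg, xr] at this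
      linear_combination -this
    have hdet := y.2
    have h1 : (g : Matrix (Fin 2) (Fin 2) F).det = 1 := hdet
    rw [e] at h1
    simp [dg, Matrix.det_fin_two] at h1
    rw [← hab] at h1
    rcases mul_self_eq_one_iff.mp h1 with ha | ha
    · refine Matrix.SpecialLinearGroup.toGL_injective ?_
      rw [map_one, show Matrix.SpecialLinearGroup.toGL y = g from rfl, e,
        show a = 1 from Units.ext ha, show b = 1 from Units.ext (by rw [← hab]; exact ha), dg_one]
    · exfalso
      have hm : g * g ∈ D := mul_mem hg hg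
      have hgo : Odd (orderOf g) := hDodd.of_dvd_nat (Subgroup.orderOf_dvd_natCard _ hg)
      have h2g : g ^ 2 = 1 := by
        rw [pow_two, e, dg_mul, show a * a = 1 from Units.ext (by simp [ha]),
          show b * b = 1 from Units.ext (by simp [← hab, ha]), dg_one]
      have := orderOf_eq_one_iff.mp (Nat.eq_one_of_dvd_coprimes (Nat.coprime_two_left.mpr hgo)
        (orderOf_dvd_of_pow_eq_one h2g) dvd_rfl)
      rw [e] at this
      have ha1 : a = 1 := (dg_inj (this.trans dg_one.symm)).1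
      rw [ha1, Units.val_one] at ha
      exact h2 (by linear_combination ha)
  refine ⟨((MonoidHom.ofInjective hinj).trans (MulEquiv.subgroupCongr ?_)).symm⟩
  rw [MonoidHom.range_comp]

/-- The Sylow data of the setting. -/
theorem sylow_data : ∃ S : Sylow 2 G, (∀ s ∈ (S : Subgroup G), s * tt f = tt f * s) ∧ tt f ∈ S ∧ four' f ≤ S ∧
    ((Fintype.card F % 4 = 3 → Cfsg.IsQuasiDihedral (S : Subgroup G)) ∧
      (Fintype.card F % 4 = 1 → Cfsg.IsWreathed (S : Subgroup G) ∧
        ∀ s ∈ (S : Subgroup G), ∀ x ∈ four' f, s * x * s⁻¹ ∈ four' f)) := by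
  haveI : Fact (Nat.Prime 2) := ⟨Nat.prime_two⟩
  set M : Subgroup (GL (Fin 2) F) := monom
  have hsM : signs ≤ M := fun g hg => by
    obtain ⟨p, -, rfl⟩ := hg
    exact Subgroup.mem_sup_left ⟨p, rfl⟩
  have hsp : IsPGroup 2 (signs : Subgroup (GL (Fin 2) F)) := fun x => ⟨1, Subtype.ext (by
    obtain ⟨p, hp, e⟩ := x.2
    rw [Subgroup.coe_pow, pow_one, ← e, ← map_pow]
    exact (congrArg dgHom (MonoidHom.mem_ker.mp hp)).trans (map_one _))⟩
  obtain ⟨PM, hPM⟩ := (hsp.comap_of_injective M.subtype M.subtype_injective).exists_le_sylow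
  obtain ⟨P, hP⟩ := (PM.2.map M.subtype).exists_le_sylow
  obtain ⟨S, hS⟩ := hf.sylow_two h2 P
  have hsigns : signs ≤ (P : Subgroup (GL (Fin 2) F)) := fun g hg =>
    hP ⟨⟨g, hsM hg⟩, hPM hg, rfl⟩
  have hcent : ∀ s ∈ (S : Subgroup G), s * tt f = tt f * s := fun s hs => by
    rw [hS] at hs
    obtain ⟨g, -, rfl⟩ := hs
    exact hf.mem_cent.mpr ⟨g, rfl⟩
  have hfour : four' f ≤ (S : Subgroup G) := by rw [hS]; exact Subgroup.map_mono hsigns
  let eqv := (MulEquiv.ofBijective (f.subgroupMap (P : Subgroup (GL (Fin 2) F)))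
    ⟨hf.two_inj P.2, f.subgroupMap_surjective _⟩).trans (MulEquiv.subgroupCongr hS.symm)
  refine ⟨S, hcent, hfour ⟨dg (-1) (-1), mem_signs.mpr (Or.inr (Or.inl rfl)), rfl⟩, hfour, fun h => ?_, fun h => ?_⟩
  · exact CfsgLib.GLTwoSylow.isQuasiDihedral_congr eqv ((CfsgLib.GLTwoSylow.sylow_cases P).1 h)
  refine ⟨CfsgLib.GLTwoSylow.isWreathed_congr eqv ((CfsgLib.GLTwoSylow.sylow_cases P).2 h), ?_⟩
  -- `P` lies in the monomial group
  have hcard : Nat.card (P : Subgroup (GL (Fin 2) F)) ≤ Nat.card (PM : Subgroup M) := by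
    rw [P.card_eq_multiplicity, PM.card_eq_multiplicity]
    refine Nat.pow_le_pow_right two_pos (le_of_eq ?_)
    have hq1 : Fintype.card F - 1 ≠ 0 := by have := Fintype.one_lt_card (α := F); omega
    obtain ⟨r, hr⟩ : ∃ r, Fintype.card F + 1 = 2 * (2 * r + 1) := ⟨Fintype.card F / 4, by omega⟩
    have hq : ¬ 2 ∣ Fintype.card F * (2 * r + 1) := by
      rw [Nat.prime_two.dvd_mul]; omega
    rw [CfsgLib.GLTwoSylow.card_GL2, card_monom, hr,
      show Fintype.card F * ((Fintype.card F - 1) * (Fintype.card F - 1) * (2 * (2 * r + 1)))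
        = 2 * (Fintype.card F - 1) ^ 2 * (Fintype.card F * (2 * r + 1)) by ring,
      Nat.factorization_mul (mul_ne_zero two_ne_zero (pow_ne_zero 2 hq1))
        (fun e => hq (by rw [e]; exact dvd_zero 2)), Finsupp.add_apply, Nat.factorization_eq_zero_of_not_dvd hq, add_zero]
  have hPle : (P : Subgroup (GL (Fin 2) F)) ≤ M := by
    rw [← Subgroup.eq_of_le_of_card_ge hP (by rw [Subgroup.card_map_of_injective M.subtype_injective]; exact hcard)]
    exact Subgroup.map_subtype_le _
  intro s hs x hx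
  rw [hS] at hs
  obtain ⟨m, hm, rfl⟩ := hs
  obtain ⟨g, hg, rfl⟩ := hx
  exact ⟨_, signs_conj (hPle hm) hg, by rw [map_mul, map_mul, map_inv]⟩

/-- The order formula. -/
theorem index_formula {p : ℕ} [hp : Fact p.Prime] {n : ℕ} (hq : Fintype.card F = p ^ n) (hn : n ≠ 0)
    (h5 : 5 ≤ Fintype.card F) :
    (Fintype.card F % 4 = 1 → ((Subgroup.centralizer ({tt f} : Set G)).index : ℤ) =
        (Fintype.card F : ℤ) ^ 2 * ((Fintype.card F : ℤ) ^ 2 + Fintype.card F + 1)) ∧
      (Fintype.card F % 4 = 3 → ∃ B C : ℤ, B ≠ 0 ∧ B ≠ 1 ∧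
        C * ((Fintype.card F : ℤ) ^ 2 - B) = (Fintype.card F : ℤ) ^ 2 * (B - 1) ∧
        ((Subgroup.centralizer ({tt f} : Set G)).index : ℤ) * (B + Fintype.card F) ^ 2 =
          (Fintype.card F : ℤ) * ((Fintype.card F : ℤ) + 1) ^ 3 * B * (B - 1)) := by
  classical
  haveI := Fintype.ofFinite G
  haveI : Fintype ↥(Subgroup.centralizer ({tt f} : Set G)) := Fintype.ofFinite _
  obtain ⟨S, hzc, htS, hUS, hQD, hW⟩ := hf.sylow_data h2
  have hqodd : Odd (Fintype.card F) := by
    rw [hq]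
    refine (hp.out.odd_of_ne_two fun e => h2 ?_).pow
    have h := FiniteField.cast_card_eq_zero F
    rw [hq, e, Nat.cast_pow, Nat.cast_ofNat] at h
    exact pow_eq_zero_iff hn |>.mp h
  have hp2 : p ≠ 2 := fun e => Nat.not_even_iff_odd.mpr hqodd (by
    rw [hq, e]; exact (Nat.even_pow' hn).mpr even_two)
  have hmod : Fintype.card F % 4 = 1 ∨ Fintype.card F % 4 = 3 := by
    rw [Nat.odd_iff] at hqodd; omega
  have hshape : Cfsg.IsQuasiDihedral (S : Subgroup G) ∨ Cfsg.IsWreathed (S : Subgroup G) :=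
    hmod.elim (fun h => Or.inr (hW h).1) (fun h => Or.inl (hQD h))
  have hnotW : Cfsg.IsQuasiDihedral (S : Subgroup G) → ¬ Cfsg.IsWreathed (S : Subgroup G) := fun h => by
    obtain ⟨m, -, hcard, x, y, hx, -⟩ := h
    exact CfsgLib.AlmostCyclic.not_wreathed ⟨x, by rw [hcard, hx, pow_succ']⟩
  have htu : tt f * uu f = f (dg (-1) 1) := by rw [tt, uu, ← map_mul, dg_mul]; simp
  have hUmem : ∀ x, x ∈ four' f ↔ x = 1 ∨ x = tt f ∨ x = uu f ∨ x = tt f * uu f := by
    intro x
    rw [htu]
    constructor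
    · rintro ⟨g, hg, rfl⟩
      rcases mem_signs.mp hg with rfl | rfl | rfl | rfl <;> simp [tt, uu]
    · rintro (rfl | rfl | rfl | rfl)
      · exact one_mem _
      · exact ⟨_, mem_signs.mpr (Or.inr (Or.inl rfl)), rfl⟩
      · exact ⟨_, mem_signs.mpr (Or.inr (Or.inr (Or.inl rfl))), rfl⟩
      · exact ⟨_, mem_signs.mpr (Or.inr (Or.inr (Or.inr rfl))), rfl⟩
  have hne : tt f * uu f ≠ 1 ∧ tt f * uu f ≠ tt f ∧ tt f * uu f ≠ uu f := by
    refine ⟨fun e => hf.uu_ne_tt h2 ?_, fun e => hf.uu_ne h2 ?_, fun e => hf.tt_ne h2 ?_⟩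
    · rw [eq_inv_of_mul_eq_one_right e, inv_eq_of_mul_eq_one_right tt_sq]
    · exact mul_left_cancel (e.trans (mul_one _).symm)
    · exact mul_right_cancel (e.trans (one_mul _).symm)
  have hU : IsKleinFour (four' f) := by
    haveI : Nontrivial (four' f) := ⟨⟨⟨_, (hUmem _).mpr (Or.inr (Or.inl rfl))⟩, 1, fun e => hf.tt_ne h2
      (congrArg Subtype.val e)⟩⟩
    refine ⟨?_, (Monoid.exponent_eq_prime_iff Nat.prime_two).mpr fun g hg => orderOf_eq_prime ?_ hg⟩
    · rw [show Nat.card (four' f) = Nat.card (four' f : Set G) from rfl, Nat.card_coe_set_eq,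
        show (four' f : Set G) = {1, tt f, uu f, tt f * uu f} from Set.ext fun x => by simp [hUmem]]
      rw [Set.ncard_insert_of_notMem, Set.ncard_insert_of_notMem, Set.ncard_pair]
      · exact fun e => hne.2.2 e.symm
      · simp only [Set.mem_insert_iff, Set.mem_singleton_iff, not_or]
        exact ⟨fun e => hf.uu_ne_tt h2 e.symm, fun e => hne.2.1 e.symm⟩
      · simp only [Set.mem_insert_iff, Set.mem_singleton_iff, not_or]
        exact ⟨fun e => hf.tt_ne h2 e.symm, fun e => hf.uu_ne h2 e.symm, fun e => hne.1 e.symm⟩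
    · refine Subtype.ext ?_
      rw [Subgroup.coe_pow, pow_two]
      rcases (hUmem _).mp g.2 with e | e | e | e <;> rw [e]
      · simp
      · exact tt_sq
      · exact uu_sq
      · rw [Commute.mul_mul_mul_comm (show Commute (uu f) (tt f) from hf.uu_comm), tt_sq, uu_sq]; simp
  obtain ⟨N, hN, hNe⟩ := hf.sl_normal
  obtain ⟨Ω, hΩ, D, hD, hDq, hu, -, hcase⟩ := CfsgLib.BrauerOrder.exists_sys (hf.not_comm h2) S hshape (tt f)
    (orderOf_eq_prime (by rw [pow_two, tt_sq]) (hf.tt_ne h2)) htS hzc (four' f) hUS hU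
    (fun hw => hmod.elim (fun h => (hW h).2) fun h => absurd hw (hnotW (hQD h)))
    hp2 n (Nat.one_le_iff_ne_zero.mpr hn) F hq ⟨N, hN, hNe h2⟩
  letI := hΩ
  have hcardΩ : Nat.card Ω = Fintype.card F + 1 := by rw [hD.core.card, hDq, hq]
  haveI : Finite Ω := Nat.finite_of_card_ne_zero (by omega)
  -- the orbit count on the two tori
  have horb : ∀ b, ((D.core.Z.subgroupOf (D.core.T b)).index : ℤ) ∣
      (Fintype.card F : ℤ) - D.core.σ b := by
    intro b
    have h := dvd_of_fixed (A := D.core.T b) (Ω := Ω) (D.core.Z.subgroupOf (D.core.T b))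
      (fun u hu a => hD.core.ztriv _ hu a) (c := 1 + D.core.σ b)
      (fun t ht => hD.core.fix b t t.2 ht)
    rw [hcardΩ] at h
    rwa [show ((Fintype.card F + 1 : ℕ) : ℤ) - (1 + D.core.σ b) = (Fintype.card F : ℤ) - D.core.σ b by
      push_cast; ring] at h
  have hindex : (D.core.Z.subgroupOf (D.core.T true)).index = Nat.card D.core.Z := by
    have h := (D.core.Z.subgroupOf (D.core.T true)).card_mul_index
    rw [Nat.card_congr (Subgroup.subgroupOfEquivOfLe (hD.core.zle true)).toEquiv, hD.cardU, pow_two] at h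
    exact Nat.eq_of_mul_eq_mul_left Nat.card_pos h
  have hσ : D.core.σ true = 1 := by
    rcases hD.core.sgn true with e | e
    · exact e
    exfalso
    rcases hcase with ⟨hq', hZ⟩ | ⟨hw, hZ⟩
    · have h3 : Fintype.card F % 4 = 3 := hmod.resolve_left fun h => hnotW hq' (hW h).1
      obtain ⟨b, x, h, hrot⟩ := hD.rot
      obtain ⟨a, ha⟩ := hrot.hpow
      haveI : ((D.core.Z.subgroupOf (D.core.T b))).Normal :=
        ⟨fun y hy g => by
          rw [show g * y * g⁻¹ = y from Subtype.ext (by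
            show (g : ↥(Subgroup.centralizer ({tt f} : Set G))) * y * (g : ↥(Subgroup.centralizer ({tt f} : Set G)))⁻¹ = y
            rw [hD.core.tcomm b _ g.2 _ y.2, mul_inv_cancel_right])]
          exact hy⟩
      have hord : orderOf (QuotientGroup.mk' (D.core.Z.subgroupOf (D.core.T b)) ⟨x, hrot.xmem⟩) = 2 * h := by
        have hpos : 0 < 2 * h := by rw [ha]; positivity
        refine (orderOf_eq_iff hpos).mpr ⟨?_, fun i hi hi0 => ?_⟩
        · rw [← map_pow]; exact (QuotientGroup.eq_one_iff _).mpr hrot.xpow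
        · rw [← map_pow]; exact fun hc => hrot.xlow i hi0 hi ((QuotientGroup.eq_one_iff ((⟨x, hrot.xmem⟩ : D.core.T b) ^ i)).mp hc)
      have h4 : (4 : ℕ) ∣ (D.core.Z.subgroupOf (D.core.T b)).index := by
        refine (Dvd.intro (2 ^ a) ?_ : 4 ∣ 2 * h).trans (hord ▸ orderOf_dvd_natCard _)
        rw [ha, pow_succ]; ring
      cases b
      · have h' := (Int.natCast_dvd_natCast.mpr h4).trans (horb false)
        rw [hD.core.sgnne, e, neg_neg] at h'
        omega
      · rw [hindex, hZ] at h4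
        omega
    · have h1 : Fintype.card F % 4 = 1 := hmod.resolve_right fun h => hnotW (hQD h) hw
      have h' := horb true
      rw [hindex, e] at h'
      obtain ⟨k, hk⟩ := IsPGroup.iff_card.mp ((D.core.S.2.to_le ((hD.core.zle true).trans (hD.core.tle true))))
      have h4 : 4 ∣ Nat.card D.core.Z := by
        rw [hk] at hZ ⊢
        refine (pow_dvd_pow 2 (?_ : 2 ≤ k) : 2 ^ 2 ∣ 2 ^ k)
        by_contra hlt
        have := Nat.pow_le_pow_right two_pos (show k ≤ 1 by omega)
        omega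
      have h'' := (Int.natCast_dvd_natCast.mpr h4).trans h'
      omega
  have hQ : D.Q = (Fintype.card F : ℤ) := by rw [CfsgLib.BrauerOrder.Sys.Q, hσ, one_mul, hDq, hq]
  -- the orders
  have hUtor : Subgroup.centralizer (four' f : Set G) = tor f := by
    ext x
    rw [hf.tor_iff h2, Subgroup.mem_centralizer_iff]
    refine ⟨fun h => ⟨(h _ ((hUmem _).mpr (by simp))).symm, (h _ ((hUmem _).mpr (by simp))).symm⟩, fun h a ha => ?_⟩
    rcases (hUmem a).mp ha with rfl | rfl | rfl | rfl
    · simp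
    · exact h.1.symm
    · exact h.2.symm
    · rw [mul_assoc, ← h.2, ← mul_assoc, ← h.1, mul_assoc]
  rw [hUtor] at hu
  have hG : (Nat.card G : ℤ) = (Nat.card f.range : ℤ) *
      ((Subgroup.centralizer ({tt f} : Set G)).index : ℤ) := by
    rw [hf.range, ← Nat.cast_mul, Subgroup.card_mul_index]
  have hc' : (Nat.card (CfsgLib.BrauerOrder.Cz (tt f)) : ℤ) = Nat.card f.range := by rw [hf.range]
  have hC := congrArg (fun m : ℕ => (m : ℤ)) hf.card_cent
  have hT := congrArg (fun m : ℕ => (m : ℤ)) hf.card_tor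
  push_cast [Nat.cast_sub (show 1 ≤ Fintype.card F by omega)] at hC hT
  set q : ℤ := (Fintype.card F : ℤ) with hqz
  set c : ℤ := (Nat.card f.range : ℤ)
  set h : ℤ := (Nat.card (tor f) : ℤ)
  set z : ℤ := (Nat.card f.ker : ℤ)
  set M : ℤ := ((Subgroup.centralizer ({tt f} : Set G)).index : ℤ)
  have hq0 : q ≠ 0 := by omega
  have hc0 : c ≠ 0 := by simp [c]
  have hne0 : (q - 1) ^ 4 ≠ 0 := pow_ne_zero 4 (by omega)
  constructor
  · intro h1
    have hW' := hcase.resolve_left fun h => hnotW h.1 (hW h1).1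
    have key := CfsgLib.BrauerOrder.order_wreathed hD hW'.2
    rw [← hu, hQ, hG, hc'] at key
    have key' : M * h ^ 2 * (q + 1) ^ 2 = c ^ 2 * (q ^ 2 + q + 1) :=
      mul_left_cancel₀ hc0 (by linear_combination key)
    refine mul_left_cancel₀ (mul_ne_zero hne0 (pow_ne_zero 2 (show q + 1 ≠ 0 by omega))) ?_
    linear_combination z ^ 2 * key' + (q ^ 2 + q + 1) * (c * z + q * (q - 1) ^ 2 * (q + 1)) * hC
      - M * (q + 1) ^ 2 * (h * z + (q - 1) ^ 2) * hT
  · intro h3
    have hQ' := hcase.resolve_right fun h => hnotW (hQD h3) h.1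
    obtain ⟨B, C, hB, hB1, -, -, hCB, key, -⟩ := CfsgLib.BrauerOrder.data_qd hD hQ'.2
    rw [← hu, hQ, hG, hc'] at key
    rw [hQ] at hCB
    refine ⟨B, C, hB, hB1, hCB, ?_⟩
    have key' : c ^ 2 * ((q + 1) * B * (B - 1)) = M * h ^ 2 * (q * (B + q) ^ 2) :=
      mul_left_cancel₀ hc0 (by linear_combination key)
    refine mul_left_cancel₀ (mul_ne_zero hne0 hq0) ?_
    linear_combination -(z ^ 2) * key' + (q + 1) * B * (B - 1) * (c * z + q * (q - 1) ^ 2 * (q + 1)) * hC
      - M * q * (B + q) ^ 2 * (h * z + (q - 1) ^ 2) * hT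

end Hyp

end CfsgLib.GL2Cent
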