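import Cfsg.Agent.Lib.GL2Cent.Dichotomy

/-!
Two settings with the same torus and different central involutions, read symmetrically.
-/

set_option autoImplicit false
set_option linter.unusedSectionVars false
set_option linter.style.haveILetI false

namespace CfsgLib.GL2Cent

open Matrix

variable {G : Type*} [Group G] {F : Type*} [Field F]

/-- Two centralisers with the same torus. -/
structure Pair (f f' : GL (Fin 2) F →* G) : Prop where
  hf : Hyp f
  hf' : Hyp f'
  htor : tor f' = tor f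
  ne : tt f' ≠ tt f

theorem Pair.symm {f f' : GL (Fin 2) F →* G} (h : Pair f f') : Pair f' f :=
  ⟨h.hf', h.hf, h.htor.symm, h.ne.symm⟩

theorem tt_mem_tor (f : GL (Fin 2) F →* G) : tt f ∈ tor f := mem_tor.mpr ⟨_, _, rfl⟩

theorem tor_comm {f : GL (Fin 2) F →* G} {x y : G} (hx : x ∈ tor f) (hy : y ∈ tor f) : x * y = y * x := by
  obtain ⟨a, b, rfl⟩ := mem_tor.mp hx
  obtain ⟨c, d, rfl⟩ := mem_tor.mp hy
  rw [← map_mul, ← map_mul, dg_mul, dg_mul, mul_comm a, mul_comm b]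

theorem root_flip' (f : GL (Fin 2) F →* G) : root (flip' f) = (root f).map (MulAut.conj (f ww)).toMonoidHom := by
  rw [root, root, flip', MonoidHom.map_range, MonoidHom.comp_assoc]

theorem Hyp.flip'_hyp {f : GL (Fin 2) F →* G} (hf : Hyp f) : Hyp (flip' f) := hf.conj _

theorem flip'_flip' (f : GL (Fin 2) F →* G) : flip' (flip' f) = f := by
  ext g
  rw [flip'_apply, flip'_apply]
  congr 1
  rw [show (ww : GL (Fin 2) F) * (ww * g * ww⁻¹) * ww⁻¹ = ww * ww * g * (ww * ww)⁻¹ by group, ww_mul_self, one_mul,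
    inv_one, mul_one]

theorem root_tt_mem {f : GL (Fin 2) F →* G} (hf : Hyp f) {x : G} (hx : x ∈ root f) : x * tt f = tt f * x := by
  obtain ⟨β, rfl⟩ := mem_root.mp hx
  exact hf.root_tt β

namespace Hyp

variable {f : GL (Fin 2) F →* G} (hf : Hyp f) [Finite G] [IsSimpleGroup G] [Fintype F] (h2 : (2 : F) ≠ 0)
include hf h2

/-- The involutions of the torus. -/
theorem tor_sq {x : G} (hx : x ∈ tor f) (hxx : x * x = 1) :
    x = 1 ∨ x = tt f ∨ x = uu f ∨ x = tt f * uu f := by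
  obtain ⟨hxt, hxu⟩ := (hf.tor_iff h2).mp hx
  obtain ⟨g, hg⟩ := hf.mem_cent.mp hxt
  obtain ⟨g', e, hg'⟩ := hf.exists_sq_one h2 (g := g) (by rw [hg]; exact hxx)
  rw [hg] at e
  have hd := commute_dg (a := (1 : Fˣ)) (b := -1) (Ne.symm (neg_one_ne h2)) (hf.comm_iff.mp (by rw [e]; exact hxu))
  obtain ⟨a, b, rfl⟩ := eq_dg hd
  rw [dg_mul, ← dg_one] at hg'
  obtain ⟨ha, hb⟩ := dg_inj hg'
  have hs : ∀ a : Fˣ, a * a = 1 → a = 1 ∨ a = -1 := fun a ha => (mul_self_eq_one_iff.mp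
    (show (a : F) * a = 1 by rw [← Units.val_mul, ha, Units.val_one])).imp
      (fun e => Units.ext e) (fun e => Units.ext (by simpa using e))
  have htu : tt f * uu f = f (dg (-1) 1) := by rw [tt, uu, ← map_mul, dg_mul]; simp
  rw [← e, htu]
  rcases hs a ha with rfl | rfl <;> rcases hs b hb with rfl | rfl <;> simp [tt, uu, dg_one]

/-- A nontrivial root element generates the root group under the torus. -/
theorem root_le_of_mem {K : Subgroup G} (hK : ∀ h ∈ tor f, ∀ x ∈ K, h * x * h⁻¹ ∈ K) {y : G} (hy : y ∈ root f)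
    (hyK : y ∈ K) (hy1 : y ≠ 1) : root f ≤ K := fun x hx => by
  obtain ⟨β, rfl⟩ := mem_root.mp hy
  have hβ0 : β ≠ 0 := fun e => hy1 (by rw [e, xr_zero, map_one])
  obtain ⟨γ, rfl⟩ := mem_root.mp hx
  rcases eq_or_ne γ 0 with rfl | hγ
  · rw [xr_zero, map_one]; exact one_mem K
  have h := hK _ (mem_tor.mpr ⟨Units.mk0 (γ / β) (div_ne_zero hγ hβ0), 1, rfl⟩) _ hyK
  rw [← map_inv, ← map_mul, ← map_mul, dg_conj_xr] at h
  simpa [div_mul_cancel₀ _ hβ0] using h

/-- A subgroup of odd order with the root group: its part in the centraliser. -/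
theorem card_split {D : Subgroup G} (hD : Odd (Nat.card D)) (hr : root f ≤ D) :
    Nat.card (D ⊓ Subgroup.centralizer {tt f} : Subgroup G) =
      Fintype.card F * Nat.card (D ⊓ tor f : Subgroup G) := by
  classical
  set P : Subgroup (GL (Fin 2) F) := D.comap f with hP
  have hPodd : Odd (Nat.card P) := by
    have e := Subgroup.card_mul_index (f.ker.subgroupOf P)
    have hi : (f.ker.subgroupOf P).index = Nat.card (f.domRestrict P).range := by
      rw [← Subgroup.index_ker, MonoidHom.ker_domRestrict]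
    rw [hi, Nat.card_congr (Subgroup.subgroupOfEquivOfLe (show f.ker ≤ P from fun x hx => by
      simp [hP, Subgroup.mem_comap, f.mem_ker.mp hx])).toEquiv] at e
    rw [← e]
    refine hf.kero.mul (hD.of_dvd_nat (Subgroup.card_dvd_of_le ?_))
    rintro _ ⟨x, rfl⟩
    exact x.2
  have hx : ∀ γ, xr γ ∈ P := fun γ => Subgroup.mem_comap.mpr (hr (mem_root.mpr ⟨γ, rfl⟩))
  have hmem : ∀ v : root f × (D ⊓ tor f : Subgroup G),
      (v.2 : G) * v.1 ∈ D ⊓ Subgroup.centralizer {tt f} := fun v =>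
    ⟨mul_mem v.2.2.1 (hr v.1.2), Subgroup.mem_centralizer_singleton_iff.mpr (by
      rw [mul_assoc, root_tt_mem hf v.1.2, ← mul_assoc, ((hf.tor_iff h2).mp v.2.2.2).1, mul_assoc])⟩
  rw [← hf.card_root, ← Nat.card_prod]
  symm
  refine Nat.card_congr (Equiv.ofBijective (fun v => ⟨_, hmem v⟩) ⟨fun v w e => ?_, fun x => ?_⟩)
  · have e' : (v.2 : G) * v.1 = w.2 * w.1 := congrArg Subtype.val e
    have h1 : (w.2 : G)⁻¹ * v.2 = w.1 * (v.1 : G)⁻¹ := by
      rw [inv_mul_eq_iff_eq_mul, ← mul_assoc, eq_mul_inv_iff_mul_eq]; exact e'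
    obtain ⟨γ, hγ⟩ := mem_root.mp (mul_mem w.1.2 (inv_mem v.1.2))
    have h0 : γ = 0 := hf.xr_mem_tor (by rw [hγ, ← h1]; exact mul_mem (inv_mem w.2.2.2) v.2.2.2)
    rw [h0, xr_zero, map_one] at hγ
    rw [← hγ] at h1
    exact Prod.ext (Subtype.ext (mul_inv_eq_one.mp hγ.symm).symm) (Subtype.ext (inv_mul_eq_one.mp h1).symm)
  · obtain ⟨g, hg⟩ := hf.mem_cent.mp (Subgroup.mem_centralizer_singleton_iff.mp x.2.2)
    have hgP : g ∈ P := Subgroup.mem_comap.mpr (by rw [hg]; exact x.2.1)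
    obtain ⟨a, b, e⟩ := tri_cases (g := g) (no_lower_with_xr hPodd hx hgP)
    refine ⟨(⟨f (xr (g.1 0 1 / g.1 0 0)), mem_root.mpr ⟨_, rfl⟩⟩,
      ⟨f (dg a b), Subgroup.mem_comap.mp (?_ : dg a b ∈ P), mem_tor.mpr ⟨a, b, rfl⟩⟩), Subtype.ext ?_⟩
    · have := mul_mem hgP (inv_mem (hx (g.1 0 1 / g.1 0 0)))
      have e' : g * (xr (g.1 0 1 / g.1 0 0))⁻¹ = dg a b := mul_inv_eq_iff_eq_mul.mpr e
      rwa [e'] at this
    · show f (dg a b) * f (xr (g.1 0 1 / g.1 0 0)) = x
      rw [← map_mul, ← e, hg]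

/-- Both root groups do not fit in a subgroup of odd order. -/
theorem not_both {D : Subgroup G} (hD : Odd (Nat.card D)) (h1 : root f ≤ D) (h2' : root (flip' f) ≤ D) : False := by
  classical
  set P : Subgroup (GL (Fin 2) F) := D.comap f with hP
  have hPodd : Odd (Nat.card P) := by
    have e := Subgroup.card_mul_index (f.ker.subgroupOf P)
    have hi : (f.ker.subgroupOf P).index = Nat.card (f.domRestrict P).range := by
      rw [← Subgroup.index_ker, MonoidHom.ker_domRestrict]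
    rw [hi, Nat.card_congr (Subgroup.subgroupOfEquivOfLe (show f.ker ≤ P from fun x hx => by
      simp [hP, Subgroup.mem_comap, f.mem_ker.mp hx])).toEquiv] at e
    rw [← e]
    refine hf.kero.mul (hD.of_dvd_nat (Subgroup.card_dvd_of_le ?_))
    rintro _ ⟨x, rfl⟩
    exact x.2
  have hx : ∀ γ, xr γ ∈ P := fun γ => Subgroup.mem_comap.mpr (h1 (mem_root.mpr ⟨γ, rfl⟩))
  have hy : yr (1 : F) ∈ P := Subgroup.mem_comap.mpr (by
    rw [← flip'_xr]; exact h2' (mem_root.mpr ⟨1, rfl⟩))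
  simpa [yr] using no_lower_with_xr hPodd hx hy

variable {p : ℕ} [hp : Fact p.Prime] {n : ℕ} (hq : Fintype.card F = p ^ n) (hn : n ≠ 0)
include hq hn

/-- The root groups are the subgroups of order `q` normalised by the torus. -/
theorem p_sub_root {P : Subgroup G} (hP : Nat.card P = Fintype.card F) (hle : P ≤ Subgroup.centralizer {tt f})
    (hn' : ∀ h ∈ tor f, ∀ x ∈ P, h * x * h⁻¹ ∈ P) : P = root f ∨ P = root (flip' f) := by
  have hodd : Odd (Fintype.card F) := by
    rw [hq]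
    refine (hp.out.odd_of_ne_two fun e => h2 ?_).pow
    have h := FiniteField.cast_card_eq_zero F
    rw [hq, e, Nat.cast_pow, Nat.cast_ofNat] at h
    exact pow_eq_zero_iff hn |>.mp h
  rcases hf.odd_normalised_cases h2 (by rw [hP]; exact hodd) hn' with h | h | h
  · exfalso
    rw [inf_eq_left.mpr hle] at h
    have hd := Subgroup.card_dvd_of_le h
    rw [hP, hq] at hd
    have hd' : p ∣ Nat.card (tor f) * Nat.card f.ker :=
      ((dvd_pow_self p hn).trans hd).mul_right _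
    rw [hf.card_tor] at hd'
    exact not_dvd_pred hq hn (hp.out.dvd_of_dvd_pow hd')
  · exact Or.inl (Subgroup.eq_of_le_of_card_ge h (by rw [hP, hf.card_root])).symm
  · exact Or.inr (Subgroup.eq_of_le_of_card_ge h (by rw [hP, hf.flip'_hyp.card_root])).symm

end Hyp

namespace Pair

variable {f f' : GL (Fin 2) F →* G} (h : Pair f f') [Finite G] [IsSimpleGroup G] [Fintype F] (h2 : (2 : F) ≠ 0)
include h h2

theorem cases : tt f' = uu f ∨ tt f' = tt f * uu f := by
  rcases h.hf.tor_sq h2 (h.htor ▸ tt_mem_tor f') Hyp.tt_sq with e | e | e | e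
  · exact absurd e (h.hf'.tt_ne h2)
  · exact absurd e h.ne
  · exact Or.inl e
  · exact Or.inr e

theorem comm : tt f * tt f' = tt f' * tt f := tor_comm (tt_mem_tor f) (h.htor ▸ tt_mem_tor f')

theorem tor_iff' {x : G} : x ∈ tor f ↔ x * tt f = tt f * x ∧ x * tt f' = tt f' * x := by
  refine ⟨fun hx => ⟨((h.hf.tor_iff h2).mp hx).1, ((h.hf'.tor_iff h2).mp (h.htor.symm ▸ hx)).1⟩, fun ⟨ht, hu⟩ =>
    (h.hf.tor_iff h2).mpr ⟨ht, ?_⟩⟩
  rcases h.cases h2 with e | e
  · rwa [e] at hu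
  · rw [e] at hu
    have hu' : uu f = tt f * (tt f * uu f) := by rw [← mul_assoc, Hyp.tt_sq, one_mul]
    rw [hu', ← mul_assoc, ht, mul_assoc, hu, ← mul_assoc]

/-- The other involution inverts the root group. -/
theorem inv_root {x : G} (hx : x ∈ root f) : tt f' * x * (tt f')⁻¹ = x⁻¹ := by
  obtain ⟨β, rfl⟩ := mem_root.mp hx
  have hi : (xr β)⁻¹ = xr (-β) := inv_eq_of_mul_eq_one_right (by rw [xr_add, add_neg_cancel, xr_zero])
  rcases h.cases h2 with e | e <;> rw [e]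
  · rw [uu, ← map_inv, ← map_inv, ← map_mul, ← map_mul, dg_conj_xr, hi]
    simp
  · rw [uu, tt, ← map_mul, dg_mul, ← map_inv, ← map_inv, ← map_mul, ← map_mul, dg_conj_xr, hi]
    simp

/-- The root group meets the other centraliser trivially. -/
theorem root_cent_eq_one {x : G} (hx : x ∈ root f) (hc : x * tt f' = tt f' * x) : x = 1 := by
  have e := h.inv_root h2 hx
  rw [← hc, mul_inv_cancel_right] at e
  obtain ⟨β, hβ⟩ := mem_root.mp hx
  have h0 : f (xr β * xr β) = 1 := by rw [map_mul, hβ]; exact eq_inv_iff_mul_eq_one.mp e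
  rw [xr_add] at h0
  have h1 : β = 0 := (mul_eq_zero.mp (show (2 : F) * β = 0 by rw [two_mul]; exact h.hf.root_inj h0)).resolve_left h2
  rw [← hβ, h1, xr_zero, map_one]

/-- The order formula read symmetrically. -/
theorem four' {N : Subgroup G} (hN : Odd (Nat.card N)) (hn : ∀ a ∈ tor f, ∀ x ∈ N, a * x * a⁻¹ ∈ N) :
    Nat.card N * Nat.card (N ⊓ tor f : Subgroup G) ^ 2 =
      Nat.card (N ⊓ Subgroup.centralizer {tt f} : Subgroup G) *
      Nat.card (N ⊓ Subgroup.centralizer {tt f'} : Subgroup G) *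
      Nat.card (N ⊓ Subgroup.centralizer {tt f * tt f'} : Subgroup G) := by
  have e := h.hf.four h2 hN (fun x hx => hn _ (tt_mem_tor f) x hx) (fun x hx => hn _ (mem_tor.mpr ⟨_, _, rfl⟩) x hx)
  rcases h.cases h2 with c | c
  · rw [c]; exact e
  · rw [c, ← mul_assoc (tt f) (tt f) (uu f), Hyp.tt_sq, one_mul, e]
    ring

/-- The third centraliser. -/
theorem exists_third : ∃ g : GL (Fin 2) F →* G, Pair f g ∧ Pair f' g ∧ tt g = tt f * tt f' := by
  have key : ∀ {e : GL (Fin 2) F →* G}, Hyp e → ∃ g : GL (Fin 2) F →* G, Hyp g ∧ tt g = uu e ∧ tor g = tor e := by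
    intro e he
    obtain ⟨s, hs1, hs2⟩ := he.exists_swap h2
    set g := (MulAut.conj s).toMonoidHom.comp e
    have hg : Hyp g := he.conj s
    have ht : tt g = uu e := by simp only [tt] at hs1 ⊢; exact hs1
    have hu : uu g = tt e := by simp only [uu] at hs2 ⊢; exact hs2
    refine ⟨g, hg, ht, ?_⟩
    ext x
    rw [hg.tor_iff h2, he.tor_iff h2, ht, hu]
    exact and_comm
  obtain ⟨g, hg, ht, htor⟩ : ∃ g : GL (Fin 2) F →* G, Hyp g ∧ tt g = tt f * tt f' ∧ tor g = tor f := by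
    rcases h.cases h2 with c | c
    · obtain ⟨g, hg, ht, htor⟩ := key h.hf.alphaComp
      exact ⟨g, hg, by rw [ht, h.hf.alpha_uu, c], htor.trans (tor_alpha f)⟩
    · obtain ⟨g, hg, ht, htor⟩ := key h.hf
      exact ⟨g, hg, by rw [ht, c, ← mul_assoc, Hyp.tt_sq, one_mul], htor⟩
  refine ⟨g, ⟨h.hf, hg, htor, ?_⟩, ⟨h.hf', hg, htor.trans h.htor.symm, ?_⟩, ht⟩
  · rw [ht]; exact fun e => h.hf'.tt_ne h2 (mul_eq_left.mp e)
  · rw [ht]; exact fun e => h.hf.tt_ne h2 (mul_eq_right.mp e)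

variable {p : ℕ} [hp : Fact p.Prime] {n : ℕ} (hq : Fintype.card F = p ^ n) (hn : n ≠ 0)
include hq hn

/-- The root groups of the two centralisers are conjugate. -/
theorem exists_conj_root : ∃ g : G, g * tt f * g⁻¹ = tt f' ∧
    (root f).map (MulAut.conj g).toMonoidHom = root f' ∧ g ∈ Subgroup.normalizer (tor f : Set G) := by
  obtain ⟨s, hs, hnorm⟩ : ∃ s : G, s * tt f * s⁻¹ = tt f' ∧ ∀ a ∈ tor f, s⁻¹ * a * s ∈ tor f := by
    have key : ∀ {e : GL (Fin 2) F →* G}, Hyp e → ∃ s : G, s * tt e * s⁻¹ = uu e ∧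
        ∀ a ∈ tor e, s⁻¹ * a * s ∈ tor e := by
      intro e he
      obtain ⟨s, hs1, hs2⟩ := he.exists_swap h2
      refine ⟨s, hs1, fun a ha => ?_⟩
      obtain ⟨a1, a2⟩ := (he.tor_iff h2).mp ha
      refine (he.tor_iff h2).mpr ⟨?_, ?_⟩
      · calc s⁻¹ * a * s * tt e = s⁻¹ * (a * (s * tt e * s⁻¹)) * s := by group
          _ = s⁻¹ * (s * tt e * s⁻¹ * a) * s := by rw [hs1, a2]
          _ = _ := by group
      · calc s⁻¹ * a * s * uu e = s⁻¹ * (a * (s * uu e * s⁻¹)) * s := by group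
          _ = s⁻¹ * (s * uu e * s⁻¹ * a) * s := by rw [hs2, a1]
          _ = _ := by group
    rcases h.cases h2 with c | c
    · rw [c]; exact key h.hf
    · obtain ⟨s, h1, h3⟩ := key h.hf.alphaComp
      refine ⟨s, ?_, tor_alpha f ▸ h3⟩
      have ht : tt (f.comp (alpha : GL (Fin 2) F →* GL (Fin 2) F)) = tt f := by simp [tt, alpha_dg]
      rw [ht, h.hf.alpha_uu] at h1
      rw [c, h1]
  set P := (root f).map (MulAut.conj s).toMonoidHom
  have hP : Nat.card P = Fintype.card F := by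
    rw [Subgroup.card_map_of_injective (MulEquiv.injective _), h.hf.card_root]
  have hle : P ≤ Subgroup.centralizer {tt f'} := by
    rintro _ ⟨x, hx, rfl⟩
    rw [Subgroup.mem_centralizer_singleton_iff, ← hs]
    simp only [MulEquiv.toMonoidHom_eq_coe, MonoidHom.coe_coe, MulAut.conj_apply]
    calc s * x * s⁻¹ * (s * tt f * s⁻¹) = s * (x * tt f) * s⁻¹ := by group
      _ = s * (tt f * x) * s⁻¹ := by rw [root_tt_mem h.hf hx]
      _ = _ := by group
  have hnP : ∀ a ∈ tor f', ∀ x ∈ P, a * x * a⁻¹ ∈ P := by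
    rintro a ha _ ⟨x, hx, rfl⟩
    refine ⟨s⁻¹ * a * s * x * (s⁻¹ * a * s)⁻¹, h.hf.tor_conj_root h2 (hnorm a (h.htor ▸ ha)) hx, ?_⟩
    simp only [MulEquiv.toMonoidHom_eq_coe, MonoidHom.coe_coe, MulAut.conj_apply]
    group
  have hsN : s ∈ Subgroup.normalizer (tor f : Set G) := by
    rw [← inv_inv s]
    exact inv_mem (Subgroup.mem_normalizer_fintype (x := s⁻¹) fun a ha => by rw [inv_inv]; exact hnorm a ha)
  rcases h.hf'.p_sub_root h2 hq hn hP hle hnP with e | e
  · exact ⟨s, hs, e, hsN⟩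
  · refine ⟨f' ww * s, ?_, ?_, mul_mem (Subgroup.mem_normalizer_fintype fun a ha => ?_) hsN⟩
    · rw [show f' ww * s * tt f * (f' ww * s)⁻¹ = f' ww * (s * tt f * s⁻¹) * (f' ww)⁻¹ by group, hs]
      rw [mul_inv_eq_iff_eq_mul]
      exact h.hf'.mem_cent.mpr ⟨_, rfl⟩
    · rw [show (MulAut.conj (f' ww * s)).toMonoidHom = (MulAut.conj (f' ww)).toMonoidHom.comp
        (MulAut.conj s).toMonoidHom from MonoidHom.ext fun x => by simp [MulAut.conj_apply, mul_assoc],
        ← Subgroup.map_map, show (root f).map (MulAut.conj s).toMonoidHom = root (flip' f') from e,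
        show f' ww = flip' f' ww by rw [flip'_apply]; simp, ← root_flip', flip'_flip']
    · obtain ⟨c, d, rfl⟩ := mem_tor.mp (h.htor.symm ▸ ha : a ∈ tor f')
      rw [← map_mul, ← map_inv, ← map_mul, ww_conj_dg, ← h.htor]
      exact mem_tor.mpr ⟨d, c, rfl⟩

end Pair

end CfsgLib.GL2Cent
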