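import Cfsg.Agent.Lib.GL2Cent.Triangle

/-!
With index `q² (q² + q + 1)` the normaliser of two commuting root groups holds the third centraliser.
-/

set_option autoImplicit false
set_option linter.unusedSectionVars false
set_option linter.style.haveILetI false

namespace CfsgLib.GL2Cent

open Matrix

variable {G : Type*} [Group G] {F : Type*} [Field F]

theorem root_conjComp (f : GL (Fin 2) F →* G) (c : G) :
    root ((MulAut.conj c).toMonoidHom.comp f) = (root f).map (MulAut.conj c).toMonoidHom := by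
  rw [root, root, MonoidHom.map_range, MonoidHom.comp_assoc]

theorem tor_conjComp (f : GL (Fin 2) F →* G) (c : G) :
    tor ((MulAut.conj c).toMonoidHom.comp f) = (tor f).map (MulAut.conj c).toMonoidHom := by
  rw [tor, tor, MonoidHom.map_range, MonoidHom.comp_assoc]

theorem tt_conjComp (f : GL (Fin 2) F →* G) (c : G) :
    tt ((MulAut.conj c).toMonoidHom.comp f) = c * tt f * c⁻¹ := rfl

namespace Hyp

variable {f f' : GL (Fin 2) F →* G} (hf : Hyp f) [Finite G] [IsSimpleGroup G] [Fintype F] (h2 : (2 : F) ≠ 0)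
include hf h2

/-- The index does not depend on the involution. -/
theorem index_eq (hf' : Hyp f') :
    (Subgroup.centralizer ({tt f'} : Set G)).index = (Subgroup.centralizer ({tt f} : Set G)).index := by
  have hc : ∀ {e : GL (Fin 2) F →* G}, Hyp e →
      Nat.card (Subgroup.centralizer ({tt e} : Set G)) * (Subgroup.centralizer ({tt e} : Set G)).index = Nat.card G :=
    fun _ => Subgroup.card_mul_index _
  obtain ⟨g, hg⟩ := hf.conj_tt h2 (x := tt f') tt_sq (hf'.tt_ne h2)
  have hmap : (Subgroup.centralizer ({tt f'} : Set G)).map (MulAut.conj g).toMonoidHom =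
      Subgroup.centralizer ({tt f} : Set G) := by
    ext x
    rw [Subgroup.mem_map, Subgroup.mem_centralizer_singleton_iff]
    constructor
    · rintro ⟨y, hy, rfl⟩
      rw [Subgroup.mem_centralizer_singleton_iff] at hy
      rw [← hg]
      simp only [MulEquiv.toMonoidHom_eq_coe, MonoidHom.coe_coe, MulAut.conj_apply]
      calc g * y * g⁻¹ * (g * tt f' * g⁻¹) = g * (y * tt f') * g⁻¹ := by group
        _ = g * (tt f' * y) * g⁻¹ := by rw [hy]
        _ = _ := by group
    · intro hx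
      refine ⟨g⁻¹ * x * g, Subgroup.mem_centralizer_singleton_iff.mpr ?_, by simp [MulAut.conj_apply, mul_assoc]⟩
      calc g⁻¹ * x * g * tt f' = g⁻¹ * (x * (g * tt f' * g⁻¹)) * g := by group
        _ = g⁻¹ * (tt f * x) * g := by rw [hg, hx]
        _ = _ := by rw [← hg]; group
  have e := hc hf'
  rw [← Subgroup.card_map_of_injective (f := (MulAut.conj g).toMonoidHom) (MulEquiv.injective _), hmap, ← hc hf] at e
  exact Nat.eq_of_mul_eq_mul_left Nat.card_pos e

end Hyp

namespace Pair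

variable {f f' : GL (Fin 2) F →* G} (h : Pair f f') [Finite G] [IsSimpleGroup G] [Fintype F] (h2 : (2 : F) ≠ 0)
include h h2

/-- A root group has one neighbour in another centraliser. -/
theorem not_adj_flip (ha : Adj f f') (hb : Adj f (flip' f')) : False := by
  set K := Subgroup.centralizer (root f : Set G)
  obtain ⟨N, hN, hmem, -⟩ := h.hf.odd_part h2 (K := K)
    (Subgroup.mem_centralizer_iff.mpr fun x hx => root_tt_mem h.hf hx)
    (fun x hx hc => h.hf.cent_one one_ne_zero hc
      (Subgroup.mem_centralizer_iff.mp hx _ (mem_root.mpr ⟨1, rfl⟩)).symm)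
  have hodd : ∀ e : GL (Fin 2) F →* G, Hyp e → Adj f e → root e ≤ N := fun e he hadj x hx =>
    (hmem x).mpr ⟨Subgroup.mem_centralizer_iff.mpr fun y hy => hadj y hy x hx, by
      refine Odd.of_dvd_nat ?_ (Subgroup.orderOf_dvd_natCard _ hx)
      rw [he.card_root]
      refine Nat.odd_iff.mpr (FiniteField.odd_card_of_char_ne_two (F := F) fun e2 => h2 ?_)
      exact_mod_cast (ringChar.spec F 2).mpr (e2 ▸ dvd_rfl)⟩
  exact h.hf'.not_both h2 hN (hodd f' h.hf' ha) (hodd _ h.hf'.flip'_hyp hb)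

variable (hc : Adj f f') {p : ℕ} [hp : Fact p.Prime] {n : ℕ} (hq : Fintype.card F = p ^ n) (hn : n ≠ 0)
  (hN : (Subgroup.centralizer ({tt f} : Set G)).index =
      Fintype.card F ^ 2 * (Fintype.card F ^ 2 + Fintype.card F + 1))
include hc hq hn hN

theorem exists_normalising : ∃ g : GL (Fin 2) F →* G, Pair f g ∧ Pair f' g ∧ tt g = tt f * tt f' ∧
    root g ≤ Subgroup.normalizer (qq f f' : Set G) ∧
      (Adj f g ∧ ¬ Adj f' g ∨ Adj f' g ∧ ¬ Adj f g) := by
  set q := Fintype.card F with hq'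
  have hnotboth : ∀ e : GL (Fin 2) F →* G, Pair f e → tt e = tt f * tt f' → Adj f e → Adj f' e → False :=
    fun e he ht ha hb => h.no_triangle h2 he ht hc ha hb hq hn hN
  have hno : ¬ ∃ e : GL (Fin 2) F →* G, Pair f e ∧ Pair f' e ∧ tt e = tt f * tt f' ∧ Adj f e ∧ Adj f' e :=
    fun ⟨e, a, _, c, d, d'⟩ => hnotboth e a c d d'
  have hM := h.card_normalizer hc h2 hq hn hno
  set M := Subgroup.normalizer (qq f f' : Set G)
  set L := M ⊓ Subgroup.centralizer {tt f * tt f'}
  have hpL : p ∣ Nat.card L := by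
    have hQc : Nat.card (qq f f') = p ^ (n * 2) := by rw [h.qq_card hc h2, ← hq', hq, pow_mul]
    have hd : p ^ (n * 2 + 1) ∣ Nat.card G := by
      rw [h.hf.card_group, hN, ← hq', hq]
      refine Dvd.dvd.trans (pow_dvd_pow p (show n * 2 + 1 ≤ n + n + n by omega)) ?_
      rw [pow_add, pow_add]
      exact ⟨((p ^ n) ^ 2 + p ^ n + 1) * (p ^ n + 1) * Nat.card (tor f), by ring⟩
    have := Sylow.prime_pow_dvd_card_normalizer hd hQc
    rw [hM, ← hq', hq, ← pow_mul, pow_succ] at this
    exact (Nat.mul_dvd_mul_iff_left (pow_pos hp.out.pos _)).mp this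
  obtain ⟨⟨x, hxL⟩, hx⟩ := exists_prime_orderOf_dvd_card' p hpL
  rw [Subgroup.orderOf_mk] at hx
  obtain ⟨g, hg1, hg2, ht⟩ := h.exists_third h2
  obtain ⟨v, rfl⟩ : x ∈ g.range := by rw [hg1.hf'.range, ht]; exact hxL.2
  set D := L.comap g with hD
  have hK : ∀ a b : Fˣ, dg a b ∈ D := fun a b => Subgroup.mem_comap.mpr
    ⟨h.tor_le_normalizer hc h2 hq hn (hg1.htor ▸ mem_tor.mpr ⟨a, b, rfl⟩), by
      rw [← ht, ← hg1.hf'.range]; exact ⟨_, rfl⟩⟩
  -- a lift of order `p`
  have hgp : g v ^ p = 1 := by rw [← hx, pow_orderOf_eq_one]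
  have hker : v ^ p ∈ g.ker := g.mem_ker.mpr (by rw [map_pow, hgp])
  obtain ⟨m, hm⟩ := exists_pow_eq_self_of_coprime (x := v ^ p) (n := p) (((Nat.Prime.coprime_iff_not_dvd hp.out).mpr
    fun hd => hg1.hf'.not_dvd_ker hq hn (hd.trans (Subgroup.orderOf_dvd_natCard _ hker))))
  set v' := v * ((v ^ p) ^ m)⁻¹ with hv'
  have hv'g : g v' = g v := by rw [hv', map_mul, map_inv, map_pow, g.mem_ker.mp hker, one_pow, inv_one, mul_one]
  have hv'p : v' ^ p = 1 := by
    have hcom : Commute v ((v ^ p) ^ m)⁻¹ := (((Commute.refl v).pow_right p).pow_right m).inv_right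
    rw [hv', hcom.mul_pow, inv_pow, ← pow_mul, mul_comm m p, pow_mul, hm, mul_inv_cancel]
  haveI hchar : CharP F p := by
    obtain ⟨r, hr⟩ := CharP.exists F
    have hr' : r.Prime := CharP.char_is_prime F r
    have h0 : ((p : ℕ) : F) = 0 := by
      have h := FiniteField.cast_card_eq_zero F
      rw [← hq', hq, Nat.cast_pow] at h
      exact pow_eq_zero_iff hn |>.mp h
    rwa [(Nat.prime_dvd_prime_iff_eq hr' hp.out).mp ((CharP.cast_eq_zero_iff F r p).mp h0)] at hr
  have hnil : IsNilpotent (v'.1 - 1) := ⟨p, by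
    rw [sub_pow_char_of_commute _ (Commute.one_right _), one_pow, ← Units.val_pow_eq_pow_val, hv'p, Units.val_one,
      sub_self]⟩
  have htr : v'.1 0 0 + v'.1 1 1 = 2 := by
    have := (Matrix.isNilpotent_trace_of_isNilpotent hnil).eq_zero
    simp [Matrix.trace_fin_two] at this
    linear_combination this
  have hdet : v'.1 0 0 * v'.1 1 1 - v'.1 0 1 * v'.1 1 0 = 1 := by
    rw [← Matrix.det_fin_two]
    have hp1 : v'.1.det ^ p = 1 := by rw [← Matrix.det_pow, ← Units.val_pow_eq_pow_val, hv'p, Units.val_one,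
      Matrix.det_one]
    have h0 : (v'.1.det - 1) ^ p = 0 := by rw [sub_pow_char, hp1, one_pow, sub_self]
    exact sub_eq_zero.mp (pow_eq_zero_iff hp.out.ne_zero |>.mp h0)
  have hv'D : v' ∈ D := Subgroup.mem_comap.mpr (by rw [hv'g]; exact hxL)
  have hv'1 : v' ≠ 1 := fun e => by
    have : g v = 1 := by rw [← hv'g, e, map_one]
    rw [this, orderOf_one] at hx
    exact hp.out.one_lt.ne hx
  obtain ⟨e, he1, he2, het, heM⟩ : ∃ e : GL (Fin 2) F →* G, Pair f e ∧ Pair f' e ∧ tt e = tt f * tt f' ∧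
      root e ≤ M := by
    rcases root_of_unipotent hK h2 hv'D hv'1 htr hdet with hr | hr
    · exact ⟨g, hg1, hg2, ht, fun y hy => by
        obtain ⟨β, rfl⟩ := mem_root.mp hy
        exact (hr β).1⟩
    · refine ⟨flip' g, ⟨hg1.hf, hg1.hf'.flip'_hyp, (tor_flip' g).trans hg1.htor, ?_⟩,
        ⟨hg2.hf, hg1.hf'.flip'_hyp, (tor_flip' g).trans hg2.htor, ?_⟩, (tt_flip' g).trans ht, fun y hy => ?_⟩
      · rw [tt_flip']; exact hg1.ne
      · rw [tt_flip']; exact hg2.ne
      · obtain ⟨β, rfl⟩ := mem_root.mp hy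
        rw [flip'_xr]
        exact (hr β).1
  refine ⟨e, he1, he2, het, heM, ?_⟩
  -- a central element of `Q ⊔ root e` in `Q`
  have hRp := (h.triple_card hc h2 hq hn he1.hf' het heM).1
  set R := qq f f' ⊔ root e with hR
  haveI : Group.IsNilpotent R := hRp.isNilpotent
  haveI : ((qq f f').subgroupOf R).Normal := (Subgroup.normal_subgroupOf_iff_le_normalizer le_sup_left).mpr
    (sup_le Subgroup.le_normalizer heM)
  have hne : (qq f f').subgroupOf R ≠ ⊥ := fun e0 => by
    have hcard := congrArg (fun S : Subgroup R => Nat.card S) e0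
    simp only [Subgroup.card_bot] at hcard
    rw [Nat.card_congr (Subgroup.subgroupOfEquivOfLe (le_sup_left : qq f f' ≤ R)).toEquiv, h.qq_card hc h2] at hcard
    exact absurd hcard (Nat.one_lt_pow two_ne_zero Fintype.one_lt_card).ne'
  obtain ⟨z, ⟨hzQ, hzc⟩, hz1⟩ :=
    (Subgroup.bot_or_exists_ne_one _).resolve_left (CfsgLib.inf_center_ne_bot_of_nilpotent hne)
  set C := Subgroup.centralizer (root e : Set G) with hC
  have hCtor : ∀ k ∈ tor f, ∀ y ∈ C, k * y * k⁻¹ ∈ C := fun k hk y hy => Subgroup.mem_centralizer_iff.mpr fun b hb => by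
    have := Subgroup.mem_centralizer_iff.mp hy (k⁻¹ * b * k) (by
      have := he1.hf'.tor_conj_root h2 (inv_mem (he1.htor.symm ▸ hk : k ∈ tor e)) hb
      rwa [inv_inv] at this)
    calc b * (k * y * k⁻¹) = k * (k⁻¹ * b * k * y) * k⁻¹ := by group
      _ = k * (y * (k⁻¹ * b * k)) * k⁻¹ := by rw [this]
      _ = _ := by group
  have hzC : (z : G) ∈ C := Subgroup.mem_centralizer_iff.mpr fun b hb =>
    congrArg Subtype.val (Subgroup.mem_center_iff.mp hzc ⟨b, Subgroup.mem_sup_right hb⟩)
  obtain ⟨a, haX, b, hbA, hzab⟩ := (qq_mem hc).mp (Subgroup.mem_subgroupOf.mp hzQ)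
  have hp2 : Odd p := hp.out.odd_of_ne_two fun e2 => h2 (by
    subst e2
    exact_mod_cast CharP.cast_eq_zero F 2)
  have ha2 : a * a ∈ C := by
    have h1 := mul_mem hzC (hCtor _ (tt_mem_tor f) _ hzC)
    rw [hzab, show tt f * (a * b) * (tt f)⁻¹ = tt f * a * (tt f)⁻¹ * (tt f * b * (tt f)⁻¹) by group,
      h.symm.inv_root h2 hbA, ← root_tt_mem h.hf haX, mul_inv_cancel_right] at h1
    rwa [show a * b * (a * b⁻¹) = a * (b * a) * b⁻¹ by group, ← hc a haX b hbA, ← mul_assoc,
      mul_inv_cancel_right] at h1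
  have hroot : ∀ {d : GL (Fin 2) F →* G}, Hyp d → tor d = tor f → ∀ y ∈ root d, y * y ∈ C → y ≠ 1 → Adj d e := by
    intro d hd htd y hy hyC hy1 u hu w hw
    have hyC' : y ∈ C := by
      obtain ⟨i, hi⟩ := hp2
      have hyp : y ^ p = 1 := by
        obtain ⟨β, rfl⟩ := mem_root.mp hy
        have hpow : ∀ i : ℕ, (xr β) ^ i = xr ((i : F) * β) := by
          intro i
          induction i with
          | zero => simp [xr_zero]
          | succ i ih => rw [pow_succ, ih, xr_add]; push_cast; ring_nf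
        rw [← map_pow, hpow, CharP.cast_eq_zero, zero_mul, xr_zero, map_one]
      rw [show y = (y * y) ^ (i + 1) by
        rw [← pow_two, ← pow_mul, show 2 * (i + 1) = 2 * i + 1 + 1 by ring, pow_succ, ← hi, hyp, one_mul]]
      exact pow_mem hyC _
    exact (Subgroup.mem_centralizer_iff.mp (hd.root_le_of_mem h2 (K := C) (htd.symm ▸ hCtor) hy hyC' hy1 hu) w hw).symm
  rcases eq_or_ne a 1 with rfl | ha1
  · rw [one_mul] at hzab
    have hb1 : b ≠ 1 := fun e0 => hz1 (Subtype.ext (hzab.trans e0))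
    have hadj : Adj f' e := hroot h.hf' h.htor b hbA (mul_mem (hzab ▸ hzC) (hzab ▸ hzC)) hb1
    exact Or.inr ⟨hadj, fun hfe => hnotboth e he1 het hfe hadj⟩
  · have hadj : Adj f e := hroot h.hf rfl a haX ha2 ha1
    exact Or.inl ⟨hadj, fun hfe => hnotboth e he1 het hadj hfe⟩

/-- The third centraliser normalises the product, for one orientation of the path. -/
theorem top_of {g : GL (Fin 2) F →* G} (hg1 : Pair f g) (hg2 : Pair f' g) (ht : tt g = tt f * tt f')
    (hgN : root g ≤ Subgroup.normalizer (qq f f' : Set G)) (hadj : Adj f' g) (hnadj : ¬ Adj f g) :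
    g.range ≤ Subgroup.normalizer (qq f f' : Set G) ∧
      ∃ c ∈ g.range, (root f).map (MulAut.conj c).toMonoidHom = root f' := by
  -- the first root group has a neighbour in the third centraliser
  obtain ⟨c, hct, hcr, hcn⟩ := h.symm.exists_conj_root h2 hq hn
  obtain ⟨e, he, het, headj⟩ : ∃ e : GL (Fin 2) F →* G, Pair f e ∧ tt e = tt g ∧ Adj f e := by
    have mk : ∀ d : GL (Fin 2) F →* G, Hyp d → tor d = tor f → tt d ≠ tt f' → Adj f' d →
        Pair f ((MulAut.conj c).toMonoidHom.comp d) ∧ Adj f ((MulAut.conj c).toMonoidHom.comp d) := by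
      intro d hd htd hne hda
      refine ⟨⟨h.hf, hd.conj c, ?_, ?_⟩, ?_⟩
      · rw [tor_conjComp, htd, ← h.htor]
        exact (Subgroup.mem_normalizer_iff_map_conj_eq).mp hcn
      · rw [tt_conjComp, ← hct]
        exact fun e => hne (mul_left_cancel (mul_right_cancel e))
      · rw [Adj, root_conjComp, ← hcr]
        rintro _ ⟨x, hx, rfl⟩ _ ⟨y, hy, rfl⟩
        rw [← map_mul, ← map_mul, hda x hx y hy]
    obtain ⟨hp1, ha1⟩ := mk f h.hf rfl h.ne.symm hc.symm
    obtain ⟨hp2, ha2⟩ := mk g hg1.hf' hg1.htor hg2.ne hadj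
    have hmemT : ∀ {d : GL (Fin 2) F →* G}, Pair f d → tt d = tt f' ∨ tt d = tt g := by
      intro d hd
      rcases h.inv_cases_tor h2 (hd.htor ▸ tt_mem_tor d) Hyp.tt_sq with e | e | e | e
      · exact absurd e (hd.hf'.tt_ne h2)
      · exact absurd e hd.ne
      · exact Or.inl e
      · exact Or.inr (e.trans ht.symm)
    rcases hmemT hp1 with e1 | e1
    · rcases hmemT hp2 with e2 | e2
      · exfalso
        rw [tt_conjComp] at e1 e2
        exact hg1.ne (mul_left_cancel (mul_right_cancel (e2.trans e1.symm)))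
      · exact ⟨_, hp2, e2, ha2⟩
    · exact ⟨_, hp1, e1, ha1⟩
  have heroot : root e = root (flip' g) := by
    rcases hg1.hf'.p_sub_root h2 hq hn (P := root e) he.hf'.card_root
        (fun x hx => Subgroup.mem_centralizer_singleton_iff.mpr (het ▸ root_tt_mem he.hf' hx))
        (fun k hk x hx => he.hf'.tor_conj_root h2 ((he.htor.trans hg1.htor.symm).symm ▸ hk) hx) with e' | e'
    · exact absurd (fun x hx y hy => headj x hx y (e'.symm ▸ hy)) hnadj
    · exact e'
  -- the element exchanging the coordinates of the third centraliser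
  set w := g ww with hw
  have hww : w * w = 1 := by rw [hw, ← map_mul, ww_mul_self, map_one]
  have hwt : w * tt f * w⁻¹ = tt f' := by
    have hu : w * uu g * w⁻¹ = tt g * uu g := by
      rw [hw, uu, tt, ← map_inv, ← map_mul, ← map_mul, ww_conj_dg, ← map_mul, dg_mul]
      simp
    have hwg : w * tt g * w⁻¹ = tt g := by
      rw [hw, tt, ← map_inv, ← map_mul, ← map_mul, ww_conj_dg]
    have htt' : tt f' = tt g * tt f := by
      rw [ht, h.comm h2, mul_assoc, Hyp.tt_sq, mul_one]
    rcases hg1.symm.cases h2 with e1 | e1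
    · rw [htt', e1, hu]
    · rw [htt', e1, show w * (tt g * uu g) * w⁻¹ = w * tt g * w⁻¹ * (w * uu g * w⁻¹) by group, hwg, hu]
  have hwn : ∀ k ∈ tor f, w * k * w⁻¹ ∈ tor f := fun k hk => by
    obtain ⟨a, b, rfl⟩ := mem_tor.mp (hg1.htor.symm ▸ hk : k ∈ tor g)
    rw [hw, ← map_inv, ← map_mul, ← map_mul, ww_conj_dg, ← hg1.htor]
    exact mem_tor.mpr ⟨b, a, rfl⟩
  set P := (root f).map (MulAut.conj w).toMonoidHom with hP
  have hPA : P = root f' := by
    rcases h.hf'.p_sub_root h2 hq hn (P := P)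
        (by rw [Subgroup.card_map_of_injective (MulEquiv.injective _), h.hf.card_root]) (by
          rintro _ ⟨x, hx, rfl⟩
          rw [Subgroup.mem_centralizer_singleton_iff, ← hwt]
          simp only [MulEquiv.toMonoidHom_eq_coe, MonoidHom.coe_coe, MulAut.conj_apply]
          calc w * x * w⁻¹ * (w * tt f * w⁻¹) = w * (x * tt f) * w⁻¹ := by group
            _ = w * (tt f * x) * w⁻¹ := by rw [root_tt_mem h.hf hx]
            _ = _ := by group) (by
          rintro k hk _ ⟨x, hx, rfl⟩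
          refine ⟨w⁻¹ * k * w * x * (w⁻¹ * k * w)⁻¹, h.hf.tor_conj_root h2 ?_ hx, ?_⟩
          · have := hwn k (h.htor ▸ hk)
            rwa [inv_eq_of_mul_eq_one_right hww] at this ⊢
          · simp only [MulEquiv.toMonoidHom_eq_coe, MonoidHom.coe_coe, MulAut.conj_apply]
            group) with e' | e'
    · exact e'
    · exfalso
      have hA : Adj g (flip' f') := by
        intro y hy x hx
        rw [← e'] at hx
        obtain ⟨x0, hx0, rfl⟩ := hx
        have hy0 : w⁻¹ * y * w ∈ root e := by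
          rw [heroot, root_flip', inv_eq_of_mul_eq_one_right hww]
          refine ⟨y, hy, ?_⟩
          show g ww * y * (g ww)⁻¹ = w * y * w
          rw [← hw, inv_eq_of_mul_eq_one_right hww]
        have := headj x0 hx0 _ hy0
        simp only [MulEquiv.toMonoidHom_eq_coe, MonoidHom.coe_coe, MulAut.conj_apply]
        calc y * (w * x0 * w⁻¹) = w * (w⁻¹ * y * w * x0) * w⁻¹ := by group
          _ = w * (x0 * (w⁻¹ * y * w)) * w⁻¹ := by rw [this]
          _ = _ := by group
      exact hg2.symm.not_adj_flip h2 hadj.symm hA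
  refine ⟨?_, w, ⟨ww, rfl⟩, hPA⟩
  have hwQ : w ∈ Subgroup.normalizer (qq f f' : Set G) := by
    refine Subgroup.mem_normalizer_fintype fun x hx => ?_
    obtain ⟨a, ha, b, hb, rfl⟩ := (qq_mem hc).mp hx
    have hA : w * a * w⁻¹ ∈ root f' := hPA ▸ Subgroup.mem_map_of_mem _ ha
    have hX : w * b * w⁻¹ ∈ root f := by
      rw [← hPA] at hb
      obtain ⟨x0, hx0, rfl⟩ := hb
      simp only [MulEquiv.toMonoidHom_eq_coe, MonoidHom.coe_coe, MulAut.conj_apply]
      rw [inv_eq_of_mul_eq_one_right hww, show w * (w * x0 * w) * w = w * w * x0 * (w * w) by simp only [mul_assoc], hww,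
        one_mul, mul_one]
      exact hx0
    rw [show w * (a * b) * w⁻¹ = w * a * w⁻¹ * (w * b * w⁻¹) by group]
    exact mul_mem (Subgroup.mem_sup_right hA) (Subgroup.mem_sup_left hX)
  have htop : (Subgroup.normalizer (qq f f' : Set G)).comap g = ⊤ := by
    refine eq_top_of_borel (fun a b => Subgroup.mem_comap.mpr
      (h.tor_le_normalizer hc h2 hq hn (hg1.htor ▸ mem_tor.mpr ⟨a, b, rfl⟩)))
      (fun γ => Subgroup.mem_comap.mpr (hgN (mem_root.mpr ⟨γ, rfl⟩))) (g := ww) (Subgroup.mem_comap.mpr hwQ) ?_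
    simp [ww]
  rintro _ ⟨v, rfl⟩
  exact Subgroup.mem_comap.mp (htop ▸ Subgroup.mem_top v)

/-- The normaliser contains the third centraliser and has order `q ^ 2 |C|`. -/
theorem cent_third_le : Subgroup.centralizer ({tt f * tt f'} : Set G) ≤ Subgroup.normalizer (qq f f' : Set G) ∧
    Nat.card (Subgroup.normalizer (qq f f' : Set G)) = Fintype.card F ^ 2 * Nat.card f.range := by
  obtain ⟨g, hg1, hg2, ht, hgN, hor⟩ := h.exists_normalising h2 hc hq hn hN
  have hle : g.range ≤ Subgroup.normalizer (qq f f' : Set G) := by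
    rcases hor with ⟨ha, hb⟩ | ⟨ha, hb⟩
    · have hN' := hN
      rw [← h.hf.index_eq h2 h.hf'] at hN'
      rw [← qq_comm] at hgN ⊢
      exact (h.symm.top_of h2 hc.symm hq hn hN' hg2 hg1 (ht.trans (h.comm h2)) hgN ha hb).1
    · exact (h.top_of h2 hc hq hn hN hg1 hg2 ht hgN ha hb).1
  rw [hg1.hf'.range, ht] at hle
  refine ⟨hle, ?_⟩
  rw [h.card_normalizer hc h2 hq hn fun ⟨e, a, _, c, d, d'⟩ => h.no_triangle h2 a c hc d d' hq hn hN,
    inf_eq_right.mpr hle, ← ht, ← hg1.hf'.range, hg1.hf'.card_range_eq, h.hf.card_range_eq, hg1.htor]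

end Pair

end CfsgLib.GL2Cent
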