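import Cfsg.Agent.Lib.GL2Cent.Count

/-!
`r`-subgroups of the involution centraliser for an odd prime `r` other than the characteristic: they are abelian,
and the elements of order `r` inverted by the noncentral involution form at most one subgroup.
-/

set_option autoImplicit false
set_option linter.unusedSectionVars false
set_option linter.style.haveILetI false

namespace CfsgLib.GL2Cent

open Matrix

variable {G : Type*} [Group G] {F : Type*} [Field F]

/-- The centraliser of a nonscalar matrix is commutative. -/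
theorem cent_nonscalar {g h k : GL (Fin 2) F} (hh : h ∉ Subgroup.center (GL (Fin 2) F)) (hg : g * h = h * g)
    (hk : k * h = h * k) : g * k = k * g := by
  have rel : ∀ m : GL (Fin 2) F, m * h = h * m →
      m.1 0 1 * h.1 1 0 = m.1 1 0 * h.1 0 1 ∧
      m.1 0 1 * (h.1 1 1 - h.1 0 0) = h.1 0 1 * (m.1 1 1 - m.1 0 0) ∧
      m.1 1 0 * (h.1 1 1 - h.1 0 0) = h.1 1 0 * (m.1 1 1 - m.1 0 0) := fun m hm => by
    have e0 := entry hm 0 0
    have e1 := entry hm 0 1
    have e2 := entry hm 1 0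
    simp only [mul_apply'] at e0 e1 e2
    exact ⟨by linear_combination e0, by linear_combination e1, by linear_combination -e2⟩
  obtain ⟨g1, g2, g3⟩ := rel g hg
  obtain ⟨k1, k2, k3⟩ := rel k hk
  have hne : h.1 0 1 ≠ 0 ∨ h.1 1 0 ≠ 0 ∨ h.1 1 1 - h.1 0 0 ≠ 0 := by
    by_contra hc
    simp only [not_or, not_not] at hc
    refine hh ?_
    obtain ⟨a, b, e⟩ := eq_dg (g := h) ⟨hc.1, hc.2.1⟩
    have h3 := hc.2.2
    rw [e] at h3
    simp [dg] at h3
    rw [e, show b = a from Units.ext (sub_eq_zero.mp h3)]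
    exact scalar_central a
  suffices H : g.1 0 1 * k.1 1 0 = g.1 1 0 * k.1 0 1 ∧
      g.1 0 1 * (k.1 1 1 - k.1 0 0) = k.1 0 1 * (g.1 1 1 - g.1 0 0) ∧
      g.1 1 0 * (k.1 1 1 - k.1 0 0) = k.1 1 0 * (g.1 1 1 - g.1 0 0) by
    obtain ⟨H1, H2, H3⟩ := H
    apply ext2 <;> simp only [mul_apply']
    · linear_combination H1
    · linear_combination H2
    · linear_combination -H3
    · linear_combination -H1
  rcases hne with hb | hc | hd
  · exact ⟨mul_right_cancel₀ hb (by linear_combination k.1 0 1 * g1 - g.1 0 1 * k1),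
      mul_right_cancel₀ hb (by linear_combination k.1 0 1 * g2 - g.1 0 1 * k2),
      mul_right_cancel₀ hb (by linear_combination -(k.1 1 1 - k.1 0 0) * g1 + k.1 1 0 * g2 - g.1 0 1 * k3)⟩
  · exact ⟨mul_right_cancel₀ hc (by linear_combination k.1 1 0 * g1 - g.1 1 0 * k1),
      mul_right_cancel₀ hc (by linear_combination (k.1 1 1 - k.1 0 0) * g1 - g.1 1 0 * k2 + k.1 0 1 * g3),
      mul_right_cancel₀ hc (by linear_combination k.1 1 0 * g3 - g.1 1 0 * k3)⟩
  · have H3 : g.1 1 0 * (k.1 1 1 - k.1 0 0) = k.1 1 0 * (g.1 1 1 - g.1 0 0) := mul_right_cancel₀ hd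
      (by linear_combination (k.1 1 1 - k.1 0 0) * g3 - (g.1 1 1 - g.1 0 0) * k3)
    exact ⟨mul_right_cancel₀ hd (by linear_combination k.1 1 0 * g2 - g.1 1 0 * k2 - h.1 0 1 * H3),
      mul_right_cancel₀ hd (by linear_combination (k.1 1 1 - k.1 0 0) * g2 - (g.1 1 1 - g.1 0 0) * k2), H3⟩

/-- An eigenvalue separates the elements of determinant one and equal diagonal in a commutative family. -/
theorem pow_of_inverted {r : ℕ} (hr : r.Prime) (hrF : (r : F) ≠ 0) (hr2 : r ≠ 2) {g h : GL (Fin 2) F}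
    (hg : g.1 0 0 = g.1 1 1 ∧ g.1 0 0 * g.1 0 0 - g.1 0 1 * g.1 1 0 = 1)
    (hh : h.1 0 0 = h.1 1 1 ∧ h.1 0 0 * h.1 0 0 - h.1 0 1 * h.1 1 0 = 1)
    (hgr : g ^ r = 1) (hhr : h ^ r = 1) (hg1 : g ≠ 1) (hc : g * h = h * g) :
    h ∈ Subgroup.zpowers g := by
  haveI : Fact r.Prime := ⟨hr⟩
  obtain ⟨hga, hgd⟩ := hg
  obtain ⟨hha, hhd⟩ := hh
  -- the product of the off-diagonal entries is not zero
  have hbc : g.1 0 1 * g.1 1 0 ≠ 0 := by
    intro h0
    have ha2 : g.1 0 0 * g.1 0 0 = 1 := by linear_combination hgd + h0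
    have hpow : ∀ m : ℕ, (g ^ m).1 0 0 = g.1 0 0 ^ m ∧ (g ^ m).1 1 1 = g.1 0 0 ^ m ∧
        g.1 0 0 * (g ^ m).1 0 1 = (m : F) * g.1 0 0 ^ m * g.1 0 1 ∧
        g.1 0 0 * (g ^ m).1 1 0 = (m : F) * g.1 0 0 ^ m * g.1 1 0 := by
      intro m
      induction m with
      | zero => simp
      | succ m ih =>
        obtain ⟨i0, i1, i2, i3⟩ := ih
        have hb0 : (g ^ m).1 0 1 * g.1 1 0 = 0 := mul_left_cancel₀ (a := g.1 0 0) (fun e => by simp [e] at ha2)
          (by linear_combination g.1 1 0 * i2 + ((m : F) * g.1 0 0 ^ m) * h0)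
        have hc0 : (g ^ m).1 1 0 * g.1 0 1 = 0 := mul_left_cancel₀ (a := g.1 0 0) (fun e => by simp [e] at ha2)
          (by linear_combination g.1 0 1 * i3 + ((m : F) * g.1 0 0 ^ m) * h0)
        rw [pow_succ g m]
        simp only [mul_apply', ← hga]
        refine ⟨?_, ?_, ?_, ?_⟩
        · rw [i0, hb0, add_zero, pow_succ]
        · rw [i1, hc0, zero_add, pow_succ]
        · rw [i0]; push_cast
          linear_combination g.1 0 0 * i2
        · rw [i1]; push_cast
          linear_combination g.1 0 0 * i3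
    obtain ⟨e0, -, e2, e3⟩ := hpow r
    rw [hgr] at e0 e2 e3
    simp only [Units.val_one, Matrix.one_apply_eq] at e0
    rw [← e0] at e2 e3
    simp at e2 e3
    have hb : g.1 0 1 = 0 := (e2.resolve_left hrF)
    have hc' : g.1 1 0 = 0 := (e3.resolve_left hrF)
    obtain ⟨k, hk⟩ := hr.odd_of_ne_two hr2
    have ha : g.1 0 0 = 1 := by
      rw [hk, pow_succ, pow_mul, pow_two, ha2, one_pow, one_mul] at e0
      exact e0.symm
    exact hg1 (ext2 (by simp [ha]) (by simp [hb]) (by simp [hc']) (by simp [← hga, ha]))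
  have hb : g.1 0 1 ≠ 0 := left_ne_zero_of_mul hbc
  set S : Set (GL (Fin 2) F) := {m | m.1 0 0 = m.1 1 1 ∧ m.1 0 0 * m.1 0 0 - m.1 0 1 * m.1 1 0 = 1 ∧
    m.1 0 1 * g.1 1 0 = m.1 1 0 * g.1 0 1} with hS
  let E := AlgebraicClosure F
  obtain ⟨j, hj⟩ := IsAlgClosed.exists_pow_nat_eq (algebraMap F E (g.1 0 1 * g.1 1 0)) (n := 2) two_pos
  let φ : GL (Fin 2) F → E := fun m => algebraMap F E (m.1 0 0) + algebraMap F E (m.1 0 1 / g.1 0 1) * j
  have hgS : g ∈ S := ⟨hga, hgd, mul_comm _ _⟩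
  have hhS : h ∈ S := ⟨hha, hhd, by
    have := entry hc 0 0
    simp only [mul_apply'] at this
    linear_combination -this⟩
  have hone : (1 : GL (Fin 2) F) ∈ S := by simp [hS]
  have hmul : ∀ m ∈ S, ∀ k ∈ S, m * k ∈ S ∧ φ (m * k) = φ m * φ k := by
    rintro m ⟨m1, m2, m3⟩ k ⟨k1, k2, k3⟩
    have hmk : m.1 0 1 * k.1 1 0 = m.1 1 0 * k.1 0 1 := mul_right_cancel₀ hb
      (by linear_combination k.1 0 1 * m3 - m.1 0 1 * k3)
    refine ⟨⟨?_, ?_, ?_⟩, ?_⟩
    · simp only [mul_apply', ← m1, ← k1]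
      linear_combination hmk
    · simp only [mul_apply', ← k1, ← m1]
      have hd : (m.1 0 0 * m.1 0 0 - m.1 0 1 * m.1 1 0) * (k.1 0 0 * k.1 0 0 - k.1 0 1 * k.1 1 0) = 1 := by
        rw [m2, k2, one_mul]
      linear_combination hd + (m.1 0 0 * k.1 0 0 + m.1 0 1 * k.1 1 0) * hmk
    · simp only [mul_apply', ← k1, ← m1]
      linear_combination m.1 0 0 * k3 + k.1 0 0 * m3
    · have hE : algebraMap F E (m.1 0 1 * k.1 1 0) =
          algebraMap F E (m.1 0 1 / g.1 0 1) * algebraMap F E (k.1 0 1 / g.1 0 1) * (j * j) := by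
        rw [← pow_two j, hj, ← map_mul, ← map_mul]
        congr 1
        field_simp
        linear_combination -(m.1 0 1) * k3
      simp only [φ, mul_apply', ← k1, add_div, map_add]
      rw [hE]
      simp only [map_mul, mul_div_assoc, div_eq_mul_inv, map_inv₀]
      ring
  have hpowS : ∀ m ∈ S, ∀ i : ℕ, m ^ i ∈ S ∧ φ (m ^ i) = φ m ^ i := by
    intro m hm i
    induction i with
    | zero => exact ⟨by rw [pow_zero]; exact hone, by simp [φ]⟩
    | succ i ih => exact ⟨pow_succ m i ▸ (hmul _ ih.1 _ hm).1, by rw [pow_succ, (hmul _ ih.1 _ hm).2, ih.2, pow_succ]⟩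
  have hinj : ∀ m ∈ S, φ m = 1 → m = 1 := by
    rintro m ⟨m1, m2, m3⟩ hm
    simp only [φ] at hm
    set A := algebraMap F E (m.1 0 0)
    set L := algebraMap F E (m.1 0 1 / g.1 0 1)
    have hprod : (A + L * j) * (A - L * j) = 1 := by
      rw [show (A + L * j) * (A - L * j) = A * A - L * L * j ^ 2 by ring, hj, ← map_mul, ← map_mul, ← map_mul,
        ← map_sub, ← (algebraMap F E).map_one, ← m2]
      congr 1
      field_simp
      linear_combination -(m.1 0 1) * m3
    rw [hm, one_mul] at hprod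
    have hj0 : j ≠ 0 := fun e => by
      rw [e, zero_pow two_ne_zero] at hj
      exact hbc (by simpa using hj.symm)
    have h2' : (2 : E) * (L * j) = 0 := by linear_combination hm - hprod
    have h2E : (2 : E) ≠ 0 := by
      intro e
      have h2F : (2 : F) = 0 := (algebraMap F E).injective (by simpa [map_ofNat] using e)
      obtain ⟨k, hk⟩ := hr.odd_of_ne_two hr2
      -- the characteristic is two, so a matrix with trace zero and determinant one is an involution
      have hsq : g * g = 1 := by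
        apply ext2 <;> simp only [mul_apply', ← hga, Units.val_one, Matrix.one_apply_eq, ne_eq, zero_ne_one,
          not_false_eq_true, Matrix.one_apply_ne, one_ne_zero]
        · linear_combination hgd + (g.1 0 1 * g.1 1 0) * h2F
        · linear_combination (g.1 0 0 * g.1 0 1) * h2F
        · linear_combination (g.1 1 0 * g.1 0 0) * h2F
        · linear_combination hgd + (g.1 0 1 * g.1 1 0) * h2F
      rw [hk, pow_succ, pow_mul, pow_two, hsq, one_pow, one_mul] at hgr
      exact hg1 hgr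
    have hL : L = 0 := ((mul_eq_zero.mp h2').resolve_left h2E |> mul_eq_zero.mp).resolve_right hj0
    have hA : A = 1 := by rw [hL, zero_mul, add_zero] at hm; exact hm
    have ha : m.1 0 0 = 1 := (algebraMap F E).injective (by rw [map_one]; exact hA)
    have hb0 : m.1 0 1 = 0 := by
      have := (map_eq_zero (algebraMap F E)).mp hL
      exact (div_eq_zero_iff.mp this).resolve_right hb
    have hc0 : m.1 1 0 = 0 := (mul_eq_zero.mp (show m.1 1 0 * g.1 0 1 = 0 by rw [← m3, hb0, zero_mul])).resolve_right hb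
    exact ext2 (by simp [ha]) (by simp [hb0]) (by simp [hc0]) (by simp [← m1, ha])
  have hprim : IsPrimitiveRoot (φ g) r := by
    have h1 : φ g ^ r = 1 := by
      rw [← (hpowS g hgS r).2, hgr]; simp [φ]
    exact IsPrimitiveRoot.iff_orderOf.mpr (orderOf_eq_prime h1 fun e => hg1 (hinj g hgS e))
  have hh1 : φ h ^ r = 1 := by rw [← (hpowS h hhS r).2, hhr]; simp [φ]
  obtain ⟨i, hir, hi⟩ := hprim.eq_pow_of_pow_eq_one hh1
  have hk := hmul h hhS _ (hpowS g hgS (r - i)).1
  have hone' : h * g ^ (r - i) = 1 := hinj _ hk.1 (by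
    rw [hk.2, (hpowS g hgS (r - i)).2, ← hi, ← pow_add, Nat.add_sub_cancel' hir.le, hprim.pow_eq_one])
  exact ⟨-((r - i : ℕ) : ℤ), by rw [eq_inv_of_mul_eq_one_left hone']; simp⟩

namespace Hyp

variable {f : GL (Fin 2) F →* G} (hf : Hyp f) [Finite G] {r : ℕ} [hr : Fact r.Prime] (hr2 : r ≠ 2)
include hf hr2

/-- An `r`-subgroup of the centraliser is commutative. -/
theorem rgroup_comm {D : Subgroup G} (hD : IsPGroup r D) (hle : D ≤ f.range) :
    ∀ x ∈ D, ∀ y ∈ D, x * y = y * x := by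
  classical
  by_contra hne
  have hne' : Subgroup.center D ≠ ⊤ := fun e => hne fun x hx y hy =>
    congrArg Subtype.val (Subgroup.mem_center_iff.mp (e ▸ Subgroup.mem_top (⟨y, hy⟩ : D)) ⟨x, hx⟩)
  -- the centre consists of scalars
  have hscal : ∀ z : D, z ∈ Subgroup.center D → ∃ a, f (dg a a) = z := by
    intro z hz
    obtain ⟨h, hh⟩ := hle z.2
    by_cases hc : h ∈ Subgroup.center (GL (Fin 2) F)
    · obtain ⟨a, e⟩ := exists_scalar hc
      exact ⟨a, by rw [← e]; exact hh⟩
    · refine absurd (fun x hx y hy => ?_) hne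
      obtain ⟨g, rfl⟩ := hle hx
      obtain ⟨k, rfl⟩ := hle hy
      have e1 := congrArg Subtype.val (Subgroup.mem_center_iff.mp hz ⟨_, hx⟩)
      have e2 := congrArg Subtype.val (Subgroup.mem_center_iff.mp hz ⟨_, hy⟩)
      rw [← map_mul, ← map_mul, cent_nonscalar hc (hf.comm_iff.mp (by simpa [hh] using e1))
        (hf.comm_iff.mp (by simpa [hh] using e2))]
  haveI : Nontrivial (D ⧸ Subgroup.center D) := QuotientGroup.nontrivial_iff.mpr hne'
  haveI := (hD.to_quotient (Subgroup.center D)).center_nontrivial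
  obtain ⟨⟨w, hw⟩, hw1⟩ := exists_ne (1 : Subgroup.center (D ⧸ Subgroup.center D))
  obtain ⟨h0, rfl⟩ := QuotientGroup.mk_surjective w
  refine hw1 (Subtype.ext ((QuotientGroup.eq_one_iff h0).mpr (Subgroup.mem_center_iff.mpr fun k => ?_)))
  have hcom : (h0 * k)⁻¹ * (k * h0) ∈ Subgroup.center D := QuotientGroup.eq.mp
    (Subgroup.mem_center_iff.mp hw (k : D ⧸ Subgroup.center D)).symm
  obtain ⟨a, ha⟩ := hscal _ hcom
  obtain ⟨g, hg⟩ := hle h0.2
  obtain ⟨m, hm⟩ := hle k.2
  -- determinants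
  have hz : (g * m * dg a a)⁻¹ * (m * g) ∈ f.ker := f.mem_ker.mpr (by
    rw [map_mul, map_inv, map_mul, map_mul, map_mul, hg, hm, ha]
    simp [mul_assoc])
  obtain ⟨b, hb⟩ := exists_scalar (hf.kerc hz)
  have e : m * g = g * m * dg (a * b) (a * b) := by
    rw [← dg_mul, ← hb]; group
  have hd := congrArg (fun v : GL (Fin 2) F => Matrix.GeneralLinearGroup.det v) e
  simp only [map_mul] at hd
  have hdd : Matrix.GeneralLinearGroup.det (dg (a * b) (a * b)) = (a * b) * (a * b) :=
    Units.ext (by simp [dg, Matrix.det_fin_two])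
  rw [hdd, mul_comm (Matrix.GeneralLinearGroup.det m)] at hd
  have hab : (a * b) * (a * b) = 1 := by
    have := hd.symm
    rwa [mul_eq_left] at this
  set c : D := (h0 * k)⁻¹ * (k * h0) with hc
  have hcab : f (dg (a * b) (a * b)) = (c : G) := by
    rw [← dg_mul, map_mul, ha, ← hb, f.mem_ker.mp hz, mul_one]
  have hc2 : c ^ 2 = 1 := Subtype.ext (by
    rw [Subgroup.coe_pow, ← hcab, ← map_pow, pow_two, dg_mul, hab, dg_one, map_one]; rfl)
  obtain ⟨i, hi⟩ := IsPGroup.iff_orderOf.mp hD c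
  have hcop : Nat.Coprime (r ^ i) 2 := (((hr.out.odd_of_ne_two hr2).coprime_two_right)).pow_left i
  have hc1 : c = 1 := orderOf_eq_one_iff.mp
    (Nat.eq_one_of_dvd_coprimes hcop (dvd_of_eq hi) (orderOf_dvd_of_pow_eq_one hc2))
  exact (inv_mul_eq_one.mp hc1).symm

/-- Two elements of order `r` inverted by `uu f` in an `r`-subgroup of the centraliser generate the same group. -/
theorem inverted_eq (hrF : (r : F) ≠ 0) {D : Subgroup G} (hD : IsPGroup r D) (hle : D ≤ f.range) {x y : G}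
    (hx : x ∈ D) (hy : y ∈ D) (hxr : x ^ r = 1) (hyr : y ^ r = 1) (hx1 : x ≠ 1)
    (hxi : uu f * x * uu f = x⁻¹) (hyi : uu f * y * uu f = y⁻¹) : y ∈ Subgroup.zpowers x := by
  have lift : ∀ w ∈ D, w ^ r = 1 → uu f * w * uu f = w⁻¹ → ∃ g, f g = w ∧ g ^ r = 1 ∧
      g.1 0 0 = g.1 1 1 ∧ g.1 0 0 * g.1 0 0 - g.1 0 1 * g.1 1 0 = 1 := by
    intro w hw hwr hwi
    obtain ⟨g, rfl⟩ := hle hw
    set u := dg (1 : Fˣ) (-1)
    have hu : u * u = 1 := by rw [dg_mul]; simp [dg_one]
    have hz : u * g * u * g ∈ f.ker := f.mem_ker.mpr (by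
      rw [map_mul, map_mul, map_mul]; exact (congrArg (· * f g) hwi).trans (inv_mul_cancel _))
    set z := u * g * u * g with hz'
    obtain ⟨k, hk⟩ := hf.kero
    have hzp : z ^ (2 * k + 1) = 1 := by
      rw [← hk]; exact Subtype.mk_eq_mk.mp (pow_card_eq_one' (x := (⟨z, hz⟩ : f.ker)))
    set c := (z ^ (k + 1))⁻¹ with hc
    have hcz : c ∈ f.ker := inv_mem (pow_mem hz _)
    have hcc : ∀ v, v * c = c * v := fun v => Subgroup.mem_center_iff.mp (hf.kerc hcz) v
    have hfc : f (g * c) = f g := by rw [map_mul, f.mem_ker.mp hcz, mul_one]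
    have hinv : u * (g * c) * u * (g * c) = 1 := by
      calc u * (g * c) * u * (g * c) = u * g * (c * u) * g * c := by group
        _ = u * g * u * (c * g) * c := by rw [← hcc u]; group
        _ = z * (c * c) := by rw [← hcc g, hz']; group
        _ = 1 := by
          rw [hc, ← _root_.mul_inv_rev, ← pow_add, mul_inv_eq_one, show k + 1 + (k + 1) = 1 + (2 * k + 1) by omega,
            pow_add, pow_one, hzp, mul_one]
    set g' := g * c with hg'
    have hu' : u⁻¹ = u := inv_eq_of_mul_eq_one_right hu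
    have hconj : u * g' * u⁻¹ = g'⁻¹ := by
      rw [hu']; exact eq_inv_of_mul_eq_one_left hinv
    have hgr' : g' ^ r = 1 := by
      have hzr : g' ^ r ∈ f.ker := f.mem_ker.mpr (by rw [map_pow, hfc, hwr])
      have h1 : u * g' ^ r * u⁻¹ = (g' ^ r)⁻¹ := by rw [← conj_pow, hconj, inv_pow]
      rw [Subgroup.mem_center_iff.mp (hf.kerc hzr) u, mul_inv_cancel_right] at h1
      have h3 : (⟨g' ^ r, hzr⟩ : f.ker) ^ 2 = 1 := Subtype.ext (by
        rw [Subgroup.coe_pow, pow_two]; exact eq_inv_iff_mul_eq_one.mp h1)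
      exact congrArg Subtype.val (orderOf_eq_one_iff.mp (Nat.eq_one_of_dvd_coprimes
        (Nat.coprime_two_left.mpr hf.kero) (orderOf_dvd_of_pow_eq_one h3) (orderOf_dvd_natCard _)))
    have hdet : Matrix.GeneralLinearGroup.det g' = 1 := by
      have hd := congrArg (fun v : GL (Fin 2) F => Matrix.GeneralLinearGroup.det v) hinv
      have hdu : Matrix.GeneralLinearGroup.det u * Matrix.GeneralLinearGroup.det u = 1 := by
        rw [← map_mul, hu, map_one]
      simp only [map_mul, map_one] at hd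
      have hd2 : Matrix.GeneralLinearGroup.det g' ^ 2 = 1 := by
        rw [← hd, hg', map_mul, pow_two]
        calc _ = (Matrix.GeneralLinearGroup.det u * Matrix.GeneralLinearGroup.det u) *
              (Matrix.GeneralLinearGroup.det g * Matrix.GeneralLinearGroup.det c *
                (Matrix.GeneralLinearGroup.det g * Matrix.GeneralLinearGroup.det c)) := by rw [hdu, one_mul]
          _ = _ := by ac_rfl
      have hdr : Matrix.GeneralLinearGroup.det g' ^ r = 1 := by rw [← map_pow, hgr', map_one]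
      exact orderOf_eq_one_iff.mp (Nat.eq_one_of_dvd_coprimes (hr.out.odd_of_ne_two hr2).coprime_two_right
        (orderOf_dvd_of_pow_eq_one hdr) (orderOf_dvd_of_pow_eq_one hd2))
    have hd1 := congrArg Units.val hdet
    simp [Matrix.det_fin_two] at hd1
    have e00 := entry hinv 0 0
    have e01 := entry hinv 0 1
    have e10 := entry hinv 1 0
    simp [mul_apply', u, dg] at e00 e01 e10
    have ha : g'.1 0 0 = g'.1 1 1 := by
      by_contra hne
      have hne' : g'.1 0 0 - g'.1 1 1 ≠ 0 := sub_ne_zero.mpr hne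
      have hb : g'.1 0 1 = 0 := (mul_eq_zero.mp
        (show g'.1 0 1 * (g'.1 0 0 - g'.1 1 1) = 0 by linear_combination e01)).resolve_right hne'
      have hc' : g'.1 1 0 = 0 := (mul_eq_zero.mp
        (show g'.1 1 0 * (g'.1 0 0 - g'.1 1 1) = 0 by linear_combination -e10)).resolve_right hne'
      rw [hb] at hd1 e00
      refine hne (mul_left_cancel₀ (a := g'.1 0 0) (fun e => ?_) (by linear_combination e00 - hd1))
      rw [e] at e00; simp at e00
    exact ⟨g', hfc, hgr', ha, by rw [← ha] at hd1; linear_combination hd1⟩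
  obtain ⟨g, rfl, hg, hg2⟩ := lift x hx hxr hxi
  obtain ⟨h, rfl, hh, hh2⟩ := lift y hy hyr hyi
  have hcomm := hf.comm_iff.mp (hf.rgroup_comm hr2 hD hle _ hx _ hy)
  obtain ⟨i, rfl⟩ := pow_of_inverted hr.out hrF hr2 hg2 hh2 hg hh (fun e => hx1 (by rw [e, map_one])) hcomm
  exact ⟨i, (map_zpow f g i).symm⟩

end Hyp

end CfsgLib.GL2Cent
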