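import Cfsg.Agent.Lib.GL2Cent.Cases
import Cfsg.Agent.Lib.GL2Cent.RGroup
import Cfsg.Agent.Lib.CoprimeGen

/-!
If the centraliser of the root group lies in the involution centraliser, then so does the centraliser of each of its
nontrivial elements. Otherwise some prime `r` has hyperplanes of the root group centralising `r`-elements outside;
two of them cannot share an element, and the torus moves each of them.
-/

set_option autoImplicit false
set_option linter.unusedSectionVars false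
set_option linter.style.haveILetI false

namespace CfsgLib.GL2Cent

open Matrix
open scoped Pointwise

variable {G : Type*} [Group G] {F : Type*} [Field F]

/-- Upper triangular matrices with signs on the diagonal. -/
noncomputable def sgnBorel : Subgroup (GL (Fin 2) F) where
  carrier := {g | g.1 1 0 = 0 ∧ g.1 0 0 * g.1 0 0 = 1 ∧ g.1 1 1 * g.1 1 1 = 1}
  one_mem' := by simp
  mul_mem' := fun {x y} hx hy => by
    refine ⟨?_, ?_, ?_⟩ <;> simp [mul_apply', hx.1, hy.1] <;>
      first | (linear_combination (x.1 0 0 * x.1 0 0) * hy.2.1 + hx.2.1)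
            | (linear_combination (x.1 1 1 * x.1 1 1) * hy.2.2 + hx.2.2)
  inv_mem' := fun {x} hx => by
    have h10 := entry (mul_inv_cancel x) 1 0
    have h00 := entry (mul_inv_cancel x) 0 0
    have h11 := entry (mul_inv_cancel x) 1 1
    rw [mul_apply'] at h10 h00 h11
    rw [hx.1, zero_mul, zero_add, Units.val_one, Matrix.one_apply_ne (by decide)] at h10
    rw [hx.1, zero_mul, zero_add, Units.val_one, Matrix.one_apply_eq] at h11
    have hd : x.1 1 1 ≠ 0 := fun e => by simpa [e] using hx.2.2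
    have i10 : (x⁻¹).1 1 0 = 0 := (mul_eq_zero.mp h10).resolve_left hd
    rw [i10, mul_zero, add_zero, Units.val_one, Matrix.one_apply_eq] at h00
    have i00 : (x⁻¹).1 0 0 = x.1 0 0 := by linear_combination x.1 0 0 * h00 - (x⁻¹).1 0 0 * hx.2.1
    have i11 : (x⁻¹).1 1 1 = x.1 1 1 := by linear_combination x.1 1 1 * h11 - (x⁻¹).1 1 1 * hx.2.2
    exact ⟨i10, by rw [i00]; exact hx.2.1, by rw [i11]; exact hx.2.2⟩

/-- The group of the root group and the four-group. -/
noncomputable def ax (f : GL (Fin 2) F →* G) : Subgroup G := sgnBorel.map f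

namespace Hyp

variable {f : GL (Fin 2) F →* G} (hf : Hyp f)
include hf

omit hf in
theorem sgn_cases {g : GL (Fin 2) F} (hg : g ∈ sgnBorel) :
    ∃ a b : Fˣ, a * a = 1 ∧ b * b = 1 ∧ ∃ γ, g = dg a b * xr γ := by
  obtain ⟨a, b, e⟩ := tri_cases (g := g) hg.1
  have ha : g.1 0 0 = a := by rw [e]; simp [mul_apply', dg, xr]
  have hb : g.1 1 1 = b := by rw [e]; simp [mul_apply', dg, xr]
  exact ⟨a, b, Units.ext (by rw [Units.val_mul, ← ha, hg.2.1, Units.val_one]),
    Units.ext (by rw [Units.val_mul, ← hb, hg.2.2, Units.val_one]), _, e⟩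

omit hf in
theorem root_le_ax : root f ≤ ax f := fun x hx => by
  obtain ⟨β, e⟩ := mem_root.mp hx
  exact ⟨xr β, by simp [sgnBorel, xr], e⟩

omit hf in
theorem tt_mem_ax : tt f ∈ ax f := ⟨_, by simp [sgnBorel, dg], rfl⟩

omit hf in
theorem uu_mem_ax : uu f ∈ ax f := ⟨_, by simp [sgnBorel, dg], rfl⟩

omit hf in
theorem ax_le_normalizer [Finite G] {R : Subgroup G} (ht : ∀ x ∈ R, tt f * x * (tt f)⁻¹ ∈ R)
    (hu : ∀ x ∈ R, uu f * x * (uu f)⁻¹ ∈ R) (hr : ∀ b ∈ root f, ∀ x ∈ R, b * x * b⁻¹ ∈ R) :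
    ax f ≤ Subgroup.normalizer (R : Set G) := by
  rintro _ ⟨g, hg, rfl⟩
  obtain ⟨a, b, ha, hb, γ, rfl⟩ := sgn_cases hg
  rw [map_mul]
  refine mul_mem (s := Subgroup.normalizer (R : Set G)) ?_
    (Subgroup.mem_normalizer_fintype fun x hx => hr _ (mem_root.mpr ⟨γ, rfl⟩) x hx)
  have hT : tt f ∈ Subgroup.normalizer (R : Set G) := Subgroup.mem_normalizer_fintype fun x hx => ht x hx
  have hU : uu f ∈ Subgroup.normalizer (R : Set G) := Subgroup.mem_normalizer_fintype fun x hx => hu x hx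
  have hs : ∀ a : Fˣ, a * a = 1 → a = 1 ∨ a = -1 := fun a ha => (mul_self_eq_one_iff.mp
    (show (a : F) * a = 1 by rw [← Units.val_mul, ha, Units.val_one])).imp
      (fun e => Units.ext e) (fun e => Units.ext (by simpa using e))
  rcases hs a ha with rfl | rfl <;> rcases hs b hb with rfl | rfl
  · rw [dg_one, map_one]; exact one_mem _
  · exact hU
  · rw [show f (dg (-1) 1) = tt f * uu f by rw [tt, uu, ← map_mul, dg_mul]; simp]
    exact mul_mem hT hU
  · exact hT

variable (h2 : (2 : F) ≠ 0)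
include h2

omit hf in
theorem uu_inv_root {x : G} (hx : x ∈ root f) : uu f * x * (uu f)⁻¹ = x⁻¹ := by
  obtain ⟨β, rfl⟩ := mem_root.mp hx
  have hi : (xr β)⁻¹ = xr (-β) := inv_eq_of_mul_eq_one_right (by rw [xr_add, add_neg_cancel, xr_zero])
  rw [uu, ← map_inv, ← map_inv, ← map_mul, ← map_mul, dg_conj_xr, hi]
  simp

omit hf in
theorem tt_fix_root {x : G} (hx : x ∈ root f) : tt f * x * (tt f)⁻¹ = x := by
  obtain ⟨β, rfl⟩ := mem_root.mp hx
  rw [tt, ← map_inv, ← map_mul, ← map_mul, dg_conj_xr]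
  simp

omit hf in
omit h2 in
theorem root_comm {x y : G} (hx : x ∈ root f) (hy : y ∈ root f) : x * y = y * x := by
  obtain ⟨β, rfl⟩ := mem_root.mp hx
  obtain ⟨γ, rfl⟩ := mem_root.mp hy
  rw [← map_mul, ← map_mul, xr_add, xr_add, add_comm]

omit hf in
/-- The group preserves the centraliser of a subgroup of the root group. -/
theorem ax_cent [Finite G] {X0 : Subgroup G} (hX : X0 ≤ root f) :
    ax f ≤ Subgroup.normalizer (Subgroup.centralizer (X0 : Set G) : Set G) := by
  have key : ∀ g, (∀ y ∈ X0, g⁻¹ * y * g ∈ X0) → ∀ x ∈ Subgroup.centralizer (X0 : Set G),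
      g * x * g⁻¹ ∈ Subgroup.centralizer (X0 : Set G) := fun g hg x hx =>
    Subgroup.mem_centralizer_iff.mpr fun y hy => by
      have := Subgroup.mem_centralizer_iff.mp hx _ (hg y hy)
      calc y * (g * x * g⁻¹) = g * (g⁻¹ * y * g * x) * g⁻¹ := by group
        _ = g * (x * (g⁻¹ * y * g)) * g⁻¹ := by rw [this]
        _ = _ := by group
  refine ax_le_normalizer (key _ fun y hy => ?_) (key _ fun y hy => ?_) (fun b hb => key _ fun y hy => ?_)
  · have e := tt_fix_root h2 (hX hy)
    rw [inv_eq_of_mul_eq_one_right tt_sq] at e ⊢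
    rwa [e]
  · have e := uu_inv_root h2 (hX hy)
    rw [inv_eq_of_mul_eq_one_right uu_sq] at e ⊢
    rw [e]; exact inv_mem hy
  · rw [mul_assoc, root_comm (hX hy) hb, inv_mul_cancel_left]; exact hy

variable [Finite G] [IsSimpleGroup G] [Fintype F] {p : ℕ} [hp : Fact p.Prime] {n : ℕ}
  (hq : Fintype.card F = p ^ n) (hn : n ≠ 0)
include hq hn

omit hf in
omit h2 in
theorem cast_p : (p : F) = 0 := by
  have h := FiniteField.cast_card_eq_zero F
  rw [hq, Nat.cast_pow] at h
  exact pow_eq_zero_iff hn |>.mp h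

omit hf in
omit h2 in
theorem cast_ne {r : ℕ} (hr : r.Prime) (hrp : r ≠ p) : (r : F) ≠ 0 := fun e => by
  have hcop : IsCoprime (r : ℤ) (p : ℤ) := Nat.Coprime.isCoprime ((Nat.coprime_primes hr hp.out).mpr hrp)
  obtain ⟨a, b, hab⟩ := hcop
  have := congrArg (fun z : ℤ => (z : F)) hab
  simp [e, cast_p hq hn] at this

omit h2 in
theorem root_pow {x : G} (hx : x ∈ root f) : x ^ p = 1 := by
  obtain ⟨β, rfl⟩ := mem_root.mp hx
  have hpow : ∀ i : ℕ, (xr β) ^ i = xr ((i : F) * β) := by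
    intro i
    induction i with
    | zero => simp [xr_zero]
    | succ i ih => rw [pow_succ, ih, xr_add]; push_cast; ring_nf
  rw [← map_pow, hpow, cast_p hq hn, zero_mul, xr_zero, map_one]

omit hf in
omit h2 in
theorem p_ne_two (h2 : (2 : F) ≠ 0) : p ≠ 2 := fun e => h2 (by
  have := cast_p (F := F) hq hn
  rwa [e, Nat.cast_ofNat] at this)

/-- A subgroup normalised by the root group inside the centraliser of an involution inverting it. -/
theorem le_cent_root {D : Subgroup G} (hD : ∀ b ∈ root f, ∀ x ∈ D, b * x * b⁻¹ ∈ D) {w : G}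
    (hw : ∀ b ∈ root f, w * b * w⁻¹ = b⁻¹) (hDw : ∀ x ∈ D, x * w = w * x) :
    D ≤ Subgroup.centralizer (root f : Set G) := fun d hd => Subgroup.mem_centralizer_iff.mpr fun b hb => by
  obtain ⟨k, hk⟩ := hp.out.odd_of_ne_two (p_ne_two hq hn h2)
  have h1 : w * (b * d * b⁻¹) * w⁻¹ = b * d * b⁻¹ := by
    rw [← hDw _ (hD b hb d hd), mul_inv_cancel_right]
  have h3 : w * d * w⁻¹ = d := by rw [← hDw d hd, mul_inv_cancel_right]
  have h4 : b⁻¹ * d * b = b * d * b⁻¹ := by
    rw [← h1, show w * (b * d * b⁻¹) * w⁻¹ = w * b * w⁻¹ * (w * d * w⁻¹) * (w * b * w⁻¹)⁻¹ by group, hw b hb, h3,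
      inv_inv]
  have h5 : Commute (b ^ 2) d := by
    show b ^ 2 * d = d * b ^ 2
    rw [pow_two]
    calc b * b * d = b * (b * d * b⁻¹) * b := by group
      _ = b * (b⁻¹ * d * b) * b := by rw [h4]
      _ = d * (b * b) := by group
  have hb' : b = (b ^ 2) ^ (k + 1) := by
    rw [← pow_mul, show 2 * (k + 1) = 2 * k + 1 + 1 by ring, ← hk, pow_succ, hf.root_pow hq hn hb, one_mul]
  rw [hb']
  exact (h5.pow_left _).eq

/-- The part prime to `2 p` of the centraliser of a root element. -/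
theorem exists_pprime_part (hB : Subgroup.centralizer (root f : Set G) ≤ f.range) {y : G} (hy : y ∈ root f)
    (hy1 : y ≠ 1) :
    ∃ M : Subgroup G, M ≤ Subgroup.centralizer {y} ∧ (Nat.card M).Coprime (2 * p) ∧
      (∀ x ∈ Subgroup.centralizer {y}, (orderOf x).Coprime (2 * p) → x ∈ M) ∧
      ax f ≤ Subgroup.normalizer (M : Set G) ∧
      (M ≤ Subgroup.centralizer {tt f} → Subgroup.centralizer {y} ≤ Subgroup.centralizer {tt f}) := by
  classical
  obtain ⟨β, rfl⟩ := mem_root.mp hy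
  have hβ : β ≠ 0 := fun e => hy1 (by rw [e, xr_zero, map_one])
  set y := f (xr β)
  set K := Subgroup.centralizer ({y} : Set G) with hK
  obtain ⟨N, hNodd, hmem, hdec⟩ := hf.odd_part h2 (K := K)
    (Subgroup.mem_centralizer_singleton_iff.mpr (hf.root_tt β).symm)
    fun x hx hc => hf.cent_one hβ hc (Subgroup.mem_centralizer_singleton_iff.mp hx)
  have hXN : root f ≤ N := fun x hx => (hmem x).mpr ⟨Subgroup.mem_centralizer_singleton_iff.mpr (root_comm hx hy),
    (hp.out.odd_of_ne_two (p_ne_two hq hn h2)).of_dvd_nat (orderOf_dvd_of_pow_eq_one (hf.root_pow hq hn hx))⟩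
  obtain ⟨P, hP⟩ := hf.root_sylow h2 hq hn hB
  have hPN : (P : Subgroup G) ≤ N := hP.symm ▸ hXN
  set PN : Sylow p N := P.subtype hPN with hPN'
  have hnc : Subgroup.normalizer ((PN : Subgroup N) : Set N) ≤ Subgroup.centralizer ((PN : Subgroup N) : Set N) := by
    intro g hg
    have hgn : (g : G) ∈ Subgroup.normalizer (root f : Set G) := Subgroup.mem_normalizer_fintype fun x hx => by
      have := (Subgroup.mem_normalizer_iff.mp hg ⟨x, hXN hx⟩).mp (show x ∈ (P : Subgroup G) by rw [hP]; exact hx)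
      show (g : G) * x * (g : G)⁻¹ ∈ root f
      rw [← hP]; exact this
    have hgc := hf.normalizer_root_le h2 hB hgn
    obtain ⟨a, γ, e⟩ := hf.cent_one hβ (hf.mem_cent.mpr (MonoidHom.mem_range.mp hgc))
      (Subgroup.mem_centralizer_singleton_iff.mp ((hmem _).mp g.2).1)
    refine Subgroup.mem_centralizer_iff.mpr fun x hx => Subtype.ext ?_
    have hx' : (x : G) ∈ root f := by rw [← hP]; exact hx
    show (x : G) * g = g * x
    obtain ⟨δ, hδ⟩ := mem_root.mp hx'
    rw [e, ← hδ, ← mul_assoc, ← scal_root_comm a δ, mul_assoc, root_comm (mem_root.mpr ⟨δ, rfl⟩) (mem_root.mpr ⟨γ, rfl⟩),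
      mul_assoc]
  set M0 := (MonoidHom.transferSylow PN hnc).ker with hM0
  have hc0 : M0.IsComplement' (PN : Subgroup N) := MonoidHom.ker_transferSylow_isComplement' PN hnc
  have hp0 : ¬ p ∣ Nat.card M0 := MonoidHom.not_dvd_card_ker_transferSylow PN hnc
  have hM : ∀ x ∈ K, (orderOf x).Coprime (2 * p) → x ∈ M0.map N.subtype := by
    intro x hx hco
    have hxN : x ∈ N := (hmem x).mpr ⟨hx, Nat.coprime_two_right.mp (Nat.Coprime.coprime_mul_right_right hco)⟩
    refine ⟨⟨x, hxN⟩, ?_, rfl⟩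
    obtain ⟨e, he⟩ := IsPGroup.iff_card.mp PN.2
    have hi : M0.index = p ^ e := by rw [hc0.symm.index_eq_card, he]
    rw [SetLike.mem_coe, ← QuotientGroup.eq_one_iff (N := M0), ← orderOf_eq_one_iff]
    refine Nat.eq_one_of_dvd_coprimes ((Nat.Coprime.coprime_mul_left_right hco).pow_right e) ?_
      (hi ▸ orderOf_dvd_natCard _)
    exact (orderOf_map_dvd (QuotientGroup.mk' M0) (⟨x, hxN⟩ : N)).trans (dvd_of_eq (Subgroup.orderOf_mk x hxN))
  have hMK : M0.map N.subtype ≤ K := fun x hx => ((hmem x).mp (Subgroup.map_subtype_le _ hx)).1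
  have hMcop : (Nat.card (M0.map N.subtype)).Coprime (2 * p) := by
    rw [Subgroup.card_map_of_injective N.subtype_injective]
    exact Nat.Coprime.mul_right (hNodd.of_dvd_nat (Subgroup.card_subgroup_dvd_card M0)).coprime_two_right
      ((Nat.Prime.coprime_iff_not_dvd hp.out).mpr hp0).symm
  refine ⟨M0.map N.subtype, hMK, hMcop, hM, ?_, ?_⟩
  · have hA : ax f ≤ Subgroup.normalizer (K : Set G) := by
      have := ax_cent (f := f) h2 (X0 := Subgroup.zpowers y) (Subgroup.zpowers_le.mpr hy)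
      rwa [Subgroup.zpowers_eq_closure, Subgroup.centralizer_closure] at this
    intro a ha
    refine Subgroup.mem_normalizer_fintype fun x hx => ?_
    refine hM _ ((Subgroup.mem_normalizer_iff.mp (hA ha) x).mp (hMK hx)) ?_
    rw [show a * x * a⁻¹ = MulAut.conj a x from rfl, MulEquiv.orderOf_eq]
    exact Nat.Coprime.coprime_dvd_left (Subgroup.orderOf_dvd_natCard _ hx) hMcop
  · intro hMt k hk
    obtain ⟨m, hm, s, hs, rfl⟩ := hdec k hk
    refine mul_mem ?_ (by rw [← hf.range]; obtain ⟨a, rfl⟩ := mem_scal.mp hs; exact ⟨_, rfl⟩)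
    obtain ⟨⟨m0, x0⟩, e⟩ := hc0.2 (⟨m, hm⟩ : N)
    have em : ((m0 : N) : G) * ((x0 : N) : G) = m := congrArg Subtype.val e
    rw [← em]
    refine mul_mem (hMt (Subgroup.mem_map_of_mem _ m0.2)) ?_
    obtain ⟨γ, hγ⟩ := mem_root.mp (show ((x0 : N) : G) ∈ root f by rw [← hP]; exact x0.2)
    rw [← hf.range]
    exact ⟨_, hγ⟩

/-- A hyperplane of the root group centralising an invariant `r`-subgroup outside the involution centraliser. -/
def Bad (f : GL (Fin 2) F →* G) (p r : ℕ) (X0 : Subgroup G) : Prop :=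
  X0 ≤ root f ∧ Nat.card X0 * p = Nat.card (root f) ∧ ∃ R : Subgroup G, IsPGroup r R ∧
    R ≤ Subgroup.centralizer (X0 : Set G) ∧ ax f ≤ Subgroup.normalizer (R : Set G) ∧
    ¬ R ≤ Subgroup.centralizer {tt f}

omit hf in
theorem ax_solvable : Group.IsSolvable (ax f) := by
  let δ : (sgnBorel : Subgroup (GL (Fin 2) F)) →* F × F :=
    { toFun := fun g => (g.1.1 0 0, g.1.1 1 1)
      map_one' := by simp
      map_mul' := fun g h => by
        have h0 := h.2.1
        have g0 := g.2.1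
        simp [mul_apply', h0, g0] }
  let φ : δ.toHomUnits.ker →* Multiplicative F :=
    { toFun := fun g => Multiplicative.ofAdd ((g.1.1 : GL (Fin 2) F).1 0 1)
      map_one' := by simp
      map_mul' := fun g h => by
        have hg : ((g.1.1 : GL (Fin 2) F)).1 0 0 = 1 :=
          congrArg (fun v : (F × F)ˣ => v.1.1) (δ.toHomUnits.mem_ker.mp g.2)
        have hh : ((h.1.1 : GL (Fin 2) F)).1 1 1 = 1 :=
          congrArg (fun v : (F × F)ˣ => v.1.2) (δ.toHomUnits.mem_ker.mp h.2)
        rw [← ofAdd_add]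
        simp [mul_apply', hg, hh, add_comm] }
  haveI : Group.IsSolvable δ.toHomUnits.ker := Group.isSolvable_of_isSolvable_injective (f := φ) (fun g h e => by
    have g1 : ((g.1.1 : GL (Fin 2) F)).1 0 0 = 1 ∧ ((g.1.1 : GL (Fin 2) F)).1 1 1 = 1 :=
      ⟨congrArg (fun v : (F × F)ˣ => v.1.1) (δ.toHomUnits.mem_ker.mp g.2),
        congrArg (fun v : (F × F)ˣ => v.1.2) (δ.toHomUnits.mem_ker.mp g.2)⟩
    have h1 : ((h.1.1 : GL (Fin 2) F)).1 0 0 = 1 ∧ ((h.1.1 : GL (Fin 2) F)).1 1 1 = 1 :=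
      ⟨congrArg (fun v : (F × F)ˣ => v.1.1) (δ.toHomUnits.mem_ker.mp h.2),
        congrArg (fun v : (F × F)ˣ => v.1.2) (δ.toHomUnits.mem_ker.mp h.2)⟩
    exact Subtype.ext (Subtype.ext (ext2 (g1.1.trans h1.1.symm) (Multiplicative.ofAdd.injective e)
      (g.1.2.1.trans h.1.2.1.symm) (g1.2.trans h1.2.symm))))
  haveI : Group.IsSolvable (sgnBorel : Subgroup (GL (Fin 2) F)) :=
    Group.isSolvable_of_ker_le_range δ.toHomUnits.ker.subtype δ.toHomUnits (by rw [Subgroup.range_subtype])
  exact Group.isSolvable_of_surjective (f.subgroupMap_surjective sgnBorel)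

omit hf in
/-- The primes in the order of the group are two and `p`. -/
theorem ax_coprime {m : ℕ} (hm : m.Coprime (2 * p)) : (Nat.card (ax f)).Coprime m := by
  refine Nat.coprime_of_dvd fun r hr hra hrm => ?_
  haveI : Fact r.Prime := ⟨hr⟩
  obtain ⟨⟨x, g, hg, rfl⟩, hx⟩ := exists_prime_orderOf_dvd_card' (G := ax f) r hra
  obtain ⟨a, b, ha, hb, γ, rfl⟩ := sgn_cases hg
  have hsq : ∀ a b : Fˣ, a * a = 1 → b * b = 1 → ∀ γ : F, ∃ δ, (dg a b * xr γ) * (dg a b * xr γ) = xr δ := by
    intro a b ha hb γ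
    refine ⟨((b : F)⁻¹ * γ * a) + γ, ?_⟩
    have e : dg a b * dg a b = (1 : GL (Fin 2) F) := by rw [dg_mul, ha, hb, dg_one]
    calc dg a b * xr γ * (dg a b * xr γ) = dg a b * xr γ * (dg a b)⁻¹ * (dg a b * dg a b) * xr γ := by group
      _ = _ := by rw [e, mul_one, dg_conj_xr, xr_add]; ring_nf
  obtain ⟨δ, hδ⟩ := hsq a b ha hb γ
  have h2p : f (dg a b * xr γ) ^ (2 * p) = 1 := by
    rw [pow_mul, pow_two, ← map_mul, hδ, ← map_pow]
    have hpow : ∀ i : ℕ, (xr δ) ^ i = xr ((i : F) * δ) := by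
      intro i
      induction i with
      | zero => simp [xr_zero]
      | succ i ih => rw [pow_succ, ih, xr_add]; push_cast; ring_nf
    rw [hpow, cast_p hq hn, zero_mul, xr_zero, map_one]
  have h2 : r ∣ 2 * p := by
    rw [← hx]
    exact (dvd_of_eq (Subgroup.orderOf_coe _).symm).trans (orderOf_dvd_of_pow_eq_one h2p)
  exact hr.not_dvd_one (hm ▸ Nat.dvd_gcd hrm h2)

/-- An invariant `r`-subgroup outside the involution centraliser gives a bad hyperplane. -/
theorem exists_bad (hB : Subgroup.centralizer (root f : Set G) ≤ f.range) {r : ℕ} [hr : Fact r.Prime] (hrp : r ≠ p)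
    {y : G} (hy : y ∈ root f) (hy1 : y ≠ 1) {R : Subgroup G} (hR : IsPGroup r R)
    (hRy : R ≤ Subgroup.centralizer {y}) (hRA : ax f ≤ Subgroup.normalizer (R : Set G))
    (hRt : ¬ R ≤ Subgroup.centralizer {tt f}) :
    ∃ X0, Bad f p r X0 ∧ y ∈ X0 := by
  set 𝒳 : Set (Subgroup G) := {X | X ≤ root f ∧ ¬ R ⊓ Subgroup.centralizer (X : Set G) ≤ Subgroup.centralizer {tt f}}
  obtain ⟨X0, ⟨hX0, hbad⟩, hmax⟩ := (Set.toFinite 𝒳).exists_maximal ⟨Subgroup.zpowers y, Subgroup.zpowers_le.mpr hy,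
    by rwa [Subgroup.zpowers_eq_closure, Subgroup.centralizer_closure, inf_eq_left.mpr hRy]⟩
  have hroot : root f ≤ ax f := root_le_ax
  have hyX : y ∈ X0 := by
    by_contra hyn
    have hm := hmax (y := X0 ⊔ Subgroup.zpowers y) ⟨sup_le hX0 (Subgroup.zpowers_le.mpr hy), ?_⟩ le_sup_left
    · exact hyn (hm (Subgroup.mem_sup_right (Subgroup.mem_zpowers y)))
    refine fun h => hbad (le_trans (le_inf inf_le_left ?_) h)
    intro x hx
    rw [Subgroup.sup_eq_closure, Subgroup.centralizer_closure, Subgroup.mem_centralizer_iff]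
    rintro z (hz | hz)
    · exact Subgroup.mem_centralizer_iff.mp hx.2 z hz
    · obtain ⟨i, rfl⟩ := hz
      exact (Commute.zpow_left (Subgroup.mem_centralizer_singleton_iff.mp (hRy hx.1)).symm i).eq
  have hcard : Nat.card X0 * p = Nat.card (root f) := by
    obtain ⟨a, ha, haX⟩ : ∃ a ∈ root f, a ∉ X0 := by
      by_contra h
      push Not at h
      refine hbad (inf_le_right.trans ?_)
      rw [le_antisymm hX0 h, ← hf.range]; exact hB
    have ha1 : a ≠ 1 := fun e => haX (e ▸ one_mem X0)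
    have hoa : orderOf a = p := orderOf_eq_prime (hf.root_pow hq hn ha) ha1
    by_cases hb : ∀ b ∈ root f, b ∈ X0 ⊔ Subgroup.zpowers a
    · have hsup : X0 ⊔ Subgroup.zpowers a = root f :=
        le_antisymm (sup_le hX0 (Subgroup.zpowers_le.mpr ha)) hb
      have hc : ∀ x : X0, ∀ z : Subgroup.zpowers a, Commute (X0.subtype x) ((Subgroup.zpowers a).subtype z) :=
        fun x z => root_comm (hX0 x.2) (Subgroup.zpowers_le.mpr ha z.2)
      have hdis : X0 ⊓ Subgroup.zpowers a = ⊥ := by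
        refine (Subgroup.eq_bot_iff_forall _).mpr fun x hx => by_contra fun hx1 => haX ?_
        have ho : orderOf x = p := orderOf_eq_prime (hf.root_pow hq hn (hX0 hx.1)) hx1
        have := Subgroup.eq_of_le_of_card_ge (Subgroup.zpowers_le.mpr hx.2)
          (by rw [Nat.card_zpowers, Nat.card_zpowers, ho, hoa])
        have hax : a ∈ Subgroup.zpowers x := this ▸ Subgroup.mem_zpowers a
        exact Subgroup.zpowers_le.mpr hx.1 hax
      have hinj : Function.Injective (X0.subtype.noncommCoprod (Subgroup.zpowers a).subtype hc) :=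
        (injective_iff_map_eq_one _).mpr fun xz e => by
          have e' : (xz.1 : G) * xz.2 = 1 := e
          have hz : (xz.2 : G) ∈ X0 ⊓ Subgroup.zpowers a :=
            ⟨by rw [eq_inv_of_mul_eq_one_right e']; exact X0.inv_mem xz.1.2, xz.2.2⟩
          rw [hdis, Subgroup.mem_bot] at hz
          rw [hz, mul_one] at e'
          exact Prod.ext (Subtype.ext e') (Subtype.ext hz)
      rw [← hsup, show X0 ⊔ Subgroup.zpowers a = (X0.subtype.noncommCoprod (Subgroup.zpowers a).subtype hc).range by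
          rw [MonoidHom.noncommCoprod_range, Subgroup.range_subtype, Subgroup.range_subtype],
        ← Nat.card_congr (MonoidHom.ofInjective hinj).toEquiv, Nat.card_prod, Nat.card_zpowers, hoa]
    · exfalso
      push Not at hb
      obtain ⟨b, hbR, hbX⟩ := hb
      set B := Subgroup.zpowers a ⊔ Subgroup.zpowers b with hB'
      have hBroot : B ≤ root f := sup_le (Subgroup.zpowers_le.mpr ha) (Subgroup.zpowers_le.mpr hbR)
      haveI : IsMulCommutative B := ⟨⟨fun x z => Subtype.ext (root_comm (hBroot x.2) (hBroot z.2))⟩⟩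
      have hBc : ¬ IsCyclic B := by
        intro hcyc
        obtain ⟨g, hg⟩ := hcyc.exists_generator
        obtain ⟨i, hi⟩ := hg ⟨a, Subgroup.mem_sup_left (Subgroup.mem_zpowers a)⟩
        obtain ⟨j, hj⟩ := hg ⟨b, Subgroup.mem_sup_right (Subgroup.mem_zpowers b)⟩
        have hi' : (g : G) ^ i = a := congrArg Subtype.val hi
        have hj' : (g : G) ^ j = b := congrArg Subtype.val hj
        have hog : orderOf (g : G) = p := orderOf_eq_prime (hf.root_pow hq hn (hBroot g.2)) fun e =>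
          ha1 (by rw [← hi', e, _root_.one_zpow])
        have heq : Subgroup.zpowers a = Subgroup.zpowers (g : G) := Subgroup.eq_of_le_of_card_ge
          (Subgroup.zpowers_le.mpr ⟨i, hi'⟩) (by rw [Nat.card_zpowers, Nat.card_zpowers, hoa, hog])
        exact hbX (Subgroup.mem_sup_right (by rw [heq]; exact ⟨j, hj'⟩))
      set K := R ⊓ Subgroup.centralizer (X0 : Set G)
      have hBK : B ≤ Subgroup.normalizer (K : Set G) := fun c hc => Subgroup.mem_normalizer_fintype fun x hx =>
        ⟨(Subgroup.mem_normalizer_iff.mp (hRA (hroot (hBroot hc))) x).mp hx.1,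
          (Subgroup.mem_normalizer_iff.mp (ax_cent h2 hX0 (hroot (hBroot hc))) x).mp hx.2⟩
      have hcop : (Nat.card B).Coprime (Nat.card K) := by
        obtain ⟨i, hi⟩ := IsPGroup.iff_card.mp ((hf.root_isPGroup hq hn).to_le hBroot)
        obtain ⟨j, hj⟩ := IsPGroup.iff_card.mp (hR.to_le (inf_le_left : K ≤ R))
        rw [hi, hj]
        exact Nat.Coprime.pow _ _ ((Nat.coprime_primes hp.out hr.out).mpr (Ne.symm hrp))
      obtain ⟨c, ⟨hcB, hc1⟩, hc⟩ : ∃ c ∈ {c : G | c ∈ B ∧ c ≠ 1},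
          ¬ K ⊓ Subgroup.centralizer {c} ≤ Subgroup.centralizer {tt f} := by
        by_contra h
        push Not at h
        exact hbad ((CfsgLib.coprime_generated_by_centralizers hBc hBK hcop).symm.le.trans (iSup₂_le h))
      have hmem : X0 ⊔ Subgroup.zpowers c ∈ 𝒳 := by
        refine ⟨sup_le hX0 (Subgroup.zpowers_le.mpr (hBroot hcB)), fun h => hc (le_trans ?_ h)⟩
        intro x hx
        refine ⟨hx.1.1, ?_⟩
        rw [Subgroup.sup_eq_closure, Subgroup.centralizer_closure]
        show x ∈ Subgroup.centralizer _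
        rw [Subgroup.mem_centralizer_iff]
        rintro z (hz | hz)
        · exact Subgroup.mem_centralizer_iff.mp hx.1.2 z hz
        · obtain ⟨i, rfl⟩ := hz
          exact (Commute.zpow_left (Subgroup.mem_centralizer_singleton_iff.mp hx.2).symm i).eq
      have hcX : c ∈ X0 := hmax hmem le_sup_left (Subgroup.mem_sup_right (Subgroup.mem_zpowers c))
      -- then `a` lies in `X0`, or `b` in `X0` with `a`
      obtain ⟨u', hu', v', hv', e⟩ : ∃ u ∈ Subgroup.zpowers a, ∃ v ∈ Subgroup.zpowers b, c = u * v := by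
        have : (B : Set G) = (Subgroup.zpowers a : Set G) * (Subgroup.zpowers b : Set G) :=
          Subgroup.coe_mul_of_left_le_normalizer_right _ _ (Subgroup.zpowers_le.mpr (Subgroup.mem_normalizer_fintype
            fun z hz => by
              rw [root_comm ha (Subgroup.zpowers_le.mpr hbR hz), mul_inv_cancel_right]; exact hz))
        have hc' : c ∈ (B : Set G) := hcB
        rw [this] at hc'
        obtain ⟨u, hu, v, hv, e⟩ := Set.mem_mul.mp hc'
        exact ⟨u, hu, v, hv, e.symm⟩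
      rcases eq_or_ne v' 1 with hv1 | hv1
      · have hu1 : u' ≠ 1 := fun e' => hc1 (by rw [e, e', hv1, one_mul])
        refine haX (Subgroup.zpowers_le.mpr (by rw [e, hv1, mul_one] at hcX; exact hcX : u' ∈ X0) ?_)
        rw [Subgroup.eq_of_le_of_card_ge (Subgroup.zpowers_le.mpr hu') (by
          rw [Nat.card_zpowers, Nat.card_zpowers, hoa, orderOf_eq_prime (hf.root_pow hq hn
            (Subgroup.zpowers_le.mpr ha hu')) hu1])]
        exact Subgroup.mem_zpowers a
      · have hvS : v' ∈ X0 ⊔ Subgroup.zpowers a := by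
          rw [show v' = u'⁻¹ * c by rw [e, inv_mul_cancel_left]]
          exact mul_mem (Subgroup.mem_sup_right (inv_mem hu')) (Subgroup.mem_sup_left hcX)
        refine hbX (Subgroup.zpowers_le.mpr hvS ?_)
        have hb1 : b ≠ 1 := fun e' => hbX (e' ▸ one_mem _)
        rw [Subgroup.eq_of_le_of_card_ge (Subgroup.zpowers_le.mpr hv') (by
          rw [Nat.card_zpowers, Nat.card_zpowers, orderOf_eq_prime (hf.root_pow hq hn hbR) hb1,
            orderOf_eq_prime (hf.root_pow hq hn (Subgroup.zpowers_le.mpr hbR hv')) hv1])]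
        exact Subgroup.mem_zpowers b
  refine ⟨X0, ⟨hX0, hcard, R ⊓ Subgroup.centralizer (X0 : Set G), hR.to_le inf_le_left, inf_le_right, ?_, hbad⟩, hyX⟩
  exact fun a ha => Subgroup.mem_normalizer_fintype fun x hx =>
    ⟨(Subgroup.mem_normalizer_iff.mp (hRA ha) x).mp hx.1,
      (Subgroup.mem_normalizer_iff.mp (ax_cent h2 hX0 ha) x).mp hx.2⟩

/-- Two bad hyperplanes meet trivially. -/
theorem bad_unique (hB : Subgroup.centralizer (root f : Set G) ≤ f.range) {r : ℕ} [hr : Fact r.Prime] (hr2 : r ≠ 2)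
    (hrp : r ≠ p) {X0 X1 : Subgroup G} (h0 : Bad f p r X0) (h1 : Bad f p r X1) {y : G} (hy0 : y ∈ X0)
    (hy1 : y ∈ X1) (hy : y ≠ 1) : X0 = X1 := by
  classical
  by_contra hne
  obtain ⟨hX0, hc0, R0, hR0, hR0c, hR0A, hR0t⟩ := h0
  obtain ⟨hX1, hc1, R1, hR1, hR1c, hR1A, hR1t⟩ := h1
  obtain ⟨M, hMy, hMcop, hMmem, hMA, -⟩ := hf.exists_pprime_part h2 hq hn hB (hX0 hy0) hy
  have hrcop : r.Coprime (2 * p) :=
    Nat.Coprime.mul_right ((Nat.coprime_primes hr.out Nat.prime_two).mpr hr2)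
      ((Nat.coprime_primes hr.out hp.out).mpr hrp)
  have hle : ∀ {X R : Subgroup G}, y ∈ X → IsPGroup r R → R ≤ Subgroup.centralizer (X : Set G) → R ≤ M := by
    intro X R hyX hR hRc x hx
    refine hMmem x (Subgroup.mem_centralizer_singleton_iff.mpr
      (Subgroup.mem_centralizer_iff.mp (hRc hx) y hyX).symm) ?_
    obtain ⟨i, hi⟩ := IsPGroup.iff_orderOf.mp hR ⟨x, hx⟩
    rw [← Subgroup.orderOf_mk x hx, hi]
    exact hrcop.pow_left i
  have hsolv : Group.IsSolvable (ax f) ∨ Group.IsSolvable M := Or.inl (ax_solvable h2 hq hn)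
  have hcop := ax_coprime (f := f) h2 hq hn hMcop
  obtain ⟨P0, hP0, hP0A⟩ := CfsgLib.coprime_le_invariant_sylow hMA hcop hsolv (hle hy0 hR0 hR0c) hR0 hR0A
  obtain ⟨P1, hP1, hP1A⟩ := CfsgLib.coprime_le_invariant_sylow hMA hcop hsolv (hle hy1 hR1 hR1c) hR1 hR1A
  obtain ⟨c, hc, hcP⟩ := CfsgLib.coprime_invariant_sylow_conj hMA hcop hsolv P0 P1 hP0A hP1A
  set P := (P1 : Subgroup M).map M.subtype with hP
  have hPr : IsPGroup r P := P1.2.map _
  have hax : root f ≤ ax f := root_le_ax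
  have hcax : ∀ a ∈ ax f, (c : G) * a = a * c := fun a ha => (Subgroup.mem_centralizer_iff.mp hc a ha).symm
  -- both hyperplanes centralise invariant parts of `P` outside the involution centraliser
  have hD : ∀ {X : Subgroup G} (R : Subgroup G), X ≤ root f → R ≤ Subgroup.centralizer (X : Set G) →
      R ≤ P → ¬ R ≤ Subgroup.centralizer {tt f} → y ∈ X →
      ∃ e, e ∈ P ∧ e ∈ Subgroup.centralizer (X : Set G) ∧ e * uu f = uu f * e ∧ e ≠ 1 ∧ e ^ r = 1 ∧
        tt f * e * tt f = e⁻¹ := by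
    intro X R hX hRc hRP hRt hyX
    set D := P ⊓ Subgroup.centralizer (X : Set G) with hD'
    have hDA : ax f ≤ Subgroup.normalizer (D : Set G) := fun a ha => Subgroup.mem_normalizer_fintype fun x hx =>
      ⟨(Subgroup.mem_normalizer_iff.mp (hP1A ha) x).mp hx.1,
        (Subgroup.mem_normalizer_iff.mp (ax_cent h2 hX ha) x).mp hx.2⟩
    have hDn : ∀ a ∈ ax f, ∀ x ∈ D, a * x * a⁻¹ ∈ D := fun a ha x hx =>
      (Subgroup.mem_normalizer_iff.mp (hDA ha) x).mp hx
    have hDr : IsPGroup r D := hPr.to_le inf_le_left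
    have hDodd : Odd (Nat.card D) := by
      obtain ⟨i, hi⟩ := IsPGroup.iff_card.mp hDr
      rw [hi]; exact (hr.out.odd_of_ne_two hr2).pow
    have hDH : D ⊓ Subgroup.centralizer {tt f} = D ⊓ tor f := by
      refine le_antisymm (fun x hx => ⟨hx.1, ?_⟩) (fun x hx => ⟨hx.1,
        Subgroup.mem_centralizer_singleton_iff.mpr ((hf.tor_iff h2).mp hx.2).1⟩)
      obtain ⟨β, hβy⟩ := mem_root.mp (hX hyX)
      have hβ : β ≠ 0 := fun e => hy (by rw [← hβy, e, xr_zero, map_one])
      obtain ⟨a, γ, e⟩ := hf.cent_one hβ (Subgroup.mem_centralizer_singleton_iff.mp hx.2)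
        (by rw [hβy]; exact (Subgroup.mem_centralizer_iff.mp hx.1.2 y hyX).symm)
      obtain ⟨i, hi⟩ := hDr ⟨x, hx.1⟩
      exact scal_le_tor f (hf.elt_scal e (m := r ^ i) (by push_cast; exact pow_ne_zero i (cast_ne hq hn hr.out hrp))
        (congrArg Subtype.val hi))
    obtain ⟨e0, he0, he0t⟩ : ∃ e ∈ D ⊓ Subgroup.centralizer {uu f}, e * tt f ≠ tt f * e := by
      by_contra h
      push Not at h
      have hDu : D ⊓ Subgroup.centralizer {uu f} = D ⊓ tor f := le_antisymm
        (fun x hx => ⟨hx.1, (hf.tor_iff h2).mpr ⟨h x hx, Subgroup.mem_centralizer_singleton_iff.mp hx.2⟩⟩)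
        (fun x hx => ⟨hx.1, Subgroup.mem_centralizer_singleton_iff.mpr ((hf.tor_iff h2).mp hx.2).2⟩)
      have hfour := hf.four h2 hDodd (fun x hx => hDn _ tt_mem_ax x hx) (fun x hx => hDn _ uu_mem_ax x hx)
      rw [hDH, hDu, ← pow_two, mul_comm] at hfour
      have hw : D ≤ Subgroup.centralizer {tt f * uu f} :=
        (Subgroup.eq_of_le_of_card_ge inf_le_left
          (Nat.eq_of_mul_eq_mul_left (pow_pos Nat.card_pos 2) hfour).le).symm.le.trans inf_le_right
      have hinv : ∀ b ∈ root f, tt f * uu f * b * (tt f * uu f)⁻¹ = b⁻¹ := fun b hb => by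
        rw [show tt f * uu f * b * (tt f * uu f)⁻¹ = tt f * (uu f * b * (uu f)⁻¹) * (tt f)⁻¹ by group,
          uu_inv_root h2 hb, tt_fix_root h2 (inv_mem hb)]
      have hDc := hf.le_cent_root h2 hq hn (D := D) (fun b hb x hx => hDn b (hax hb) x hx) hinv
        fun x hx => Subgroup.mem_centralizer_singleton_iff.mp (hw hx)
      refine hRt fun x hx => ?_
      rw [← hf.range]
      exact hB (hDc ⟨hRP hx, hRc hx⟩)
    -- the commutator with the central involution is inverted by it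
    set d := e0 * (tt f * e0⁻¹ * tt f) with hd
    have htinv : (tt f)⁻¹ = tt f := inv_eq_of_mul_eq_one_right tt_sq
    have hdD : d ∈ D := by
      have := hDn _ tt_mem_ax e0⁻¹ (inv_mem he0.1)
      rw [htinv] at this
      exact mul_mem he0.1 this
    have hdu : d * uu f = uu f * d := by
      have h1 : Commute e0 (uu f) := Subgroup.mem_centralizer_singleton_iff.mp he0.2
      have h2' : Commute (tt f) (uu f) := hf.uu_comm.symm
      exact (h1.mul_left ((h2'.mul_left h1.inv_left).mul_left h2')).eq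
    have hd1 : d ≠ 1 := fun e => he0t (by
      have h' : e0 * tt f * e0⁻¹ * tt f = 1 := by rw [← e, hd]; group
      rw [← eq_inv_iff_mul_eq_one, htinv, mul_inv_eq_iff_eq_mul] at h'
      exact h')
    have hdi : tt f * d * tt f = d⁻¹ := by
      refine eq_inv_of_mul_eq_one_left ?_
      calc tt f * d * tt f * d = tt f * e0 * tt f * e0⁻¹ * (tt f * tt f) * e0 * tt f * e0⁻¹ * tt f := by
            rw [hd]; simp only [mul_assoc]
        _ = tt f * e0 * tt f * e0⁻¹ * 1 * e0 * tt f * e0⁻¹ * tt f := by rw [tt_sq]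
        _ = tt f * e0 * (tt f * tt f) * e0⁻¹ * tt f := by group
        _ = tt f * e0 * 1 * e0⁻¹ * tt f := by rw [tt_sq]
        _ = tt f * tt f := by group
        _ = 1 := tt_sq
    obtain ⟨i, hi⟩ := IsPGroup.iff_orderOf.mp hDr ⟨d, hdD⟩
    rw [Subgroup.orderOf_mk] at hi
    obtain ⟨i, rfl⟩ : ∃ j, i = j + 1 := by
      refine ⟨i - 1, (Nat.sub_add_cancel ?_).symm⟩
      by_contra h
      rw [Nat.lt_one_iff.mp (not_le.mp h), pow_zero] at hi
      exact hd1 (orderOf_eq_one_iff.mp hi)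
    refine ⟨d ^ (r ^ i), (pow_mem hdD _).1, (pow_mem hdD _).2, (Commute.pow_left hdu _).eq, ?_, ?_, ?_⟩
    · intro e
      have := orderOf_dvd_of_pow_eq_one e
      rw [hi] at this
      have := Nat.le_of_dvd (pow_pos hr.out.pos _) this
      exact absurd this (not_le.mpr (Nat.pow_lt_pow_right hr.out.one_lt (by omega)))
    · rw [← pow_mul, ← pow_succ, ← hi, pow_orderOf_eq_one]
    · rw [← inv_pow, ← hdi]
      conv_lhs => rw [show tt f * d ^ r ^ i * tt f = tt f * d ^ r ^ i * (tt f)⁻¹ by rw [htinv]]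
      rw [← conj_pow, htinv]
  -- move the first part into `P`
  set R0' := R0.map (MulAut.conj (c : G)).toMonoidHom
  have hR0P : R0' ≤ P := by
    rintro _ ⟨x, hx, rfl⟩
    obtain ⟨m, hm, rfl⟩ := hP0 hx
    refine ⟨c * m * c⁻¹, ?_, by simp⟩
    rw [← hcP]
    exact Subgroup.smul_mem_pointwise_smul m (MulAut.conj c) _ hm
  have hR0c' : R0' ≤ Subgroup.centralizer (X0 : Set G) := by
    rintro _ ⟨x, hx, rfl⟩
    refine Subgroup.mem_centralizer_iff.mpr fun z hz => ?_
    have e := Subgroup.mem_centralizer_iff.mp (hR0c hx) z hz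
    have ez := hcax z (hax (hX0 hz))
    show z * ((c : G) * x * (c : G)⁻¹) = (c : G) * x * (c : G)⁻¹ * z
    have ez' : (c : G)⁻¹ * z = z * (c : G)⁻¹ := (Commute.inv_left ez).eq
    calc z * ((c : G) * x * (c : G)⁻¹) = (c : G) * (z * x) * (c : G)⁻¹ := by
          rw [← mul_assoc, ← mul_assoc, ← ez]; group
      _ = (c : G) * x * (z * (c : G)⁻¹) := by rw [e]; group
      _ = _ := by rw [← ez']; group
  have hR0t' : ¬ R0' ≤ Subgroup.centralizer {tt f} := fun h => hR0t fun x hx => by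
    have := Subgroup.mem_centralizer_singleton_iff.mp (h (Subgroup.mem_map_of_mem _ hx))
    simp only [MulEquiv.toMonoidHom_eq_coe, MonoidHom.coe_coe, MulAut.conj_apply] at this
    refine Subgroup.mem_centralizer_singleton_iff.mpr ?_
    have et := hcax _ (tt_mem_ax (f := f))
    have et' : (c : G)⁻¹ * tt f = tt f * (c : G)⁻¹ := (Commute.inv_left et).eq
    calc x * tt f = (c : G)⁻¹ * ((c : G) * x * (c : G)⁻¹ * ((c : G) * tt f)) := by group
      _ = (c : G)⁻¹ * ((c : G) * x * (c : G)⁻¹ * tt f * c) := by rw [et]; group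
      _ = (c : G)⁻¹ * (tt f * ((c : G) * x * (c : G)⁻¹) * c) := by rw [this]
      _ = ((c : G)⁻¹ * tt f) * (c : G) * x := by group
      _ = tt f * x := by rw [et']; group
  obtain ⟨e, heP, heX, heu, he1, her, hei⟩ := hD R0' hX0 hR0c' hR0P hR0t' hy0
  obtain ⟨d, hdP, hdX, hdu, hd1, hdr, hdi⟩ := hD R1 hX1 hR1c hP1 hR1t hy1
  obtain ⟨s, hs1, hs2⟩ := hf.exists_swap h2
  set f1 := (MulAut.conj s).toMonoidHom.comp f
  have hf1 : Hyp f1 := hf.conj s
  have htt : tt f1 = uu f := by simp only [tt] at hs1 ⊢; exact hs1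
  have huu : uu f1 = tt f := by simp only [uu] at hs2 ⊢; exact hs2
  have hde : d ∈ Subgroup.zpowers e := by
    refine hf1.inverted_eq hr2 (cast_ne hq hn hr.out hrp) (D := P ⊓ Subgroup.centralizer {uu f})
      (hPr.to_le inf_le_left) (by rw [hf1.range, htt]; exact inf_le_right)
      ⟨heP, Subgroup.mem_centralizer_singleton_iff.mpr heu⟩
      ⟨hdP, Subgroup.mem_centralizer_singleton_iff.mpr hdu⟩ her hdr he1 (by rw [huu]; exact hei)
      (by rw [huu]; exact hdi)
  -- so `d` centralises both hyperplanes, that is the whole root group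
  have hdX0 : d ∈ Subgroup.centralizer (X0 : Set G) := Subgroup.zpowers_le.mpr heX hde
  have hsup : X0 ⊔ X1 = root f := by
    refine Subgroup.eq_of_le_of_card_ge (sup_le hX0 hX1) ?_
    have hlt : X0 < X0 ⊔ X1 := lt_of_le_of_ne le_sup_left fun e' => hne (Subgroup.eq_of_le_of_card_ge
      (sup_eq_left.mp e'.symm) (Nat.eq_of_mul_eq_mul_right hp.out.pos (hc0.trans hc1.symm)).le).symm
    obtain ⟨i, hi⟩ := IsPGroup.iff_card.mp ((hf.root_isPGroup hq hn).to_le hX0)
    obtain ⟨j, hj⟩ := IsPGroup.iff_card.mp ((hf.root_isPGroup hq hn).to_le (sup_le hX0 hX1))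
    have hlt' : Nat.card X0 < Nat.card (X0 ⊔ X1 : Subgroup G) :=
      lt_of_not_ge fun h => hlt.ne (Subgroup.eq_of_le_of_card_ge hlt.le h)
    rw [← hc0, hi, hj, ← pow_succ]
    rw [hi, hj] at hlt'
    exact Nat.pow_le_pow_right hp.out.pos ((Nat.pow_lt_pow_iff_right hp.out.one_lt).mp hlt')
  have hdB : d ∈ f.range := hB (by
    rw [← hsup, Subgroup.sup_eq_closure, Subgroup.centralizer_closure, Subgroup.mem_centralizer_iff]
    rintro z (hz | hz)
    · exact Subgroup.mem_centralizer_iff.mp hdX0 z hz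
    · exact Subgroup.mem_centralizer_iff.mp hdX z hz)
  rw [hf.range, Subgroup.mem_centralizer_singleton_iff] at hdB
  rw [← hdB, mul_assoc, tt_sq, mul_one] at hdi
  exact hd1 (orderOf_eq_one_iff.mp (Nat.eq_one_of_dvd_coprimes ((Nat.coprime_primes hr.out Nat.prime_two).mpr hr2)
    (orderOf_dvd_of_pow_eq_one hdr) (orderOf_dvd_of_pow_eq_one (by rw [pow_two]; exact eq_inv_iff_mul_eq_one.mp hdi))))

/-- The torus moves a bad hyperplane to a bad hyperplane. -/
theorem bad_conj {r : ℕ} {X0 : Subgroup G} (h0 : Bad f p r X0) {h : G} (hh : h ∈ tor f) :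
    Bad f p r (X0.map (MulAut.conj h).toMonoidHom) := by
  obtain ⟨hX, hc, R, hR, hRc, hRA, hRt⟩ := h0
  have hhn : ∀ a ∈ ax f, h⁻¹ * a * h ∈ ax f := by
    rintro _ ⟨g, hg, rfl⟩
    obtain ⟨a, b, rfl⟩ := mem_tor.mp hh
    refine ⟨(dg a b)⁻¹ * g * dg a b, ?_, by simp [map_mul]⟩
    obtain ⟨c, d, hc, hd, γ, rfl⟩ := sgn_cases hg
    rw [dg_inv, show dg a⁻¹ b⁻¹ * (dg c d * xr γ) * dg a b
      = dg c d * (dg a⁻¹ b⁻¹ * xr γ * (dg a⁻¹ b⁻¹)⁻¹) by
        rw [dg_inv, inv_inv, inv_inv]; simp only [← mul_assoc, dg_mul, mul_comm c, mul_comm d],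
      dg_conj_xr]
    have h1 : (c : F) * c = 1 := by rw [← Units.val_mul, hc, Units.val_one]
    have h2' : (d : F) * d = 1 := by rw [← Units.val_mul, hd, Units.val_one]
    refine ⟨by simp [mul_apply', dg, xr], ?_, ?_⟩ <;> simp [mul_apply', dg, xr, h1, h2']
  refine ⟨?_, ?_, R.map (MulAut.conj h).toMonoidHom, hR.map _, ?_, ?_, ?_⟩
  · rintro _ ⟨x, hx, rfl⟩
    exact hf.tor_conj_root h2 hh (hX hx)
  · rw [Subgroup.card_map_of_injective (MulEquiv.injective _)]; exact hc
  · rintro _ ⟨x, hx, rfl⟩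
    refine Subgroup.mem_centralizer_iff.mpr ?_
    rintro _ ⟨z, hz, rfl⟩
    simp only [MulEquiv.toMonoidHom_eq_coe, MonoidHom.coe_coe, ← map_mul,
      Subgroup.mem_centralizer_iff.mp (hRc hx) z hz]
  · intro a ha
    refine Subgroup.mem_normalizer_fintype fun z hz => ?_
    obtain ⟨x, hx, rfl⟩ := hz
    refine ⟨h⁻¹ * a * h * x * (h⁻¹ * a * h)⁻¹, (Subgroup.mem_normalizer_iff.mp (hRA (hhn a ha)) x).mp hx, ?_⟩
    simp only [MulEquiv.toMonoidHom_eq_coe, MonoidHom.coe_coe, MulAut.conj_apply]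
    group
  · intro hle
    refine hRt fun x hx => ?_
    have := Subgroup.mem_centralizer_singleton_iff.mp (hle (Subgroup.mem_map_of_mem _ hx))
    simp only [MulEquiv.toMonoidHom_eq_coe, MonoidHom.coe_coe, MulAut.conj_apply] at this
    have et : h * tt f = tt f * h := ((hf.tor_iff h2).mp hh).1
    have et' : h⁻¹ * tt f = tt f * h⁻¹ := (Commute.inv_left et).eq
    refine Subgroup.mem_centralizer_singleton_iff.mpr ?_
    calc x * tt f = h⁻¹ * (h * x * h⁻¹ * (h * tt f)) := by group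
      _ = h⁻¹ * (h * x * h⁻¹ * tt f * h) := by rw [et]; group
      _ = h⁻¹ * (tt f * (h * x * h⁻¹) * h) := by rw [this]
      _ = (h⁻¹ * tt f) * h * x := by group
      _ = tt f * x := by rw [et']; group

/-- The centraliser of a nontrivial root element lies in the involution centraliser. -/
theorem cent_elt_le (hB : Subgroup.centralizer (root f : Set G) ≤ f.range) (hn3 : n = 1 ∨ 3 ≤ n) {y : G}
    (hy : y ∈ root f) (hy1 : y ≠ 1) : Subgroup.centralizer {y} ≤ Subgroup.centralizer {tt f} := by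
  classical
  rcases hn3 with rfl | hn3
  · have : Subgroup.zpowers y = root f := Subgroup.eq_of_le_of_card_ge (Subgroup.zpowers_le.mpr hy) (by
      rw [Nat.card_zpowers, orderOf_eq_prime (hf.root_pow hq hn hy) hy1, hf.card_root, hq, pow_one])
    rw [← this, Subgroup.zpowers_eq_closure, Subgroup.centralizer_closure, hf.range] at hB
    exact hB
  by_contra hne
  obtain ⟨M, hMy, hMcop, -, hMA, hMt⟩ := hf.exists_pprime_part h2 hq hn hB hy hy1
  -- some invariant Sylow subgroup of the odd part is outside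
  obtain ⟨r, hr, P, hPA, hPt⟩ : ∃ r, r.Prime ∧ ∃ P : Sylow r M, ax f ≤ Subgroup.normalizer
      ((P : Subgroup M).map M.subtype : Set G) ∧ ¬ (P : Subgroup M).map M.subtype ≤ Subgroup.centralizer {tt f} := by
    by_contra hcon
    push Not at hcon
    refine hne (hMt ?_)
    by_contra hMn
    have hidx : ((Subgroup.centralizer {tt f}).subgroupOf M).index ≠ 1 := fun e =>
      hMn (Subgroup.subgroupOf_eq_top.mp (Subgroup.index_eq_one.mp e))
    obtain ⟨r, hr, hrd⟩ := Nat.exists_prime_and_dvd hidx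
    haveI : Fact r.Prime := ⟨hr⟩
    obtain ⟨P, hP⟩ := CfsgLib.coprime_exists_invariant_sylow hMA (ax_coprime (f := f) h2 hq hn hMcop)
      (Or.inl (ax_solvable h2 hq hn)) r
    refine P.not_dvd_index (hrd.trans (Subgroup.index_dvd_of_le fun x hx => ?_))
    exact Subgroup.mem_subgroupOf.mpr (hcon r hr P hP (Subgroup.mem_map_of_mem _ hx))
  haveI : Fact r.Prime := ⟨hr⟩
  have hrdvd : r ∣ Nat.card M := by
    by_contra hnd
    refine hPt ?_
    have hc1 : Nat.card (P : Subgroup M) = 1 := by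
      rw [P.card_eq_multiplicity, Nat.factorization_eq_zero_of_not_dvd hnd, pow_zero]
    rw [Subgroup.card_eq_one.mp hc1, Subgroup.map_bot]
    exact bot_le
  have hr2 : r ≠ 2 := fun e => hr.not_dvd_one (hMcop ▸ Nat.dvd_gcd hrdvd (e ▸ dvd_mul_right r p))
  have hrp : r ≠ p := fun e => hr.not_dvd_one (hMcop ▸ Nat.dvd_gcd hrdvd (e ▸ dvd_mul_left r 2))
  obtain ⟨X0, hX0, hyX0⟩ := hf.exists_bad h2 hq hn hB hrp hy hy1 (P.2.map _)
    ((Subgroup.map_subtype_le _).trans hMy) hPA hPt
  -- every conjugate of `X0` under the torus equals `X0`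
  have hfix : ∀ h ∈ tor f, X0.map (MulAut.conj h).toMonoidHom = X0 := by
    intro h hh
    have hb' := hf.bad_conj h2 hq hn hX0 hh
    obtain ⟨z, hz, hz1⟩ : ∃ z ∈ X0 ⊓ X0.map (MulAut.conj h).toMonoidHom, z ≠ 1 := by
      by_contra hcon
      push Not at hcon
      obtain ⟨hX, hc, -⟩ := hX0
      obtain ⟨hX', hc', -⟩ := hb'
      set X1 := X0.map (MulAut.conj h).toMonoidHom
      have hcom : ∀ x : X0, ∀ z : X1, Commute (X0.subtype x) (X1.subtype z) := fun x z =>
        root_comm (hX x.2) (hX' z.2)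
      have hinj : Function.Injective (X0.subtype.noncommCoprod X1.subtype hcom) :=
        (injective_iff_map_eq_one _).mpr fun xz e => by
          have e' : (xz.1 : G) * xz.2 = 1 := e
          have hz : (xz.2 : G) = 1 := hcon _ ⟨by rw [eq_inv_of_mul_eq_one_right e']; exact X0.inv_mem xz.1.2, xz.2.2⟩
          rw [hz, mul_one] at e'
          exact Prod.ext (Subtype.ext e') (Subtype.ext hz)
      have hle : Nat.card X0 * Nat.card X1 ≤ Nat.card (root f) := by
        rw [← Nat.card_prod, Nat.card_congr (MonoidHom.ofInjective hinj).toEquiv]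
        refine Subgroup.card_le_of_le ?_
        rw [MonoidHom.noncommCoprod_range, Subgroup.range_subtype, Subgroup.range_subtype]
        exact sup_le hX hX'
      have hc2 : Nat.card X1 = Nat.card X0 := Nat.eq_of_mul_eq_mul_right hp.out.pos (hc'.trans hc.symm)
      obtain ⟨i, hi⟩ := IsPGroup.iff_card.mp ((hf.root_isPGroup hq hn).to_le hX)
      rw [hc2, hi, hf.card_root, hq, ← pow_add] at hle
      rw [hi, hf.card_root, hq, ← pow_succ] at hc
      have := Nat.pow_right_injective hp.out.two_le hc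
      have := (Nat.pow_le_pow_iff_right hp.out.one_lt).mp hle
      omega
    exact (hf.bad_unique h2 hq hn hB hr2 hrp hX0 hb' hz.1 hz.2 hz1).symm
  -- so it is the whole root group
  obtain ⟨β, hβ⟩ := mem_root.mp hy
  have hβ0 : β ≠ 0 := fun e => hy1 (by rw [← hβ, e, xr_zero, map_one])
  have hall : root f ≤ X0 := fun x hx => by
    obtain ⟨γ, rfl⟩ := mem_root.mp hx
    rcases eq_or_ne γ 0 with rfl | hγ
    · rw [xr_zero, map_one]; exact one_mem X0
    have hu := hfix (f (dg (Units.mk0 (γ / β) (div_ne_zero hγ hβ0)) 1)) (mem_tor.mpr ⟨_, _, rfl⟩)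
    rw [← hu]
    refine ⟨y, hyX0, ?_⟩
    rw [← hβ]
    simp only [MulEquiv.toMonoidHom_eq_coe, MonoidHom.coe_coe, MulAut.conj_apply, ← map_inv, ← map_mul, dg_conj_xr]
    simp [div_mul_cancel₀ _ hβ0]
  obtain ⟨hX, hc, -⟩ := hX0
  rw [le_antisymm hX hall] at hc
  exact hp.out.one_lt.ne' ((mul_eq_left₀ Nat.card_pos.ne').mp hc)

/-- The index of the involution centraliser is one modulo `q`. -/
theorem index_congr (hB : Subgroup.centralizer (root f : Set G) ≤ f.range) (hn3 : n = 1 ∨ 3 ≤ n) :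
    (Fintype.card F : ℤ) ∣ ((Subgroup.centralizer {tt f}).index : ℤ) - 1 := by
  classical
  set C := Subgroup.centralizer ({tt f} : Set G)
  haveI := Fintype.ofFinite (G ⧸ C)
  haveI := Fintype.ofFinite (root f)
  haveI : Fintype (Quotient (MulAction.orbitRel (root f) (G ⧸ C))) := Fintype.ofFinite _
  have hb := MulAction.sum_card_fixedBy_eq_card_orbits_mul_card_group (root f) (G ⧸ C)
  have hfix : ∀ x : root f, x ≠ 1 → Fintype.card (MulAction.fixedBy (G ⧸ C) x) = 1 := by
    intro x hx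
    rw [Fintype.card_eq_one_iff]
    have hxC : (x : G) ∈ C := by
      obtain ⟨β, e⟩ := mem_root.mp x.2
      exact Subgroup.mem_centralizer_singleton_iff.mpr (e ▸ hf.root_tt β)
    refine ⟨⟨((1 : G) : G ⧸ C), ?_⟩, ?_⟩
    · show (((x : G) * 1 : G) : G ⧸ C) = _
      rw [mul_one]; exact (QuotientGroup.eq.mpr (by simpa using inv_mem hxC))
    rintro ⟨w, hw⟩
    obtain ⟨g, rfl⟩ := QuotientGroup.mk_surjective w
    refine Subtype.ext (QuotientGroup.eq.mpr ?_)
    have hw' : ((((x : G) * g : G)) : G ⧸ C) = g := hw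
    have hg := Subgroup.mem_centralizer_singleton_iff.mp (QuotientGroup.eq.mp hw'.symm)
    set j := g * tt f * g⁻¹ with hj
    have hjx : j * x = x * j := by
      calc j * x = g * (tt f * (g⁻¹ * ((x : G) * g))) * g⁻¹ := by rw [hj]; group
        _ = g * (g⁻¹ * ((x : G) * g) * tt f) * g⁻¹ := by rw [hg]
        _ = _ := by rw [hj]; group
    have hjC := hf.cent_elt_le h2 hq hn hB hn3 x.2 (fun e => hx (Subtype.ext e))
      (Subgroup.mem_centralizer_singleton_iff.mpr hjx)
    have hjj : j * j = 1 := by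
      rw [hj, show g * tt f * g⁻¹ * (g * tt f * g⁻¹) = g * (tt f * tt f) * g⁻¹ by group, tt_sq]; group
    obtain ⟨β, e⟩ := mem_root.mp x.2
    have hβ : β ≠ 0 := fun e0 => hx (Subtype.ext (by rw [← e, e0, xr_zero, map_one]; rfl))
    obtain ⟨a, γ, e'⟩ := hf.cent_one hβ (Subgroup.mem_centralizer_singleton_iff.mp hjC) (e ▸ hjx)
    have hjs := hf.two_elt_scal h2 e' (k := 1) (by rw [pow_one, pow_two, hjj])
    have hgt : g * tt f * g⁻¹ = tt f := by
      rcases hf.scal_sq_one h2 hjs hjj with h | h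
      · exact absurd (conj_eq_one_iff.mp h) (hf.tt_ne h2)
      · exact h
    rw [mul_one]
    refine inv_mem (Subgroup.mem_centralizer_singleton_iff.mpr ?_)
    exact mul_inv_eq_iff_eq_mul.mp hgt
  rw [← Finset.add_sum_erase _ _ (Finset.mem_univ (1 : root f)),
    Finset.sum_congr rfl (fun x hx => hfix x (Finset.ne_of_mem_erase hx)), Finset.sum_const, smul_eq_mul, mul_one,
    Finset.card_erase_of_mem (Finset.mem_univ _), Finset.card_univ] at hb
  have h1 : Fintype.card (MulAction.fixedBy (G ⧸ C) (1 : root f)) = C.index := by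
    rw [Subgroup.index_eq_card, Nat.card_eq_fintype_card]
    exact Fintype.card_congr (Equiv.subtypeUnivEquiv fun a => one_smul _ a)
  have hr : Fintype.card (root f) = Fintype.card F := by rw [← Nat.card_eq_fintype_card, hf.card_root]
  rw [h1, hr] at hb
  set k := Fintype.card (Quotient (MulAction.orbitRel (root f) (G ⧸ C)))
  refine ⟨(k : ℤ) - 1, ?_⟩
  have hpos : 1 ≤ Fintype.card F := Fintype.card_pos
  have := congrArg (fun m : ℕ => (m : ℤ)) hb
  push_cast [Nat.cast_sub hpos] at this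
  linear_combination this

end Hyp

end CfsgLib.GL2Cent
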