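import Cfsg.Agent.Lib.GL2Cent.Recog
import Cfsg.Agent.Lib.GL2Cent.TI
import Cfsg.Agent.Lib.GL2Cent.Formula
import Cfsg.Agent.Lib.GL2Cent.Arith

/-!
The centraliser characterisation of `PSL₃(q)` for `q ≥ 5`: the two cases of the root dichotomy against the index
formula.
-/

set_option autoImplicit false
set_option linter.unusedSectionVars false

namespace CfsgLib.GL2Cent

open Matrix

universe u v

variable {G : Type u} [Group G] {F : Type v} [Field F]

namespace Hyp

variable {f : GL (Fin 2) F →* G} (hf : Hyp f) [Finite G] [IsSimpleGroup G] [Fintype F] (h2 : (2 : F) ≠ 0)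
include hf h2

/-- The index of the involution centraliser is odd. -/
theorem index_odd : Odd (Subgroup.centralizer ({tt f} : Set G)).index := by
  haveI : Fact (Nat.Prime 2) := ⟨Nat.prime_two⟩
  obtain ⟨P⟩ : Nonempty (Sylow 2 (GL (Fin 2) F)) := inferInstance
  obtain ⟨S, hS⟩ := hf.sylow_two h2 P
  refine Nat.not_even_iff_odd.mp fun he => S.not_dvd_index
    ((even_iff_two_dvd.mp he).trans (Subgroup.index_dvd_of_le ?_))
  rw [hS, ← hf.range]
  exact Subgroup.map_le_range _ _

variable {p : ℕ} [hp : Fact p.Prime] {n : ℕ} (hq : Fintype.card F = p ^ n) (hn : n ≠ 0)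
include hq hn

/-- Two commuting root groups put `q` into the index. -/
theorem card_dvd_index {f' : GL (Fin 2) F →* G} (hf' : Hyp f') (ht : tt f' = uu f ∨ tt f' = tt f * uu f)
    (htor : tor f' = tor f) (hcomm : ∀ x ∈ root f, ∀ y ∈ root f', x * y = y * x) :
    Fintype.card F ∣ (Subgroup.centralizer ({tt f} : Set G)).index := by
  obtain ⟨-, hc, -⟩ := hf.pair_dvd h2 hq hn hf' ht htor hcomm
  have hd : Fintype.card F * Fintype.card F ∣ Fintype.card F *
      ((Subgroup.centralizer ({tt f} : Set G)).index * ((Fintype.card F + 1) * Nat.card (tor f))) := by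
    refine dvd_trans ?_ (dvd_of_eq (hf.card_group.trans (by ring)))
    rw [← pow_two, ← hc]
    exact Subgroup.card_subgroup_dvd_card _
  rw [Nat.mul_dvd_mul_iff_left Fintype.card_pos] at hd
  refine Nat.Coprime.dvd_of_dvd_mul_right ?_ hd
  rw [hq]
  refine ((Nat.Prime.coprime_iff_not_dvd hp.out).mpr fun h => ?_).pow_left _
  rcases hp.out.dvd_mul.mp h with h | h
  · exact not_dvd_succ hq hn (hq ▸ h)
  · exact hf.not_dvd_tor hq hn h

/-- `PSL₃(q)` for `q ≥ 5`, given the bound at the odd primes dividing `q + 1`. -/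
theorem psl3_of_five (h5 : 5 ≤ Fintype.card F)
    (hR : Fintype.card F % 4 = 3 → ∀ r : ℕ, r.Prime → r ≠ 2 → r ∣ Fintype.card F + 1 →
      padicValNat r (Nat.card G) ≤ 3 * padicValNat r (Fintype.card F + 1)) :
    Nonempty (G ≃* Matrix.ProjectiveSpecialLinearGroup (Fin 3) F) := by
  obtain ⟨h14, h34⟩ := hf.index_formula h2 hq hn h5
  have hodd : p % 2 = 1 := (Nat.Prime.eq_two_or_odd hp.out).resolve_left (p_ne_two hq hn h2)
  have hqodd : Odd (Fintype.card F) := hq ▸ (Nat.odd_iff.mpr hodd).pow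
  set q := Fintype.card F with hq'
  set N := (Subgroup.centralizer ({tt f} : Set G)).index with hN'
  have hqdvd : p ∣ q := hq ▸ dvd_pow_self p hn
  have h4 : q % 4 = 1 ∨ q % 4 = 3 := by
    have := Nat.odd_iff.mp hqodd
    omega
  have hqp : (q : ℤ) = (p : ℤ) ^ n := by rw [hq]; push_cast; ring
  have hqoddz : Odd (q : ℤ) := by exact_mod_cast hqodd
  have hNodd : Odd (N : ℤ) := by exact_mod_cast hf.index_odd h2
  rcases hf.root_dichotomy h2 with ⟨f', hf', ht, htor, hcomm⟩ | hB
  · have hne : tt f' ≠ tt f := by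
      rcases ht with e | e <;> rw [e]
      · exact hf.uu_ne_tt h2
      · exact fun e' => hf.uu_ne h2 (mul_left_cancel (a := tt f) (by rw [e', mul_one]))
    have hP : Pair f f' := ⟨hf, hf', htor, hne⟩
    have hqN : q ∣ N := hf.card_dvd_index h2 hq hn hf' ht htor hcomm
    rcases h4 with h4 | h4
    · exact hP.psl3 hcomm h2 hq hn (by exact_mod_cast h14 h4)
    · obtain ⟨B, C, hB0, hB1, hC, heq⟩ := h34 h4
      have h7 : 7 ≤ q := by omega
      obtain ⟨hd, -⟩ := Arith.qd_cases hp.out (Nat.one_le_iff_ne_zero.mpr hn) hqp (by exact_mod_cast h7) hqoddz hNodd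
        hB0 hB1 hC heq
      rcases hd (by exact_mod_cast hqN) with e | e
      · exact hP.psl3 hcomm h2 hq hn (by exact_mod_cast e)
      · refine (hP.no_meleven hcomm h2 hq hn h7 ?_).elim
        have h1 : 1 ≤ q ^ 2 + q := by omega
        rw [← Nat.cast_inj (R := ℤ), ← hq', ← hN', e, Nat.cast_mul, Nat.cast_mul, Nat.cast_sub h1]
        push_cast
        ring
  · exfalso
    have hpN : ¬ p ∣ N := hf.not_dvd_index h2 hq hn hB
    rcases h4 with h4 | h4
    · refine hpN ?_
      have e : N = q ^ 2 * (q ^ 2 + q + 1) := by exact_mod_cast h14 h4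
      rw [e]
      exact (hqdvd.trans (dvd_pow_self q two_ne_zero)).mul_right _
    · obtain ⟨B, C, hB0, hB1, hC, heq⟩ := h34 h4
      have h7 : 7 ≤ q := by omega
      obtain ⟨-, hd⟩ := Arith.qd_cases hp.out (Nat.one_le_iff_ne_zero.mpr hn) hqp (by exact_mod_cast h7) hqoddz hNodd
        hB0 hB1 hC heq
      obtain ⟨e, g, hg, heg, hNe, hdiv⟩ := hd (by exact_mod_cast hpN)
      have hn3 : n = 1 ∨ 3 ≤ n := by
        rcases Nat.lt_or_ge n 3 with hlt | hge
        · left
          by_contra h1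
          have e2 : n = 2 := by clear * - hlt h1 hn; omega
          rw [hq, e2, pow_two, Nat.mul_mod] at h4
          rcases (show p % 4 = 1 ∨ p % 4 = 3 by clear * - hodd; omega) with h | h <;> rw [h] at h4 <;> norm_num at h4
        · exact Or.inr hge
      have h1 : (q : ℤ) ∣ (N : ℤ) - 1 := hf.index_congr h2 hq hn hB hn3
      have h2e : (q : ℤ) ∣ e ^ 2 + e - 1 := by
        have h3 : (q : ℤ) ∣ (N : ℤ) * e ^ 2 + e - 1 := by
          rw [hNe]
          exact ⟨(e - 1) * (((q : ℤ) + 1) ^ 3 * e - ((q : ℤ) ^ 3 + 4 * (q : ℤ) ^ 2 + 6 * q + 4)), by ring⟩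
        have h4' := dvd_sub h3 (h1.mul_right (e ^ 2))
        rwa [show (N : ℤ) * e ^ 2 + e - 1 - ((N : ℤ) - 1) * e ^ 2 = e ^ 2 + e - 1 by ring] at h4'
      have hmod : (q : ℤ) ∣ g ^ 2 - g - 1 := by
        have h3 : (q : ℤ) ∣ e * g - 1 := ⟨(q : ℤ) + 2, by rw [heg]; ring⟩
        have h4' := dvd_add ((dvd_neg.mpr h2e).mul_right (g ^ 2)) (h3.mul_right (e * g + 1 + g))
        rwa [show -(e ^ 2 + e - 1) * g ^ 2 + (e * g - 1) * (e * g + 1 + g) = g ^ 2 - g - 1 by ring] at h4'
      refine Arith.empty_none (by exact_mod_cast h7) hg heg hNe hdiv hmod fun r hr hr2 hrq a ha ha' hN2 => ?_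
      haveI : Fact r.Prime := ⟨hr⟩
      have hrq' : r ∣ q + 1 := by exact_mod_cast hrq
      have hv : padicValNat r (q + 1) = a := by
        refine le_antisymm (not_lt.mp fun hlt => ha' ?_) ?_
        · exact_mod_cast (pow_dvd_pow r hlt).trans pow_padicValNat_dvd
        · exact (padicValNat_dvd_iff_le (Nat.succ_ne_zero q)).mp (by exact_mod_cast ha)
      have hle := hR h4 r hr hr2 hrq'
      rw [hv] at hle
      have hG : r ^ (3 * a + 1) ∣ Nat.card G := by
        rw [hf.card_group, show 3 * a + 1 = 2 * a + 1 + a by ring, pow_add]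
        refine mul_dvd_mul (by exact_mod_cast hN2) ?_
        exact ((show r ^ a ∣ q + 1 by exact_mod_cast ha).mul_left _).mul_right _
      have := (padicValNat_dvd_iff_le (Nat.card_pos.ne' : Nat.card G ≠ 0)).mp hG
      omega

end Hyp

end CfsgLib.GL2Cent
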