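import Mathlib

/-!
`GL(2, F)` for a finite field of odd characteristic, seen modulo a central subgroup of odd order: involutions,
centralisers of diagonal and unipotent elements, and the overgroups of the diagonal torus.
-/

set_option autoImplicit false
set_option linter.unusedSectionVars false
set_option linter.style.haveILetI false
set_option linter.unusedSimpArgs false

namespace CfsgLib.GL2Cent

open Matrix

variable {F : Type*} [Field F]

theorem det_ne (g : GL (Fin 2) F) : g.1 0 0 * g.1 1 1 - g.1 0 1 * g.1 1 0 ≠ 0 := by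
  rw [← Matrix.det_fin_two]
  exact g.det_ne_zero

theorem mul_apply' (g h : GL (Fin 2) F) (i j : Fin 2) : (g * h).1 i j = g.1 i 0 * h.1 0 j + g.1 i 1 * h.1 1 j := by
  rw [Units.val_mul, Matrix.mul_apply, Fin.sum_univ_two]

theorem ext2 {g h : GL (Fin 2) F} (h00 : g.1 0 0 = h.1 0 0) (h01 : g.1 0 1 = h.1 0 1) (h10 : g.1 1 0 = h.1 1 0)
    (h11 : g.1 1 1 = h.1 1 1) : g = h := by
  refine Units.ext (Matrix.ext fun i j => ?_)
  fin_cases i <;> fin_cases j <;> assumption

theorem entry {g h : GL (Fin 2) F} (e : g = h) (i j : Fin 2) : g.1 i j = h.1 i j := by rw [e]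

/-- The matrix with given entries. -/
noncomputable def mk2 (a b c d : F) (h : a * d - b * c ≠ 0) : GL (Fin 2) F :=
  Matrix.GeneralLinearGroup.mkOfDetNeZero !![a, b; c, d] (by rw [Matrix.det_fin_two]; simpa using h)

@[simp] theorem mk2_val (a b c d : F) (h : a * d - b * c ≠ 0) : (mk2 a b c d h).1 = !![a, b; c, d] := rfl

/-- Diagonal elements. -/
noncomputable def dg (a b : Fˣ) : GL (Fin 2) F := mk2 a 0 0 b (by simp)

/-- Upper unipotent elements. -/
noncomputable def xr (β : F) : GL (Fin 2) F := mk2 1 β 0 1 (by simp)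

/-- Lower unipotent elements. -/
noncomputable def yr (β : F) : GL (Fin 2) F := mk2 1 0 β 1 (by simp)

/-- The swap of the coordinates. -/
noncomputable def ww : GL (Fin 2) F := mk2 0 1 1 0 (by simp)

/-- Diagonal matrices. -/
def Diag (g : GL (Fin 2) F) : Prop := g.1 0 1 = 0 ∧ g.1 1 0 = 0

/-- Anti-diagonal matrices. -/
def Anti (g : GL (Fin 2) F) : Prop := g.1 0 0 = 0 ∧ g.1 1 1 = 0

theorem eq_dg {g : GL (Fin 2) F} (h : Diag g) : ∃ a b : Fˣ, g = dg a b := by
  have hd := det_ne g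
  rw [h.1, h.2, mul_zero, sub_zero] at hd
  exact ⟨Units.mk0 _ (left_ne_zero_of_mul hd), Units.mk0 _ (right_ne_zero_of_mul hd),
    ext2 (by simp [dg]) (by simp [dg, h.1]) (by simp [dg, h.2]) (by simp [dg])⟩

theorem diag_dg (a b : Fˣ) : Diag (dg a b) := by simp [Diag, dg]

theorem dg_mul (a b c d : Fˣ) : dg a b * dg c d = dg (a * c) (b * d) := by
  apply ext2 <;> simp [mul_apply', dg]

theorem dg_one : dg (1 : Fˣ) 1 = 1 := by apply ext2 <;> simp [dg]

theorem dg_inj {a b c d : Fˣ} (h : dg a b = dg c d) : a = c ∧ b = d :=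
  ⟨Units.ext (by simpa [dg] using entry h 0 0), Units.ext (by simpa [dg] using entry h 1 1)⟩

theorem dg_inv (a b : Fˣ) : (dg a b)⁻¹ = dg a⁻¹ b⁻¹ :=
  inv_eq_of_mul_eq_one_right (by rw [dg_mul, mul_inv_cancel, mul_inv_cancel, dg_one])

theorem xr_add (β γ : F) : xr β * xr γ = xr (β + γ) := by apply ext2 <;> simp [mul_apply', xr, add_comm]

theorem yr_add (β γ : F) : yr β * yr γ = yr (β + γ) := by apply ext2 <;> simp [mul_apply', yr]

theorem xr_zero : xr (0 : F) = 1 := by apply ext2 <;> simp [xr]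

theorem yr_zero : yr (0 : F) = 1 := by apply ext2 <;> simp [yr]

theorem xr_inj {β γ : F} (h : xr β = xr γ) : β = γ := by
  simpa [xr] using entry h 0 1

theorem dg_conj_xr (a b : Fˣ) (β : F) : dg a b * xr β * (dg a b)⁻¹ = xr ((a : F) * β * (b : F)⁻¹) := by
  rw [mul_inv_eq_iff_eq_mul]
  apply ext2 <;> simp [mul_apply', dg, xr]

theorem dg_conj_yr (a b : Fˣ) (β : F) : dg a b * yr β * (dg a b)⁻¹ = yr ((b : F) * β * (a : F)⁻¹) := by
  rw [mul_inv_eq_iff_eq_mul]
  apply ext2 <;> simp [mul_apply', dg, yr]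

theorem ww_mul_self : ww * ww = (1 : GL (Fin 2) F) := by apply ext2 <;> simp [mul_apply', ww]

theorem ww_conj_xr (β : F) : ww * xr β * ww⁻¹ = yr β := by
  rw [mul_inv_eq_iff_eq_mul]
  apply ext2 <;> simp [mul_apply', ww, xr, yr]

theorem ww_conj_yr (β : F) : ww * yr β * ww⁻¹ = xr β := by
  rw [mul_inv_eq_iff_eq_mul]
  apply ext2 <;> simp [mul_apply', ww, xr, yr]

theorem ww_conj_dg (a b : Fˣ) : ww * dg a b * ww⁻¹ = dg b a := by
  rw [mul_inv_eq_iff_eq_mul]
  apply ext2 <;> simp [mul_apply', ww, dg]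

theorem exists_scalar {g : GL (Fin 2) F} (h : g ∈ Subgroup.center (GL (Fin 2) F)) : ∃ a : Fˣ, g = dg a a := by
  have hm := Subgroup.mem_center_iff.mp h
  have h1 := congrArg Units.val (hm (xr 1))
  have h2 := congrArg Units.val (hm (yr 1))
  have a1 := congrFun (congrFun h1 0) 0
  have a2 := congrFun (congrFun h1 0) 1
  have a3 := congrFun (congrFun h2 0) 0
  simp only [mul_apply', xr, yr, mk2_val] at a1 a2 a3
  simp at a1 a2 a3
  obtain ⟨a, b, rfl⟩ := eq_dg (g := g) ⟨by linear_combination a3, by linear_combination a1⟩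
  refine ⟨a, ?_⟩
  have : (b : F) = a := by simp [dg] at a2; linear_combination a2
  rw [Units.ext this]

theorem scalar_central (a : Fˣ) : dg a a ∈ Subgroup.center (GL (Fin 2) F) :=
  Subgroup.mem_center_iff.mpr fun g => by apply ext2 <;> simp [mul_apply', dg, mul_comm]

/-- A scalar of odd order squaring to one is one. -/
theorem unit_eq_one_of_sq {Z : Subgroup (GL (Fin 2) F)} (hZ : Odd (Nat.card Z)) {a : Fˣ} (ha : dg a a ∈ Z)
    (h : a * a = 1) : a = 1 := by
  have h2 : (dg a a) ^ 2 = 1 := by rw [pow_two, dg_mul, h, dg_one]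
  have h1 : orderOf (dg a a) ∣ Nat.card Z := Subgroup.orderOf_dvd_natCard _ ha
  have := Nat.eq_one_of_dvd_coprimes (Nat.coprime_two_left.mpr hZ) (orderOf_dvd_of_pow_eq_one h2) h1
  exact (dg_inj ((orderOf_eq_one_iff.mp this).trans dg_one.symm)).1

section Mod

variable {Z : Subgroup (GL (Fin 2) F)} (hZc : Z ≤ Subgroup.center (GL (Fin 2) F)) (hZo : Odd (Nat.card Z))
include hZc hZo

theorem det_scalar {g h : GL (Fin 2) F} {a : Fˣ} (ha : dg a a ∈ Z) (e : g * h = h * g * dg a a) : a = 1 := by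
  refine unit_eq_one_of_sq hZo ha (Units.ext ?_)
  have h1 := congrArg (fun m : GL (Fin 2) F => m.1.det) e
  simp only [Units.val_mul, Matrix.det_mul] at h1
  rw [mul_comm g.1.det] at h1
  have h2 : ((dg a a).1).det = 1 :=
    (mul_left_cancel₀ (mul_ne_zero h.det_ne_zero g.det_ne_zero) (by rw [mul_one]; exact h1.symm))
  simpa [dg, Matrix.det_fin_two] using h2

/-- Elements commuting modulo `Z` commute. -/
theorem commute_of_mod {g h : GL (Fin 2) F} (e : (h * g)⁻¹ * (g * h) ∈ Z) : g * h = h * g := by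
  obtain ⟨a, ha⟩ := exists_scalar (hZc e)
  have e' : g * h = h * g * dg a a := by rw [← ha, mul_inv_cancel_left]
  rw [det_scalar hZc hZo (ha ▸ e) e', dg_one, mul_one] at e'
  exact e'

end Mod

theorem commute_dg {g : GL (Fin 2) F} {a b : Fˣ} (hab : a ≠ b) (h : g * dg a b = dg a b * g) : Diag g := by
  have h1 := congrArg Units.val h
  have a1 := congrFun (congrFun h1 0) 1
  have a2 := congrFun (congrFun h1 1) 0
  simp only [mul_apply', dg, mk2_val] at a1 a2
  simp at a1 a2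
  have hne : (a : F) - b ≠ 0 := sub_ne_zero.mpr fun e => hab (Units.ext e)
  exact ⟨(mul_eq_zero.mp (show (g.1 0 1) * ((a : F) - b) = 0 by linear_combination -a1)).resolve_right hne,
    (mul_eq_zero.mp (show (g.1 1 0) * ((a : F) - b) = 0 by linear_combination a2)).resolve_right hne⟩

theorem commute_xr {g : GL (Fin 2) F} {β : F} (hβ : β ≠ 0) :
    g * xr β = xr β * g ↔ g.1 1 0 = 0 ∧ g.1 0 0 = g.1 1 1 := by
  constructor
  · intro h
    have h1 := congrArg Units.val h
    have a1 := congrFun (congrFun h1 0) 0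
    have a2 := congrFun (congrFun h1 0) 1
    simp only [mul_apply', xr, mk2_val] at a1 a2
    simp at a1 a2
    exact ⟨a1.resolve_left hβ,
      sub_eq_zero.mp ((mul_eq_zero.mp (show β * (g.1 0 0 - g.1 1 1) = 0 by linear_combination a2)).resolve_left hβ)⟩
  · rintro ⟨h1, h2⟩
    apply ext2 <;> simp [mul_apply', xr, h1, h2, mul_comm, add_comm]

/-- An element squaring to one. -/
theorem sq_one_cases (h2 : (2 : F) ≠ 0) {g : GL (Fin 2) F} (hg : g * g = 1) :
    g = 1 ∨ g = dg (-1) (-1) ∨ ∃ h : GL (Fin 2) F, h * g * h⁻¹ = dg 1 (-1) := by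
  have h1 := congrArg Units.val hg
  have a00 := congrFun (congrFun h1 0) 0
  have a01 := congrFun (congrFun h1 0) 1
  have a10 := congrFun (congrFun h1 1) 0
  have a11 := congrFun (congrFun h1 1) 1
  simp only [mul_apply'] at a00 a01 a10 a11
  simp at a00 a01 a10 a11
  by_cases ht : g.1 0 0 + g.1 1 1 = 0
  · right; right
    have hd : g.1 1 1 = -g.1 0 0 := by linear_combination ht
    have he : ((-1 : Fˣ) : F) = -1 := by simp
    by_cases hb : g.1 0 1 = 0
    · by_cases ha : g.1 0 0 = 1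
      · refine ⟨mk2 1 0 (g.1 1 0) (-2) (by simpa using h2), ?_⟩
        rw [mul_inv_eq_iff_eq_mul]
        apply ext2 <;> simp [mul_apply', dg, hb, hd, ha, he] <;> ring
      · have ha' : g.1 0 0 = -1 := by
          rw [hb] at a00
          exact (mul_self_eq_one_iff.mp (by linear_combination a00)).resolve_left ha
        refine ⟨mk2 (g.1 1 0) 2 1 0 (by simpa using h2), ?_⟩
        rw [mul_inv_eq_iff_eq_mul]
        apply ext2 <;> simp [mul_apply', dg, hb, hd, ha', he] <;> ring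
    · refine ⟨mk2 (g.1 0 0 + 1) (g.1 0 1) (g.1 0 0 - 1) (g.1 0 1) ?_, ?_⟩
      · rw [show (g.1 0 0 + 1) * g.1 0 1 - g.1 0 1 * (g.1 0 0 - 1) = 2 * g.1 0 1 by ring]
        exact mul_ne_zero h2 hb
      · rw [mul_inv_eq_iff_eq_mul]
        rw [hd] at a01
        apply ext2 <;> simp [mul_apply', dg, hd, he] <;>
          first | (linear_combination a00) | (linear_combination -a00) | ring
  · have hb : g.1 0 1 = 0 :=
      (mul_eq_zero.mp (show g.1 0 1 * (g.1 0 0 + g.1 1 1) = 0 by linear_combination a01)).resolve_right ht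
    have hc : g.1 1 0 = 0 :=
      (mul_eq_zero.mp (show g.1 1 0 * (g.1 0 0 + g.1 1 1) = 0 by linear_combination a10)).resolve_right ht
    rw [hb] at a00
    rw [hc] at a11
    rcases mul_self_eq_one_iff.mp (show g.1 0 0 * g.1 0 0 = 1 by linear_combination a00) with ha | ha <;>
      rcases mul_self_eq_one_iff.mp (show g.1 1 1 * g.1 1 1 = 1 by linear_combination a11) with hd | hd
    · left; apply ext2 <;> simp [ha, hb, hc, hd]
    · exact absurd (by rw [ha, hd, add_neg_cancel]) ht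
    · exact absurd (by rw [ha, hd, neg_add_cancel]) ht
    · right; left; apply ext2 <;> simp [dg, ha, hb, hc, hd]

section Overgroup

variable {K : Subgroup (GL (Fin 2) F)} (hK : ∀ a b : Fˣ, dg a b ∈ K)
include hK

theorem xr_all {β : F} (hβ : β ≠ 0) (h : xr β ∈ K) (γ : F) : xr γ ∈ K := by
  rcases eq_or_ne γ 0 with rfl | hγ
  · rw [xr_zero]; exact one_mem K
  have h1 := mul_mem (mul_mem (hK (Units.mk0 (γ / β) (div_ne_zero hγ hβ)) 1) h)
    (inv_mem (hK (Units.mk0 (γ / β) (div_ne_zero hγ hβ)) 1))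
  rwa [dg_conj_xr, Units.val_mk0, Units.val_one, inv_one, mul_one, div_mul_cancel₀ _ hβ] at h1

theorem yr_all {β : F} (hβ : β ≠ 0) (h : yr β ∈ K) (γ : F) : yr γ ∈ K := by
  rcases eq_or_ne γ 0 with rfl | hγ
  · rw [yr_zero]; exact one_mem K
  have h1 := mul_mem (mul_mem (hK 1 (Units.mk0 (γ / β) (div_ne_zero hγ hβ))) h)
    (inv_mem (hK 1 (Units.mk0 (γ / β) (div_ne_zero hγ hβ))))
  rwa [dg_conj_yr, Units.val_mk0, Units.val_one, inv_one, mul_one, div_mul_cancel₀ _ hβ] at h1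

omit hK in
/-- A root group lies in a subgroup. -/
theorem tri_cases {g : GL (Fin 2) F} (h : g.1 1 0 = 0) : ∃ a b : Fˣ, g = dg a b * xr (g.1 0 1 / g.1 0 0) := by
  have hd := det_ne g
  rw [h, mul_zero, sub_zero] at hd
  refine ⟨Units.mk0 _ (left_ne_zero_of_mul hd), Units.mk0 _ (right_ne_zero_of_mul hd), ?_⟩
  apply ext2 <;> simp [mul_apply', dg, xr, h]
  field_simp [left_ne_zero_of_mul hd]

theorem root_of_upper {g : GL (Fin 2) F} (hg : g ∈ K) (h : g.1 1 0 = 0) (hb : g.1 0 1 ≠ 0) (γ : F) : xr γ ∈ K := by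
  obtain ⟨a, b, e⟩ := tri_cases h
  have hd := det_ne g
  rw [h, mul_zero, sub_zero] at hd
  refine xr_all hK (div_ne_zero hb (left_ne_zero_of_mul hd)) ?_ γ
  have := mul_mem (inv_mem (hK a b)) hg
  rwa [inv_mul_eq_iff_eq_mul.mpr e] at this

theorem root_of_lower {g : GL (Fin 2) F} (hg : g ∈ K) (h : g.1 0 1 = 0) (hc : g.1 1 0 ≠ 0) (γ : F) : yr γ ∈ K := by
  have hd := det_ne g
  rw [h, zero_mul, sub_zero] at hd
  refine yr_all hK (div_ne_zero hc (right_ne_zero_of_mul hd)) ?_ γ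
  have := mul_mem (inv_mem (hK (Units.mk0 _ (left_ne_zero_of_mul hd)) (Units.mk0 _ (right_ne_zero_of_mul hd)))) hg
  convert this using 1
  rw [eq_inv_mul_iff_mul_eq]
  apply ext2 <;> simp [mul_apply', dg, yr, h]
  field_simp [right_ne_zero_of_mul hd]

/-- The upper or the lower root group. -/
def HasRoot (K : Subgroup (GL (Fin 2) F)) : Prop := (∀ γ, xr γ ∈ K) ∨ ∀ γ, yr γ ∈ K

omit hK in
/-- Not diagonal and not anti-diagonal. -/
def Mixed (g : GL (Fin 2) F) : Prop := ¬ Diag g ∧ ¬ Anti g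

/-- Two elements with a vanishing entry in opposite corners. -/
theorem root_of_pair (h2 : (2 : F) ≠ 0) {g h : GL (Fin 2) F} (hg : g ∈ K) (hh : h ∈ K) (hg0 : g.1 0 0 = 0) (hg1 : g.1 1 1 ≠ 0)
    (hh1 : h.1 1 1 = 0) (hh0 : h.1 0 0 ≠ 0) : HasRoot K := by
  classical
  have hgd := det_ne g
  have hhd := det_ne h
  rw [hg0, zero_mul, zero_sub, neg_ne_zero] at hgd
  rw [hh1, mul_zero, zero_sub, neg_ne_zero] at hhd
  by_cases hall : g.1 1 0 * h.1 0 0 + g.1 1 1 * h.1 1 0 = 0
  · refine Or.inr (root_of_lower hK (g := g * dg 1 (-1) * h)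
      (mul_mem (mul_mem hg (hK _ _)) hh) (by simp [mul_apply', dg, hg0, hh1]) ?_)
    simp [mul_apply', dg, hg0]
    intro e
    exact mul_ne_zero h2 (mul_ne_zero (right_ne_zero_of_mul hgd) hh0) (by linear_combination hall + e)
  · exact Or.inr (root_of_lower hK (g := g * h) (mul_mem hg hh) (by simp [mul_apply', hg0, hh1])
      (by simpa [mul_apply'] using hall))

/-- One vanishing entry. -/
theorem root_of_zero (h2 : (2 : F) ≠ 0) {g : GL (Fin 2) F} (hg : g ∈ K) (hm : Mixed g)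
    (h : g.1 0 0 = 0 ∨ g.1 0 1 = 0 ∨ g.1 1 0 = 0 ∨ g.1 1 1 = 0) : HasRoot K := by
  rcases eq_or_ne (g.1 0 1) 0 with hb | hb
  · exact Or.inr (root_of_lower hK hg hb fun hc => hm.1 ⟨hb, hc⟩)
  rcases eq_or_ne (g.1 1 0) 0 with hc | hc
  · exact Or.inl (root_of_upper hK hg hc hb)
  -- a vanishing diagonal entry: squaring with a torus element makes the opposite one vanish
  rcases eq_or_ne (g.1 0 0) 0 with ha | ha
  · have hd : g.1 1 1 ≠ 0 := fun hd => hm.2 ⟨ha, hd⟩
    let x : Fˣ := Units.mk0 (-(g.1 1 1 * g.1 1 1) / (g.1 0 1 * g.1 1 0))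
      (div_ne_zero (neg_ne_zero.mpr (mul_ne_zero hd hd)) (mul_ne_zero hb hc))
    refine root_of_pair hK h2 hg (h := g * dg x 1 * g) (mul_mem (mul_mem hg (hK x 1)) hg) ha hd ?_ ?_
    · simp [mul_apply', dg, x, ha]
      field_simp
      ring
    · simp [mul_apply', dg, x, ha, hb, hc]
  · have hd : g.1 1 1 = 0 := by
      rcases h with h | h | h | h <;> first | exact h | contradiction
    let x : Fˣ := Units.mk0 (-(g.1 0 0 * g.1 0 0) / (g.1 0 1 * g.1 1 0))
      (div_ne_zero (neg_ne_zero.mpr (mul_ne_zero ha ha)) (mul_ne_zero hb hc))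
    refine root_of_pair hK h2 (g := g * dg 1 x * g) (h := g) (mul_mem (mul_mem hg (hK 1 x)) hg) hg ?_ ?_ hd ha
    · simp [mul_apply', dg, x, hd]
      field_simp
      ring
    · simp [mul_apply', dg, x, hd, hb, hc]

/-- The invariant `ad/bc` different from `-1`. -/
theorem root_of_generic (h2 : (2 : F) ≠ 0) {g : GL (Fin 2) F} (hg : g ∈ K) (hm : Mixed g)
    (hr : g.1 0 0 * g.1 1 1 + g.1 0 1 * g.1 1 0 ≠ 0) : HasRoot K := by
  by_cases hz : g.1 0 0 = 0 ∨ g.1 0 1 = 0 ∨ g.1 1 0 = 0 ∨ g.1 1 1 = 0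
  · exact root_of_zero hK h2 hg hm hz
  simp only [not_or] at hz
  obtain ⟨ha, hb, hc, hd⟩ := hz
  have hdet := det_ne g
  let x : Fˣ := Units.mk0 (-(g.1 0 1 * g.1 1 0) / (g.1 0 0 * g.1 0 0))
    (div_ne_zero (neg_ne_zero.mpr (mul_ne_zero hb hc)) (mul_ne_zero ha ha))
  refine root_of_zero hK h2 (g := g * dg x 1 * g) (mul_mem (mul_mem hg (hK x 1)) hg) ⟨?_, ?_⟩ (Or.inl ?_)
  · rintro ⟨e, -⟩
    simp [mul_apply', dg, x] at e
    field_simp at e
    exact mul_ne_zero hb hdet (by linear_combination e)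
  · rintro ⟨-, e⟩
    simp [mul_apply', dg, x] at e
    field_simp at e
    exact mul_ne_zero hdet hr (by linear_combination e)
  · simp [mul_apply', dg, x]
    field_simp
    ring

/-- For more than five elements every mixed element gives a root group. -/
theorem root_of_mixed [Fintype F] (h2 : (2 : F) ≠ 0) (hq : 7 ≤ Fintype.card F) {g : GL (Fin 2) F} (hg : g ∈ K)
    (hm : Mixed g) : HasRoot K := by
  classical
  by_cases hr : g.1 0 0 * g.1 1 1 + g.1 0 1 * g.1 1 0 ≠ 0
  · exact root_of_generic hK h2 hg hm hr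
  rw [not_not] at hr
  by_cases hz : g.1 0 0 = 0 ∨ g.1 0 1 = 0 ∨ g.1 1 0 = 0 ∨ g.1 1 1 = 0
  · exact root_of_zero hK h2 hg hm hz
  simp only [not_or] at hz
  obtain ⟨ha, hb, hc, hd⟩ := hz
  -- some `s` outside `{0, 1, -1, i, -i}`
  obtain ⟨s, hs, hs2, hs4⟩ : ∃ s : F, s ≠ 0 ∧ s * s ≠ 1 ∧ s * s ≠ -1 := by
    by_contra hcon
    push Not at hcon
    have hall : ∀ s : F, s ^ 5 - s = 0 := fun s => by
      rcases eq_or_ne s 0 with rfl | hs
      · ring
      by_cases h1 : s * s = 1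
      · linear_combination (s * (s * s + 1)) * h1
      · linear_combination (s * (s * s - 1)) * hcon s hs h1
    have hdeg : (Polynomial.X ^ 5 - Polynomial.X : Polynomial F).natDegree = 5 := by compute_degree!
    have := Polynomial.card_roots' (Polynomial.X ^ 5 - Polynomial.X : Polynomial F)
    have hle : Fintype.card F ≤ (Polynomial.X ^ 5 - Polynomial.X : Polynomial F).roots.card := by
      have hne : (Polynomial.X ^ 5 - Polynomial.X : Polynomial F) ≠ 0 := fun e => by simp [e] at hdeg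
      calc Fintype.card F = (Finset.univ : Finset F).card := Finset.card_univ.symm
        _ ≤ (Polynomial.X ^ 5 - Polynomial.X : Polynomial F).roots.toFinset.card := Finset.card_le_card fun s _ => by
            simp [Polynomial.mem_roots hne, hall s]
        _ ≤ _ := Multiset.toFinset_card_le _
    omega
  -- the torus element with `(1 + d) / (1 - d) = s`
  have hs1 : s + 1 ≠ 0 := fun e => hs2 (by linear_combination (s - 1) * e)
  have hs1' : s - 1 ≠ 0 := fun e => hs2 (by linear_combination (s + 1) * e)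
  let y : Fˣ := Units.mk0 ((s - 1) * g.1 0 0 * g.1 0 0 / ((s + 1) * (g.1 0 1 * g.1 1 0)))
    (div_ne_zero (mul_ne_zero (mul_ne_zero hs1' ha) ha) (mul_ne_zero hs1 (mul_ne_zero hb hc)))
  have hd' : g.1 1 1 = -(g.1 0 1 * g.1 1 0) / g.1 0 0 := by field_simp; linear_combination hr
  have e00 : (g * dg 1 y * g).1 0 0 = g.1 0 0 * g.1 0 0 * (2 * s) / (s + 1) := by
    simp [mul_apply', dg, y]; field_simp; ring
  have e01 : (g * dg 1 y * g).1 0 1 = g.1 0 0 * g.1 0 1 * 2 / (s + 1) := by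
    simp [mul_apply', dg, y]; rw [hd']; field_simp; ring
  have e10 : (g * dg 1 y * g).1 1 0 = g.1 0 0 * g.1 1 0 * 2 / (s + 1) := by
    simp [mul_apply', dg, y]; rw [hd']; field_simp; ring
  have e11 : (g * dg 1 y * g).1 1 1 = g.1 0 1 * g.1 1 0 * (2 * s) / (s + 1) := by
    simp [mul_apply', dg, y]; rw [hd']; field_simp; ring
  refine root_of_generic hK h2 (g := g * dg 1 y * g) (mul_mem (mul_mem hg (hK 1 y)) hg) ⟨?_, ?_⟩ ?_
  · rintro ⟨e, -⟩; rw [e01] at e; simp [ha, hb, h2, hs1] at e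
  · rintro ⟨e, -⟩; rw [e00] at e; simp [ha, hs, h2, hs1] at e
  · rw [e00, e01, e10, e11]
    intro e
    field_simp at e
    exact mul_ne_zero (mul_ne_zero (mul_ne_zero ha ha) (mul_ne_zero hb hc)) (mul_ne_zero h2 h2)
      (mul_right_cancel₀ (show s * s + 1 ≠ 0 from fun e' => hs4 (by linear_combination e')) (by linear_combination e))

end Overgroup

theorem card_units_ge [Fintype F] (h3 : 3 ≤ Fintype.card F) : ∃ c : Fˣ, c ≠ 1 := by
  classical
  haveI : Nontrivial Fˣ := Fintype.one_lt_card_iff_nontrivial.mp (by rw [Fintype.card_units]; omega)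
  exact exists_ne 1

theorem anti_sq {h : GL (Fin 2) F} (ha : Anti h) : Diag (h * h) := by
  simp [Diag, mul_apply', ha.1, ha.2]

/-- An element of odd order with diagonal square is diagonal. -/
theorem diag_of_sq {D : Subgroup (GL (Fin 2) F)} (hD : Odd (Nat.card D)) {h : GL (Fin 2) F} (hh : h ∈ D)
    (h2 : Diag (h * h)) : Diag h := by
  obtain ⟨k, hk⟩ := hD.of_dvd_nat (Subgroup.orderOf_dvd_natCard _ hh)
  have key : ∀ j : ℕ, Diag ((h * h) ^ j) := fun j => by
    induction j with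
    | zero => simp [Diag]
    | succ j ih =>
      obtain ⟨a, b, e⟩ := eq_dg ih
      obtain ⟨c, d, e'⟩ := eq_dg h2
      rw [pow_succ, e, e', dg_mul]
      exact diag_dg _ _
  have : (h * h) ^ (k + 1) = h := by
    rw [← pow_two, ← pow_mul, show 2 * (k + 1) = orderOf h + 1 by omega, pow_succ, pow_orderOf_eq_one, one_mul]
  exact this ▸ key (k + 1)

theorem not_anti_diag {h : GL (Fin 2) F} (ha : Anti h) : ¬ Diag h := fun hd => det_ne h (by
  rw [ha.1, hd.1, zero_mul, zero_mul, sub_zero])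

section OddNormalised

variable {D : Subgroup (GL (Fin 2) F)} (hD : Odd (Nat.card D))
  (hn : ∀ a b : Fˣ, ∀ g ∈ D, dg a b * g * (dg a b)⁻¹ ∈ D)
include hn

theorem xr_in_of_upper [Fintype F] (h3 : 3 ≤ Fintype.card F) {g : GL (Fin 2) F} (hg : g ∈ D) (h : g.1 1 0 = 0)
    (hb : g.1 0 1 ≠ 0) (γ : F) : xr γ ∈ D := by
  obtain ⟨c, hc⟩ := card_units_ge h3
  obtain ⟨a, b, e⟩ := tri_cases h
  set β := g.1 0 1 / g.1 0 0 with hβ
  have hd := det_ne g
  rw [h, mul_zero, sub_zero] at hd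
  have hβ0 : β ≠ 0 := div_ne_zero hb (left_ne_zero_of_mul hd)
  have h1 : g⁻¹ * (dg c 1 * g * (dg c 1)⁻¹) ∈ D := mul_mem (inv_mem hg) (hn c 1 g hg)
  have e1 : dg c 1 * g * (dg c 1)⁻¹ = dg a b * xr ((c : F) * β) := by
    rw [e, show dg c 1 * (dg a b * xr β) * (dg c 1)⁻¹ = dg c 1 * dg a b * (dg c 1)⁻¹ *
      (dg c 1 * xr β * (dg c 1)⁻¹) by group, dg_conj_xr, dg_inv, dg_mul, dg_mul]
    simp [mul_comm c a]
  have hneg : (xr β)⁻¹ = xr (-β) := inv_eq_of_mul_eq_one_right (by rw [xr_add, add_neg_cancel, xr_zero])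
  rw [e1, e, _root_.mul_inv_rev, mul_assoc, inv_mul_cancel_left, hneg, xr_add] at h1
  have hδ : -β + (c : F) * β ≠ 0 := by
    intro e2
    exact hc (Units.ext (mul_right_cancel₀ hβ0 (by rw [Units.val_one]; linear_combination e2)))
  rcases eq_or_ne γ 0 with rfl | hγ
  · rw [xr_zero]; exact one_mem D
  have h2 := hn (Units.mk0 _ (div_ne_zero hγ hδ)) 1 _ h1
  rwa [dg_conj_xr, Units.val_mk0, Units.val_one, inv_one, mul_one, div_mul_cancel₀ _ hδ] at h2

theorem ww_conj_norm : ∀ a b : Fˣ, ∀ g ∈ D.map (MulAut.conj (ww : GL (Fin 2) F)).toMonoidHom,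
    dg a b * g * (dg a b)⁻¹ ∈ D.map (MulAut.conj (ww : GL (Fin 2) F)).toMonoidHom := by
  rintro a b _ ⟨g, hg, rfl⟩
  refine ⟨dg b a * g * (dg b a)⁻¹, hn b a g hg, ?_⟩
  show ww * (dg b a * g * (dg b a)⁻¹) * ww⁻¹ = dg a b * (ww * g * ww⁻¹) * (dg a b)⁻¹
  rw [← ww_conj_dg b a]
  group

omit hn in
theorem ww_conj_entries (g : GL (Fin 2) F) : (ww * g * ww⁻¹).1 1 0 = g.1 0 1 ∧ (ww * g * ww⁻¹).1 0 1 = g.1 1 0 := by
  rw [show (ww : GL (Fin 2) F)⁻¹ = ww from inv_eq_of_mul_eq_one_right ww_mul_self]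
  constructor <;> simp [mul_apply', ww]

omit hn in
include hD in
theorem no_lower_with_xr (hx : ∀ γ, xr γ ∈ D) {g : GL (Fin 2) F} (hg : g ∈ D) : g.1 1 0 = 0 := by
  by_contra hc
  have hh : xr (-(g.1 0 0 / g.1 1 0)) * g * xr (-(g.1 1 1 / g.1 1 0)) ∈ D := mul_mem (mul_mem (hx _) hg) (hx _)
  have ha : Anti (xr (-(g.1 0 0 / g.1 1 0)) * g * xr (-(g.1 1 1 / g.1 1 0))) := by
    constructor <;> simp [mul_apply', xr] <;> field_simp <;> ring
  exact not_anti_diag ha (diag_of_sq hD hh (anti_sq ha))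

include hD in
/-- A subgroup of odd order normalised by the torus is triangular. -/
theorem odd_normalised [Fintype F] (h2 : (2 : F) ≠ 0) (h3 : 3 ≤ Fintype.card F) :
    (∀ g ∈ D, g.1 1 0 = 0) ∨ ∀ g ∈ D, g.1 0 1 = 0 := by
  classical
  by_cases hu : ∃ g ∈ D, g.1 1 0 = 0 ∧ g.1 0 1 ≠ 0
  · obtain ⟨g, hg, h, hb⟩ := hu
    exact Or.inl fun k hk => no_lower_with_xr hD (xr_in_of_upper hn h3 hg h hb) hk
  by_cases hl : ∃ g ∈ D, g.1 0 1 = 0 ∧ g.1 1 0 ≠ 0
  · obtain ⟨g, hg, h, hb⟩ := hl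
    refine Or.inr fun k hk => ?_
    have hoddD : Odd (Nat.card (D.map (MulAut.conj (ww : GL (Fin 2) F)).toMonoidHom)) :=
      hD.of_dvd_nat (Subgroup.card_map_dvd _ _)
    rw [← (ww_conj_entries k).1]
    refine no_lower_with_xr hoddD (xr_in_of_upper (ww_conj_norm hn) h3
      (Subgroup.mem_map_of_mem (MulAut.conj (ww : GL (Fin 2) F)).toMonoidHom hg) ?_ ?_) ⟨k, hk, rfl⟩
    · exact (ww_conj_entries g).1.trans h
    · exact fun e => hb ((ww_conj_entries g).2.symm.trans e)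
  push Not at hu hl
  refine Or.inl fun g hg => ?_
  by_contra hc
  have hb : g.1 0 1 ≠ 0 := fun e => hc (hl g hg e)
  -- the products with the torus form a group containing it
  let Δ : Subgroup (GL (Fin 2) F) :=
    { carrier := {m | Diag m}
      one_mem' := by simp [Diag]
      mul_mem' := fun {x y} hx hy => by simp [Diag, mul_apply', hx.1, hx.2, hy.1, hy.2]
      inv_mem' := fun {x} hx => by
        obtain ⟨a, b, rfl⟩ := eq_dg hx
        rw [dg_inv]; exact diag_dg _ _ }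
  have hΔ : Δ ≤ Subgroup.normalizer (D : Set (GL (Fin 2) F)) := fun m hm =>
    Subgroup.mem_normalizer_fintype fun x hx => by
      obtain ⟨a, b, rfl⟩ := eq_dg hm
      exact hn a b x hx
  have hK : ∀ a b : Fˣ, dg a b ∈ D ⊔ Δ := fun a b => Subgroup.mem_sup_right (diag_dg a b)
  have hsplit : ∀ m ∈ D ⊔ Δ, ∃ x ∈ D, ∃ y ∈ Δ, m = x * y := fun m hm => by
    rw [← SetLike.mem_coe, Subgroup.coe_mul_of_right_le_normalizer_left _ _ hΔ] at hm
    obtain ⟨x, hx, y, hy, rfl⟩ := Set.mem_mul.mp hm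
    exact ⟨x, hx, y, hy, rfl⟩
  have hnoroot : ¬ HasRoot (D ⊔ Δ) := by
    rintro (h | h)
    · obtain ⟨x, hx, y, hy, e⟩ := hsplit _ (h 1)
      obtain ⟨a, b, rfl⟩ := eq_dg hy
      have hx' : x = xr 1 * (dg a b)⁻¹ := by rw [e, mul_inv_cancel_right]
      have h10 : x.1 1 0 = 0 := by rw [hx', dg_inv]; simp [mul_apply', xr, dg]
      refine (by rw [hx', dg_inv]; simp [mul_apply', xr, dg] : x.1 0 1 ≠ 0) (hu x hx h10)
    · obtain ⟨x, hx, y, hy, e⟩ := hsplit _ (h 1)
      obtain ⟨a, b, rfl⟩ := eq_dg hy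
      have hx' : x = yr 1 * (dg a b)⁻¹ := by rw [e, mul_inv_cancel_right]
      have h10 : x.1 0 1 = 0 := by rw [hx', dg_inv]; simp [mul_apply', yr, dg]
      refine (by rw [hx', dg_inv]; simp [mul_apply', yr, dg] : x.1 1 0 ≠ 0) (hl x hx h10)
  have hm : Mixed g := ⟨fun h => hc h.2, fun h => not_anti_diag h (diag_of_sq hD hg (anti_sq h))⟩
  have hg' : g ∈ D ⊔ Δ := Subgroup.mem_sup_left hg
  have hr : g.1 0 0 * g.1 1 1 + g.1 0 1 * g.1 1 0 = 0 := by
    by_contra h
    exact hnoroot (root_of_generic hK h2 hg' hm h)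
  by_cases hz : g.1 0 0 = 0 ∨ g.1 0 1 = 0 ∨ g.1 1 0 = 0 ∨ g.1 1 1 = 0
  · exact hnoroot (root_of_zero hK h2 hg' hm hz)
  simp only [not_or] at hz
  obtain ⟨ha, -, -, hd⟩ := hz
  -- the product with a conjugate is anti-diagonal
  let l : Fˣ := Units.mk0 (g.1 1 1 / g.1 0 0) (div_ne_zero hd ha)
  have hh : g * (dg l 1 * g * (dg l 1)⁻¹) ∈ D := mul_mem hg (hn l 1 g hg)
  have hanti : Anti (g * (dg l 1 * g * (dg l 1)⁻¹)) := by
    rw [dg_inv]
    constructor <;> simp [mul_apply', dg, l] <;> field_simp <;>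
      first | (linear_combination hr) | (linear_combination (g.1 1 1) * hr) | (linear_combination (g.1 0 0) * hr)
  exact not_anti_diag hanti (diag_of_sq hD hh (anti_sq hanti))

end OddNormalised

section Overgroup2

variable {K : Subgroup (GL (Fin 2) F)} (hK : ∀ a b : Fˣ, dg a b ∈ K)
include hK

/-- A unipotent element gives a root group. -/
theorem root_of_unipotent [Fintype F] (h2 : (2 : F) ≠ 0) {g : GL (Fin 2) F} (hg : g ∈ K) (h1 : g ≠ 1)
    (ht : g.1 0 0 + g.1 1 1 = 2) (hdet : g.1 0 0 * g.1 1 1 - g.1 0 1 * g.1 1 0 = 1) : HasRoot K := by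
  classical
  have hm : Mixed g := by
    refine ⟨fun h => h1 ?_, fun h => h2 (by linear_combination h.1 + h.2 - ht)⟩
    have ha : g.1 0 0 = 1 := by
      have : (g.1 0 0 - 1) * (g.1 0 0 - 1) = 0 := by
        linear_combination g.1 0 0 * ht - hdet - g.1 1 0 * h.1
      exact sub_eq_zero.mp (mul_self_eq_zero.mp this)
    apply ext2 <;> simp [ha, h.1, h.2]
    linear_combination ht - ha
  by_cases hr : g.1 0 0 * g.1 1 1 + g.1 0 1 * g.1 1 0 ≠ 0
  · exact root_of_generic hK h2 hg hm hr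
  rw [not_not] at hr
  refine root_of_mixed hK h2 ?_ hg hm
  by_contra hq
  -- here `2 * s * s = 1`, impossible over three and five elements
  set s := g.1 0 0 - 1 with hs
  have hs1 : 2 * (s * s) = 1 := by
    rw [hs]; linear_combination 2 * g.1 0 0 * ht - hdet - hr
  have hs0 : s ≠ 0 := fun e => by rw [e, mul_zero, mul_zero] at hs1; exact zero_ne_one hs1
  have hpow := FiniteField.pow_card_sub_one_eq_one s hs0
  have hcard : (Fintype.card F : F) = 0 := FiniteField.cast_card_eq_zero F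
  have h2' : 2 ≤ Fintype.card F := Fintype.one_lt_card
  have h6 : Fintype.card F ≠ 6 := fun e => by
    obtain ⟨r, k, hr, hk, e'⟩ := (isPrimePow_nat_iff _).mp (FiniteField.isPrimePow_card F)
    rw [e] at e'
    have h2r : 2 ∣ r := Nat.prime_two.dvd_of_dvd_pow (n := k) (by rw [e']; norm_num)
    have h3r : 3 ∣ r := Nat.prime_three.dvd_of_dvd_pow (n := k) (by rw [e']; norm_num)
    have := (Nat.prime_dvd_prime_iff_eq Nat.prime_two hr).mp h2r
    have := (Nat.prime_dvd_prime_iff_eq Nat.prime_three hr).mp h3r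
    omega
  interval_cases hc : Fintype.card F
  · exact h2 (by simpa using hcard)
  · norm_num at hpow
    rcases hpow with e | e <;> rw [e] at hs1 <;> exact one_ne_zero (show (1 : F) = 0 by linear_combination hs1)
  · exact h2 (mul_self_eq_zero.mp (by norm_num at hcard ⊢; linear_combination hcard))
  · norm_num at hpow hcard
    exact h2 (by linear_combination hcard + (4 : F) * hpow - ((2 : F) * (s * s) + 1) * hs1)
  · exact h6 rfl

/-- A subgroup with the torus, an upper root group and a non-triangular element is everything. -/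
theorem eq_top_of_borel (hx : ∀ γ, xr γ ∈ K) {g : GL (Fin 2) F} (hg : g ∈ K) (hc : g.1 1 0 ≠ 0) : K = ⊤ := by
  have key : ∀ m : GL (Fin 2) F, m.1 1 0 ≠ 0 →
      Anti ((xr (m.1 0 0 / m.1 1 0))⁻¹ * m * (xr (m.1 1 1 / m.1 1 0))⁻¹) := by
    intro m hm
    have hi : ∀ β : F, (xr β)⁻¹ = xr (-β) := fun β =>
      inv_eq_of_mul_eq_one_right (by rw [xr_add, add_neg_cancel, xr_zero])
    rw [hi, hi]
    constructor <;> simp [mul_apply', xr] <;> field_simp <;> ring
  have ha := key g hc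
  set h := (xr (g.1 0 0 / g.1 1 0))⁻¹ * g * (xr (g.1 1 1 / g.1 1 0))⁻¹ with hh'
  have hh : h ∈ K := mul_mem (mul_mem (inv_mem (hx _)) hg) (inv_mem (hx _))
  have hanti : ∀ k : GL (Fin 2) F, Anti k → k ∈ K := fun k hk => by
    have hd : Diag (k * h⁻¹) := by
      have e1 : k = k * h⁻¹ * h := by group
      have h10 := entry e1 0 0
      have h11 := entry e1 1 1
      rw [mul_apply', hk.1, ha.1, mul_zero, zero_add] at h10
      rw [mul_apply', hk.2, ha.2, mul_zero, add_zero] at h11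
      have hdh := det_ne h
      rw [ha.1, zero_mul, zero_sub, neg_ne_zero] at hdh
      exact ⟨(mul_eq_zero.mp h10.symm).resolve_right (right_ne_zero_of_mul hdh),
        (mul_eq_zero.mp h11.symm).resolve_right (left_ne_zero_of_mul hdh)⟩
    obtain ⟨a, b, e'⟩ := eq_dg hd
    rw [show k = k * h⁻¹ * h by group, e']
    exact mul_mem (hK a b) hh
  refine eq_top_iff.mpr fun m _ => ?_
  by_cases hm : m.1 1 0 = 0
  · obtain ⟨a, b, e'⟩ := tri_cases hm
    rw [e']; exact mul_mem (hK a b) (hx _)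
  · have h' := mul_mem (mul_mem (hx (m.1 0 0 / m.1 1 0)) (hanti _ (key m hm))) (hx (m.1 1 1 / m.1 1 0))
    convert h' using 1
    group

end Overgroup2

/-- The automorphism fixing the upper root group and exchanging the two noncentral diagonal involutions. -/
noncomputable def alpha : GL (Fin 2) F →* GL (Fin 2) F where
  toFun g := dg (Matrix.GeneralLinearGroup.det g)⁻¹ (Matrix.GeneralLinearGroup.det g)⁻¹ * (dg 1 (-1) * g * dg 1 (-1))
  map_one' := by simp [dg_mul, dg_one]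
  map_mul' g h := by
    have hu : dg (1 : Fˣ) (-1) * dg 1 (-1) = 1 := by rw [dg_mul]; simp [dg_one]
    have hc : ∀ (a : Fˣ) (x : GL (Fin 2) F), x * dg a a = dg a a * x := fun a x =>
      Subgroup.mem_center_iff.mp (scalar_central a) x
    rw [map_mul, mul_inv, ← dg_mul]
    set A := dg (Matrix.GeneralLinearGroup.det g)⁻¹ (Matrix.GeneralLinearGroup.det g)⁻¹
    set B := dg (Matrix.GeneralLinearGroup.det h)⁻¹ (Matrix.GeneralLinearGroup.det h)⁻¹
    set u := dg (1 : Fˣ) (-1)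
    have hB : (u * g * u) * B = B * (u * g * u) := hc _ _
    calc A * B * (u * (g * h) * u) = A * (B * (u * g * u)) * (u * h * u) := by
          rw [show A * (B * (u * g * u)) * (u * h * u) = A * B * (u * (g * (u * u) * h) * u) by group, hu, mul_one]
      _ = _ := by rw [← hB]; group

theorem alpha_dg (a b : Fˣ) : alpha (dg a b) = dg b⁻¹ a⁻¹ := by
  have hdet : Matrix.GeneralLinearGroup.det (dg a b) = a * b := Units.ext (by simp [dg, Matrix.det_fin_two])
  show dg _ _ * (dg 1 (-1) * dg a b * dg 1 (-1)) = _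
  rw [hdet, dg_mul, dg_mul, dg_mul]
  congr 1 <;> simp [mul_comm a b, mul_assoc, mul_left_comm]

theorem alpha_xr (β : F) : alpha (xr β) = xr (-β) := by
  have hdet : Matrix.GeneralLinearGroup.det (xr β) = 1 := Units.ext (by simp [xr, Matrix.det_fin_two])
  show dg _ _ * (dg 1 (-1) * xr β * dg 1 (-1)) = _
  rw [hdet, inv_one, dg_one, one_mul]
  apply ext2 <;> simp [mul_apply', dg, xr]

end CfsgLib.GL2Cent
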