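import Cfsg.Agent.Lib.GL2Cent.NoFusionBSW
import Mathlib.LinearAlgebra.FiniteDimensional.Lemmas
import Mathlib.LinearAlgebra.Matrix.ToLinearEquiv

/-!
The linear configuration at a prime dividing `q + 1` does not occur: the abelian subgroup inverted by the involution
fixes a line and a hyperplane compatible with the torus, and then it cannot generate with the centraliser of the
involution.
-/

set_option autoImplicit false
set_option linter.unusedSectionVars false
set_option linter.unusedSimpArgs false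

namespace CfsgLib.GL2Cent

open Matrix

universe u v

namespace Lin3

variable {K : Type v} [Field K] {L : Type u} [Group L] [Finite L] (H : Lin3 K L)

/-- The properties of the subgroup given by the theorem of Brauer, Suzuki and Wall. -/
structure Data (Q : Subgroup L) : Prop where
  le : ∀ a ∈ Q, H.χ a = 1
  ne : Q ≠ ⊥
  odd : Odd (Nat.card Q)
  comm : ∀ a ∈ Q, ∀ b ∈ Q, a * b = b * a
  inv : ∀ a ∈ Q, H.t * a * H.t = a⁻¹
  ex : ∃ x ∈ H.T, H.χ x = 1 ∧ x * x ≠ 1 ∧ ∀ a ∈ Q, x * a * x⁻¹ ∈ Q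
  gen : ∀ N : Subgroup L, Q ≤ N → (∀ k, H.χ k = 1 → k * H.t = H.t * k → k ∈ N) → ∀ k, H.χ k = 1 → k ∈ N

/-- The dual configuration. -/
def dual : Lin3 K L where
  φ := MonoidHom.toHomUnits
    { toFun := fun g => (H.M g⁻¹)ᵀ
      map_one' := by simp [H.M_one]
      map_mul' := fun a b => by rw [_root_.mul_inv_rev, H.M_mul, Matrix.transpose_mul] }
  inj := fun a b h => by
    have e : (H.M a⁻¹)ᵀ = (H.M b⁻¹)ᵀ := congrArg Units.val h
    exact inv_injective (H.M_inj (Matrix.transpose_injective e))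
  two := H.two
  t := H.t
  s := H.s
  ρ := H.ρ
  T := H.T
  c := H.c
  hc := H.hc
  ht := by
    show (H.M H.t⁻¹)ᵀ = _
    rw [inv_eq_of_mul_eq_one_left H.t_sq, H.M_t, Matrix.diagonal_transpose]
  hs := by
    show (H.M H.s⁻¹)ᵀ = _
    rw [H.s_inv, H.M_s, Matrix.diagonal_transpose]
  comm := H.comm
  cent := H.cent
  fix0 := fun x hx => by
    show (H.M x⁻¹)ᵀ 0 0 = 1
    exact H.fix0 _ (inv_mem hx)
  mem := H.mem
  ρT := H.ρT
  sρ := H.sρ
  ρord := H.ρord
  exact2 := H.exact2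
  fused := H.fused

theorem M_dual (a : L) (i j : Fin 3) : H.dual.M a i j = H.M a⁻¹ j i := rfl

theorem χ_dual (a : L) : H.dual.χ a = 1 ↔ H.χ a = 1 := by
  have e : H.dual.χ a = H.χ a⁻¹ := by
    rw [H.dual.χ_eq, H.χ_eq, ← Matrix.det_transpose (H.M a⁻¹)]
    rfl
  rw [e]
  constructor <;> intro h
  · have h' := H.χ_inv h
    rwa [inv_inv, inv_one] at h'
  · rw [H.χ_inv h, inv_one]

variable {H}

theorem Data.dual {Q : Subgroup L} (D : H.Data Q) : H.dual.Data Q where
  le := fun a ha => (H.χ_dual a).mpr (D.le a ha)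
  ne := D.ne
  odd := D.odd
  comm := D.comm
  inv := D.inv
  ex := by
    obtain ⟨x, hx, h1, h2, h3⟩ := D.ex
    exact ⟨x, hx, (H.χ_dual x).mpr h1, h2, h3⟩
  gen := fun N hQ hC k hk => D.gen N hQ (fun k hk => hC k ((H.χ_dual k).mpr hk)) k ((H.χ_dual k).mp hk)

/-- `Q` moves the line `e₁`. -/
theorem Data.col {Q : Subgroup L} (D : H.Data Q) : ¬ ∀ a ∈ Q, H.M a 1 0 = 0 ∧ H.M a 2 0 = 0 := by
  intro hall
  have hmul : ∀ a b : L, (H.M a 1 0 = 0 ∧ H.M a 2 0 = 0) → (H.M b 1 0 = 0 ∧ H.M b 2 0 = 0) →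
      (H.M (a * b) 1 0 = 0 ∧ H.M (a * b) 2 0 = 0) := by
    rintro a b ⟨a1, a2⟩ ⟨b1, b2⟩
    rw [H.M_mul]
    simp [Matrix.mul_apply, Fin.sum_univ_three, a1, a2, b1, b2]
  let N0 : Submonoid L :=
    { carrier := {g | H.M g 1 0 = 0 ∧ H.M g 2 0 = 0}
      one_mem' := by simp [H.M_one]
      mul_mem' := fun {a b} => hmul a b }
  let N : Subgroup L :=
    { N0 with
      inv_mem' := fun {a} ha => by
        have hmem : a⁻¹ ∈ Submonoid.powers a := by
          rw [mem_powers_iff_mem_zpowers]; exact inv_mem (Subgroup.mem_zpowers a)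
        obtain ⟨i, hi⟩ := hmem
        show a⁻¹ ∈ N0
        rw [← show a ^ i = a⁻¹ from hi]
        exact pow_mem (show a ∈ N0 from ha) i }
  obtain ⟨g, hg, hgt⟩ := H.fused_L1
  have hgN : g ∈ N := D.gen N hall (fun k hk hkt => by
    rcases H.C1_cases (H.mem_L1.mpr hk) hkt with h | h
    · obtain ⟨-, -, -, h1, h2⟩ := H.T_shape h
      exact ⟨h1, h2⟩
    · obtain ⟨-, -, -, h1, h2⟩ := H.T_shape h.1
      rw [show k = k * H.s * H.s by rw [mul_assoc, H.s_sq, mul_one]]
      exact hmul _ _ ⟨h1, h2⟩ (by simp [H.M_s])) g (H.mem_L1.mp hg)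
  have hM : H.M g * H.M H.t = H.M H.s * H.M g := by
    rw [← H.M_mul, ← H.M_mul, ← hgt, inv_mul_cancel_right]
  have e00 := congrFun (congrFun hM 0) 0
  rw [H.M_t, H.M_s, Matrix.mul_diagonal, Matrix.diagonal_mul] at e00
  simp at e00
  have h00 : H.M g 0 0 = 0 := by_contra fun h => H.ne_neg h e00.symm
  have h1 := H.mem_L1.mp hg
  rw [H.χ_eq, Matrix.det_eq_zero_of_column_eq_zero 0 (fun i => by fin_cases i <;> simp [h00, hgN.1, hgN.2])] at h1
  exact zero_ne_one h1

/-- `Q` moves the hyperplane `W`. -/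
theorem Data.row {Q : Subgroup L} (D : H.Data Q) : ¬ ∀ a ∈ Q, H.M a 0 1 = 0 ∧ H.M a 0 2 = 0 := by
  intro hall
  refine D.dual.col fun a ha => ?_
  rw [M_dual, M_dual]
  exact hall _ (inv_mem ha)

/-- A common fixed vector in `W`. -/
theorem Data.fixed {Q : Subgroup L} (D : H.Data Q) : ∃ v w : K, ¬ (v = 0 ∧ w = 0) ∧
    ∀ a ∈ Q, H.M a *ᵥ ![0, v, w] = ![0, v, w] := by
  obtain ⟨⟨u, hu⟩, hu1⟩ := Subgroup.ne_bot_iff_exists_ne_one.mp D.ne
  have hu1' : u ≠ 1 := fun e => hu1 (Subtype.ext e)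
  set X : Matrix (Fin 3) (Fin 3) K := H.M u - 1 with hX
  have hX' : H.M u⁻¹ - 1 = -(H.M u⁻¹ * X) := by
    rw [hX, mul_sub, ← H.M_mul, inv_mul_cancel, H.M_one, mul_one, neg_sub]
  have htX : H.M H.t * X * H.M H.t = H.M u⁻¹ - 1 := by
    rw [hX, mul_sub, sub_mul, ← H.M_mul, ← H.M_mul, D.inv u hu, mul_one, ← H.M_mul, H.t_sq, H.M_one]
  have hdet : X.det = 0 := by
    have h := congrArg Matrix.det (htX.trans hX')
    rw [Matrix.det_mul, Matrix.det_mul, Matrix.det_neg, Matrix.det_mul, ← H.χ_eq H.t, ← H.χ_eq u⁻¹, H.χ_t,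
      D.le _ (inv_mem hu)] at h
    simp [Fintype.card_fin] at h
    have h' : (2 : K) * X.det = 0 := by linear_combination h
    exact (mul_eq_zero.mp h').resolve_left H.two
  have hcomm : ∀ a ∈ Q, X * H.M a = H.M a * X := fun a ha => by
    rw [hX, sub_mul, mul_sub, ← H.M_mul, ← H.M_mul, D.comm a ha u hu, one_mul, mul_one]
  set f := Matrix.toLin' X with hf
  obtain ⟨v, hv, hlineQ, hlinet⟩ : ∃ v : Fin 3 → K, v ≠ 0 ∧ (∀ a ∈ Q, ∃ c : K, H.M a *ᵥ v = c • v) ∧
      ∃ μ : K, H.M H.t *ᵥ v = μ • v := by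
    have hrn := LinearMap.finrank_range_add_finrank_ker f
    rw [Module.finrank_fin_fun] at hrn
    have hk0 : LinearMap.ker f ≠ ⊥ := by
      intro e
      obtain ⟨v, hv, hv0⟩ := Matrix.exists_mulVec_eq_zero_iff.mpr hdet
      exact hv ((Submodule.eq_bot_iff _).mp e v (by simpa [f] using hv0))
    have hr0 : LinearMap.range f ≠ ⊥ := by
      intro e
      have h0 : f = 0 := LinearMap.range_eq_bot.mp e
      have : X = 0 := Matrix.toLin'.injective (by simpa [f] using h0)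
      exact hu1' (H.M_inj (by rw [H.M_one]; exact sub_eq_zero.mp this))
    have hk1 : 0 < Module.finrank K (LinearMap.ker f) :=
      Nat.pos_of_ne_zero fun e => hk0 (Submodule.finrank_eq_zero.mp e)
    have hr1 : 0 < Module.finrank K (LinearMap.range f) :=
      Nat.pos_of_ne_zero fun e => hr0 (Submodule.finrank_eq_zero.mp e)
    rcases (show Module.finrank K (LinearMap.ker f) = 1 ∨ Module.finrank K (LinearMap.range f) = 1 by omega)
      with h | h
    · obtain ⟨⟨v, hv⟩, hv0, hall⟩ := finrank_eq_one_iff'.mp h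
      have hv' : X *ᵥ v = 0 := by simpa [f] using hv
      have hmem : ∀ z : Fin 3 → K, X *ᵥ z = 0 → ∃ c : K, z = c • v := fun z hz => by
        obtain ⟨c, hc⟩ := hall ⟨z, by simpa [f] using hz⟩
        exact ⟨c, (congrArg Subtype.val hc).symm⟩
      refine ⟨v, fun e => hv0 (Subtype.ext e), fun a ha => hmem _ ?_, hmem _ ?_⟩
      · rw [Matrix.mulVec_mulVec, hcomm a ha, ← Matrix.mulVec_mulVec, hv', Matrix.mulVec_zero]
      · have e : X * H.M H.t = H.M H.t * (H.M H.t * X * H.M H.t) := by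
          rw [← mul_assoc, ← mul_assoc, ← H.M_mul, H.t_sq, H.M_one, one_mul]
        rw [Matrix.mulVec_mulVec, e, htX, hX', ← Matrix.mulVec_mulVec, Matrix.neg_mulVec, ← Matrix.mulVec_mulVec,
          hv', Matrix.mulVec_zero, neg_zero, Matrix.mulVec_zero]
    · obtain ⟨⟨v, hv⟩, hv0, hall⟩ := finrank_eq_one_iff'.mp h
      obtain ⟨z, hz⟩ := hv
      have hz' : X *ᵥ z = v := by simpa [f] using hz
      have hmem : ∀ z : Fin 3 → K, ∃ c : K, X *ᵥ z = c • v := fun z => by
        obtain ⟨c, hc⟩ := hall ⟨X *ᵥ z, ⟨z, by simp [f]⟩⟩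
        exact ⟨c, (congrArg Subtype.val hc).symm⟩
      refine ⟨v, fun e => hv0 (Subtype.ext e), fun a ha => ?_, ?_⟩
      · rw [← hz', Matrix.mulVec_mulVec, ← hcomm a ha, ← Matrix.mulVec_mulVec, hz']
        exact hmem _
      · have e : H.M H.t * X = X * (-(H.M u⁻¹ * H.M H.t)) := by
          have h1 : H.M H.t * X = (H.M u⁻¹ - 1) * H.M H.t := by
            rw [← htX, mul_assoc, ← H.M_mul, H.t_sq, H.M_one, mul_one]
          rw [h1, hX', neg_mul, mul_neg, ← mul_assoc, hcomm _ (inv_mem hu), mul_assoc]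
        rw [← hz', Matrix.mulVec_mulVec, e, ← Matrix.mulVec_mulVec, hz']
        exact hmem _
  obtain ⟨μ, hμ⟩ := hlinet
  have hμ0 : μ ≠ 0 := by
    intro e
    rw [e, zero_smul] at hμ
    refine hv ?_
    have h2 := congrArg (H.M H.t *ᵥ ·) hμ
    simp only [Matrix.mulVec_mulVec, ← H.M_mul, H.t_sq, H.M_one, Matrix.one_mulVec, Matrix.mulVec_zero] at h2
    exact h2
  have hfix : ∀ a ∈ Q, H.M a *ᵥ v = v := fun a ha => by
    obtain ⟨c, hc⟩ := hlineQ a ha
    have h1 : H.M a⁻¹ *ᵥ (H.M H.t *ᵥ v) = H.M H.t *ᵥ (H.M a *ᵥ v) := by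
      rw [Matrix.mulVec_mulVec, Matrix.mulVec_mulVec, ← H.M_mul, ← H.M_mul, ← D.inv a ha, mul_assoc, H.t_sq, mul_one]
    rw [hc, Matrix.mulVec_smul, hμ, Matrix.mulVec_smul] at h1
    have h2 : H.M a⁻¹ *ᵥ v = c • v := by
      rw [smul_comm] at h1
      exact smul_right_injective _ hμ0 h1
    have h3 := congrArg (H.M a *ᵥ ·) h2
    simp only [Matrix.mulVec_mulVec, ← H.M_mul, mul_inv_cancel, H.M_one, Matrix.one_mulVec, Matrix.mulVec_smul,
      hc, smul_smul] at h3
    have h4 : c * c = 1 := by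
      refine smul_left_injective K hv ?_
      simp only [one_smul]
      exact h3.symm
    have h5 : ∀ n : ℕ, H.M (a ^ n) *ᵥ v = c ^ n • v := by
      intro n
      induction n with
      | zero => simp [H.M_one]
      | succ n ih =>
        rw [pow_succ, H.M_mul, ← Matrix.mulVec_mulVec, hc, Matrix.mulVec_smul, ih, smul_smul, pow_succ']
    obtain ⟨k, hk⟩ := D.odd
    have h6 := h5 (2 * k + 1)
    rw [← hk, orderOf_dvd_iff_pow_eq_one.mp (Subgroup.orderOf_dvd_natCard _ ha), H.M_one, Matrix.one_mulVec, hk,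
      pow_succ, pow_mul, pow_two, h4, one_pow, one_mul] at h6
    rw [hc, ← h6]
  have e0 := congrFun hμ 0
  have e1 := congrFun hμ 1
  have e2 := congrFun hμ 2
  rw [H.M_t, Matrix.mulVec_diagonal] at e0 e1 e2
  simp at e0 e1 e2
  have h0 : v 0 = 0 := by
    by_contra h0
    have hμ1 : μ = 1 := mul_right_cancel₀ h0 (by rw [one_mul]; exact e0.symm)
    rw [hμ1, one_mul] at e1 e2
    have h1 : v 1 = 0 := by_contra fun h => H.ne_neg h e1
    have h2 : v 2 = 0 := by_contra fun h => H.ne_neg h e2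
    refine D.col fun a ha => ?_
    have f1 := congrFun (hfix a ha) 1
    have f2 := congrFun (hfix a ha) 2
    simp [Matrix.mulVec, dotProduct, Fin.sum_univ_three, h1, h2, h0] at f1 f2
    exact ⟨f1, f2⟩
  have hvv : v = ![0, v 1, v 2] := funext fun i => by fin_cases i <;> simp [h0]
  refine ⟨v 1, v 2, fun h => hv ?_, fun a ha => by rw [← hvv]; exact hfix a ha⟩
  rw [hvv, h.1, h.2]
  funext i
  fin_cases i <;> simp

/-- The fixed line in the form `(0, 1, σ)`. -/
theorem Data.line {Q : Subgroup L} (D : H.Data Q) : ∃ σ : K, σ ≠ 0 ∧ H.b' = H.b * σ ^ 2 ∧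
    (∀ a ∈ Q, H.M a 0 1 + σ * H.M a 0 2 = 0 ∧ H.M a 1 1 + σ * H.M a 1 2 = 1 ∧ H.M a 2 1 + σ * H.M a 2 2 = σ) ∧
    ∀ v w : K, (∀ a ∈ Q, H.M a *ᵥ ![0, v, w] = ![0, v, w]) → w = σ * v := by
  obtain ⟨v, w, hvw, hfix⟩ := D.fixed
  have hline : ∀ v' w' : K, (∀ a ∈ Q, H.M a *ᵥ ![0, v', w'] = ![0, v', w']) → v * w' = v' * w := by
    intro v' w' hfix'
    by_contra hne
    refine D.row fun a ha => ?_
    have f := congrFun (hfix a ha) 0
    have f' := congrFun (hfix' a ha) 0
    simp [Matrix.mulVec, dotProduct, Fin.sum_univ_three] at f f'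
    have hd : v * w' - v' * w ≠ 0 := sub_ne_zero.mpr hne
    exact ⟨(mul_eq_zero.mp (show (v * w' - v' * w) * H.M a 0 1 = 0 by linear_combination w' * f - w * f')).resolve_left hd,
      (mul_eq_zero.mp (show (v * w' - v' * w) * H.M a 0 2 = 0 by linear_combination v * f' - v' * f)).resolve_left hd⟩
  obtain ⟨x, hxT, hx1, hx2, hxQ⟩ := D.ex
  obtain ⟨x00, x01, x02, x10, x20⟩ := H.T_shape hxT
  obtain ⟨hp, hq⟩ := H.T_block hxT
  obtain ⟨hb, hb'⟩ := H.b_ne
  set p := H.M x 1 1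
  set q := H.M x 1 2
  set q' := H.M x 2 1
  have himg : H.M x *ᵥ ![0, v, w] = ![0, p * v + q * w, q' * v + p * w] := by
    funext i
    fin_cases i <;> simp [Matrix.mulVec, dotProduct, Fin.sum_univ_three, x00, x01, x02, x10, x20, hp, p, q, q']
  have hfixed' : ∀ a ∈ Q, H.M a *ᵥ ![0, p * v + q * w, q' * v + p * w] = ![0, p * v + q * w, q' * v + p * w] := by
    intro a ha
    have hx' : x⁻¹ * a * x ∈ Q := by
      have hm : x ∈ Subgroup.normalizer (Q : Set L) := Subgroup.mem_normalizer_fintype hxQ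
      have := (Subgroup.mem_normalizer_iff.mp (inv_mem hm) a).mp ha
      rwa [inv_inv] at this
    rw [← himg, Matrix.mulVec_mulVec, ← H.M_mul, show a * x = x * (x⁻¹ * a * x) by group, H.M_mul,
      ← Matrix.mulVec_mulVec, hfix _ hx']
  have e := hline _ _ hfixed'
  have e' : q' * v ^ 2 = q * w ^ 2 := by linear_combination e
  have hq' : q' ≠ 0 := by
    intro h0
    rw [h0, mul_zero] at hq
    have hq0 : q = 0 := (mul_eq_zero.mp hq).resolve_right hb'
    refine hx2 (H.T_ext (mul_mem hxT hxT) (one_mem _) ?_ ?_ ?_ ?_)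
    all_goals first
      | (have := H.T_mul hxT hxT 0 0; simp [Fin.succ_zero_eq_one, Fin.succ_one_eq_two] at this; rw [this, H.M_one]
         have h1 := H.χ_T hxT; rw [hx1] at h1
         simp [p, q, q'] at hq0 h0 ⊢; simp [hq0, h0] at h1 ⊢; linear_combination -h1)
      | (have := H.T_mul hxT hxT 0 1; simp [Fin.succ_zero_eq_one, Fin.succ_one_eq_two] at this; rw [this, H.M_one]
         simp [p, q, q'] at hq0 h0 ⊢; simp [hq0, h0])
      | (have := H.T_mul hxT hxT 1 0; simp [Fin.succ_zero_eq_one, Fin.succ_one_eq_two] at this; rw [this, H.M_one]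
         simp [p, q, q'] at hq0 h0 ⊢; simp [hq0, h0])
      | (have := H.T_mul hxT hxT 1 1; simp [Fin.succ_zero_eq_one, Fin.succ_one_eq_two] at this; rw [this, H.M_one]
         have h1 := H.χ_T hxT; rw [hx1] at h1
         simp [p, q, q'] at hq0 h0 hp ⊢; simp [hq0, h0, hp] at h1 ⊢; linear_combination -h1)
  have e2 : H.b' * v ^ 2 = H.b * w ^ 2 := by
    refine mul_left_cancel₀ hq' ?_
    linear_combination H.b' * e' + w ^ 2 * hq
  have hv : v ≠ 0 := by
    intro h0
    refine hvw ⟨h0, ?_⟩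
    rw [h0] at e2
    have : H.b * w ^ 2 = 0 := by linear_combination -e2
    exact pow_eq_zero_iff (n := 2) two_ne_zero |>.mp ((mul_eq_zero.mp this).resolve_left hb)
  have hw : w ≠ 0 := by
    intro h0
    rw [h0] at e2
    have : H.b' * v ^ 2 = 0 := by linear_combination e2
    exact hv (pow_eq_zero_iff (n := 2) two_ne_zero |>.mp ((mul_eq_zero.mp this).resolve_left hb'))
  refine ⟨w / v, div_ne_zero hw hv, ?_, fun a ha => ?_, fun v' w' h' => ?_⟩
  · rw [div_pow, mul_div, eq_div_iff (pow_ne_zero _ hv)]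
    exact e2
  · have f0 := congrFun (hfix a ha) 0
    have f1 := congrFun (hfix a ha) 1
    have f2 := congrFun (hfix a ha) 2
    simp [Matrix.mulVec, dotProduct, Fin.sum_univ_three] at f0 f1 f2
    refine ⟨?_, ?_, ?_⟩ <;> field_simp
    · linear_combination f0
    · linear_combination f1
    · linear_combination f2
  · have := hline v' w' h'
    field_simp
    linear_combination this

variable (H)

include H in
/-- The configuration does not occur. -/
theorem false_of_fused : False := by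
  obtain ⟨Q, hQ1, hQne, hQodd, hQc, hQi, hx, ⟨y, hy, hyt, hyQ⟩, hgen⟩ := H.exists_Q
  have D : H.Data Q :=
    { le := fun a ha => H.mem_L1.mp (hQ1 ha)
      ne := hQne
      odd := hQodd
      comm := hQc
      inv := hQi
      ex := hx
      gen := fun N hN hC k hk => hgen N hN (fun k hk hkt => hC k (H.mem_L1.mp hk) hkt) (H.mem_L1.mpr hk) }
  obtain ⟨σ, hσ, hbσ, hcol, huniq⟩ := D.line
  obtain ⟨τ, hτ, hbτ, hrow', -⟩ := D.dual.line
  obtain ⟨hb, hb'⟩ := H.b_ne
  have hdb : H.dual.b = H.b' ∧ H.dual.b' = H.b := by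
    have e : H.ρ⁻¹ = H.s * H.ρ * H.s⁻¹ * H.t := by rw [H.sρ, mul_assoc, H.t_sq, mul_one]
    obtain ⟨-, -, e12, e21, -⟩ := H.sTs H.ρT
    have k : ∀ i j, H.M H.ρ⁻¹ i j = H.M (H.s * H.ρ * H.s⁻¹) i j * ![(1 : K), -1, -1] j := fun i j => by
      rw [e, H.M_mul, H.M_t, Matrix.mul_diagonal]
    refine ⟨?_, ?_⟩
    · show H.M H.ρ⁻¹ 2 1 = H.M H.ρ 2 1
      rw [k, e21]; simp
    · show H.M H.ρ⁻¹ 1 2 = H.M H.ρ 1 2
      rw [k, e12]; simp
  rw [hdb.1, hdb.2, hbσ] at hbτ
  have hστ : σ * τ = 1 ∨ σ * τ = -1 := by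
    refine mul_self_eq_one_iff.mp (mul_left_cancel₀ hb ?_)
    linear_combination -hbτ
  have hrow : ∀ a ∈ Q, H.M a 1 0 + τ * H.M a 2 0 = 0 ∧ H.M a 1 1 + τ * H.M a 2 1 = 1 ∧
      H.M a 1 2 + τ * H.M a 2 2 = τ := fun a ha => by
    have := hrow' a⁻¹ (inv_mem ha)
    simpa only [M_dual, inv_inv] using this
  have hblock : ∀ x ∈ H.T, H.M x 2 2 = H.M x 1 1 ∧ H.M x 2 1 = H.M x 1 2 * σ ^ 2 := fun x hx => by
    obtain ⟨h1, h2⟩ := H.T_block hx
    refine ⟨h1, mul_left_cancel₀ hb ?_⟩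
    rw [hbσ] at h2
    linear_combination -h2
  have hyn : ∀ a ∈ Q, y⁻¹ * a * y ∈ Q := fun a ha => by
    have hm : y ∈ Subgroup.normalizer (Q : Set L) := Subgroup.mem_normalizer_fintype hyQ
    have := (Subgroup.mem_normalizer_iff.mp (inv_mem hm) a).mp ha
    rwa [inv_inv] at this
  have hyT : y ∈ H.T := by
    refine (H.mem y hyt).resolve_right fun hz => ?_
    obtain ⟨z00, z01, z02, z10, z20⟩ := H.T_shape hz
    obtain ⟨hp, hq⟩ := hblock _ hz
    set p := H.M (y * H.s) 1 1 with hpdef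
    set q := H.M (y * H.s) 1 2 with hqdef
    have hMy : H.M y = H.M (y * H.s) * H.M H.s := by rw [← H.M_mul, mul_assoc, H.s_sq, mul_one]
    have himg : H.M y *ᵥ ![0, 1, σ] = ![0, p - q * σ, -(σ * (p - q * σ))] := by
      rw [hMy, H.M_s]
      funext i
      fin_cases i <;>
        simp [Matrix.mulVec, dotProduct, Fin.sum_univ_three, Matrix.mul_diagonal, z00, z01, z02, z10, z20, hp, hq,
          p, q] <;> ring
    have hfixed : ∀ a ∈ Q, H.M a *ᵥ ![0, p - q * σ, -(σ * (p - q * σ))] = ![0, p - q * σ, -(σ * (p - q * σ))] := by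
      intro a ha
      rw [← himg, Matrix.mulVec_mulVec, ← H.M_mul, show a * y = y * (y⁻¹ * a * y) by group, H.M_mul,
        ← Matrix.mulVec_mulVec]
      congr 1
      obtain ⟨c0, c1, c2⟩ := hcol _ (hyn a ha)
      funext i
      fin_cases i <;> simp [Matrix.mulVec, dotProduct, Fin.sum_univ_three]
      · linear_combination c0
      · linear_combination c1
      · linear_combination c2
    have e := huniq _ _ hfixed
    have e0 : p - q * σ = 0 :=
      (mul_eq_zero.mp (show (2 * σ) * (p - q * σ) = 0 by linear_combination -e)).resolve_left (mul_ne_zero H.two hσ)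
    have h1 : H.χ (y * H.s) = -1 := by rw [map_mul, hy, H.χ_s, mul_one]
    rw [H.χ_T hz, hq] at h1
    exact neg_ne_zero.mpr one_ne_zero (by linear_combination (p + q * σ) * e0 - h1)
  obtain ⟨y00, y01, y02, y10, y20⟩ := H.T_shape hyT
  obtain ⟨hp, hq⟩ := hblock _ hyT
  set p := H.M y 1 1 with hpdef
  set q := H.M y 1 2 with hqdef
  have hdet : p ^ 2 - q ^ 2 * σ ^ 2 = -1 := by
    have h1 := H.χ_T hyT
    rw [hy, hq] at h1
    linear_combination -h1
  have hp0 : p ≠ 0 := by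
    intro h0
    have hy2 : y * y = 1 := by
      have e11 := H.T_mul hyT hyT 0 0
      have e12 := H.T_mul hyT hyT 0 1
      have e21 := H.T_mul hyT hyT 1 0
      have e22 := H.T_mul hyT hyT 1 1
      simp only [Fin.succ_zero_eq_one, Fin.succ_one_eq_two, ← hpdef, ← hqdef, hp, hq, h0] at e11 e12 e21 e22
      rw [h0] at hdet
      refine H.T_ext (mul_mem hyT hyT) (one_mem _) ?_ ?_ ?_ ?_
      · rw [e11, H.M_one]; simp; linear_combination -hdet
      · rw [e12, H.M_one]; simp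
      · rw [e21, H.M_one]; simp
      · rw [e22, H.M_one]; simp; linear_combination -hdet
    have hy1 : y ≠ 1 := fun e => H.neg_one_ne (by rw [← hy, e, map_one])
    exact H.neg_one_ne (hy.symm.trans (H.χ_invol hy2 hy1))
  have hyi : y⁻¹ ∈ H.T := inv_mem hyT
  obtain ⟨i00, i01, i02, i10, i20⟩ := H.T_shape hyi
  have hinv : H.M y⁻¹ 1 1 = -p ∧ H.M y⁻¹ 1 2 = q ∧ H.M y⁻¹ 2 2 = -p := by
    obtain ⟨hP, hQ⟩ := hblock _ hyi
    have e11 := H.T_mul hyT hyi 0 0
    have e12 := H.T_mul hyT hyi 0 1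
    simp only [Fin.succ_zero_eq_one, Fin.succ_one_eq_two, ← hpdef, ← hqdef, hP, hQ, mul_inv_cancel, H.M_one] at e11 e12
    simp at e11 e12
    refine ⟨?_, ?_, ?_⟩
    · linear_combination p * e11 - q * σ ^ 2 * e12 + H.M y⁻¹ 1 1 * hdet
    · linear_combination p * e12 - q * e11 + H.M y⁻¹ 1 2 * hdet
    · rw [hP]; linear_combination p * e11 - q * σ ^ 2 * e12 + H.M y⁻¹ 1 1 * hdet
  have hBC : ∀ a ∈ Q, H.M a 0 2 * H.M a 2 0 = 0 := by
    intro a ha
    obtain ⟨a', ha'⟩ : ∃ a', a' = y * a * y⁻¹ := ⟨_, rfl⟩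
    have ha'Q : a' ∈ Q := ha' ▸ hyQ a ha
    obtain ⟨c0, c1, c2⟩ := hcol a ha
    obtain ⟨r0, r1, r2⟩ := hrow a ha
    obtain ⟨c0', c1', c2'⟩ := hcol a' ha'Q
    obtain ⟨r0', r1', r2'⟩ := hrow a' ha'Q
    have hB : H.M a' 0 2 = -(p + q * σ) * H.M a 0 2 := by
      rw [ha', H.M_mul, H.M_mul]
      simp [Matrix.mul_apply, Fin.sum_univ_three, y00, y01, y02, i02, hinv.2.1, hinv.2.2]
      linear_combination q * c0
    have hC : H.M a' 2 0 = (p - q * σ ^ 2 * τ) * H.M a 2 0 := by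
      rw [ha', H.M_mul, H.M_mul]
      simp [Matrix.mul_apply, Fin.sum_univ_three, i00, i10, i20, y20, hp, hq, ← hpdef, ← hqdef]
      linear_combination q * σ ^ 2 * r0
    have e := congrFun (congrFun (congrArg H.M (D.comm a ha a' ha'Q)) 2) 2
    rw [H.M_mul, H.M_mul] at e
    simp [Matrix.mul_apply, Fin.sum_univ_three] at e
    rw [hB, hC] at e
    have h21 : H.M a 2 1 = σ - σ * H.M a 2 2 := by linear_combination c2
    have h21' : H.M a' 2 1 = σ - σ * H.M a' 2 2 := by linear_combination c2'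
    have h12 : H.M a 1 2 = τ - τ * H.M a 2 2 := by linear_combination r2
    have h12' : H.M a' 1 2 = τ - τ * H.M a' 2 2 := by linear_combination r2'
    rw [h21, h21', h12, h12'] at e
    have e' : (2 * p + q * σ - q * σ * (σ * τ)) * (H.M a 0 2 * H.M a 2 0) = 0 := by linear_combination -e
    refine (mul_eq_zero.mp e').resolve_left ?_
    rcases hστ with h | h <;> rw [h]
    · intro h0
      exact mul_ne_zero H.two hp0 (by linear_combination h0)
    · intro h0
      have h1 : p + q * σ = 0 := (mul_eq_zero.mp (show 2 * (p + q * σ) = 0 by linear_combination h0)).resolve_left H.two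
      exact neg_ne_zero.mpr one_ne_zero (by linear_combination (p - q * σ) * h1 - hdet)
  obtain ⟨a, ha, haB⟩ : ∃ a ∈ Q, H.M a 0 2 ≠ 0 := by
    by_contra! h
    refine D.row fun a ha => ⟨?_, h a ha⟩
    have := (hcol a ha).1
    rw [h a ha, mul_zero, add_zero] at this
    exact this
  obtain ⟨b, hb2, hbC⟩ : ∃ b ∈ Q, H.M b 2 0 ≠ 0 := by
    by_contra! h
    refine D.col fun a ha => ⟨?_, h a ha⟩
    have := (hrow a ha).1
    rw [h a ha, mul_zero, add_zero] at this
    exact this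
  have haC : H.M a 2 0 = 0 := (mul_eq_zero.mp (hBC a ha)).resolve_left haB
  have hbB : H.M b 0 2 = 0 := (mul_eq_zero.mp (hBC b hb2)).resolve_right hbC
  obtain ⟨ca0, ca1, ca2⟩ := hcol a ha
  obtain ⟨ra0, ra1, ra2⟩ := hrow a ha
  obtain ⟨cb0, cb1, cb2⟩ := hcol b hb2
  obtain ⟨rb0, rb1, rb2⟩ := hrow b hb2
  rw [haC, mul_zero, add_zero] at ra0
  rw [hbB, mul_zero, add_zero] at cb0
  have hdetb : H.M b 0 0 * (H.M b 2 2 - σ * τ * (1 - H.M b 2 2)) = 1 := by
    have h1 := D.le b hb2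
    rw [H.χ_eq, Matrix.det_fin_three, cb0, hbB] at h1
    rw [show H.M b 1 2 = τ - τ * H.M b 2 2 by linear_combination rb2,
      show H.M b 2 1 = σ - σ * H.M b 2 2 by linear_combination cb2,
      show H.M b 1 1 = 1 - σ * (τ - τ * H.M b 2 2) by linear_combination cb1 - σ * rb2] at h1
    linear_combination h1
  have hdeta : H.M a 0 0 * (H.M a 2 2 - σ * τ * (1 - H.M a 2 2)) = 1 := by
    have h1 := D.le a ha
    rw [H.χ_eq, Matrix.det_fin_three, haC, ra0] at h1
    rw [show H.M a 1 2 = τ - τ * H.M a 2 2 by linear_combination ra2,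
      show H.M a 2 1 = σ - σ * H.M a 2 2 by linear_combination ca2,
      show H.M a 1 1 = 1 - σ * (τ - τ * H.M a 2 2) by linear_combination ca1 - σ * ra2] at h1
    linear_combination h1
  refine mul_ne_zero ?_ ?_ (hBC _ (mul_mem ha hb2))
  · rw [H.M_mul]
    simp [Matrix.mul_apply, Fin.sum_univ_three, hbB]
    rw [show H.M b 1 2 = τ - τ * H.M b 2 2 by linear_combination rb2,
      show H.M a 0 1 = -(σ * H.M a 0 2) by linear_combination ca0]
    intro h
    refine mul_ne_zero haB (right_ne_zero_of_mul (hdetb.trans_ne one_ne_zero)) ?_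
    linear_combination h
  · rw [H.M_mul]
    simp [Matrix.mul_apply, Fin.sum_univ_three, haC]
    rw [show H.M a 2 1 = σ - σ * H.M a 2 2 by linear_combination ca2,
      show H.M b 1 0 = -(τ * H.M b 2 0) by linear_combination rb0]
    intro h
    refine mul_ne_zero hbC (right_ne_zero_of_mul (hdeta.trans_ne one_ne_zero)) ?_
    linear_combination h

end Lin3

end CfsgLib.GL2Cent
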