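import Cfsg.Agent.Lib.GL2Cent.NoFusionBase

/-!
The linear configuration at a prime dividing `q + 1`: one class of involutions in the elements of determinant one, the
Brauer–Suzuki–Wall configuration there, and the abelian subgroup inverted by the involution which it gives.
-/

set_option autoImplicit false
set_option linter.unusedSectionVars false
set_option linter.unusedSimpArgs false

namespace CfsgLib.GL2Cent

open Matrix

universe u v

namespace Lin3

variable {K : Type v} [Field K] {L : Type u} [Group L] [Finite L] (H : Lin3 K L)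

/-- The elements of determinant one. -/
def L1 : Subgroup L := H.χ.ker

instance L1_normal : H.L1.Normal := MonoidHom.normal_ker _

theorem mem_L1 {x : L} : x ∈ H.L1 ↔ H.χ x = 1 := MonoidHom.mem_ker

theorem χ_inv {x : L} {a : K} (h : H.χ x = a) : H.χ x⁻¹ = a⁻¹ :=
  eq_inv_of_mul_eq_one_left (by rw [← h, ← map_mul, inv_mul_cancel, map_one])

include H in
theorem neg_one_ne : (-1 : K) ≠ 1 := H.ne_neg one_ne_zero

theorem even_of_χ {x : L} (h : H.χ x = -1) {k : ℕ} (hk : x ^ k = 1) : Even k := by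
  refine Nat.not_odd_iff_even.mp fun ho => H.neg_one_ne ?_
  rw [← ho.neg_one_pow (α := K), ← h, ← map_pow, hk, map_one]

theorem t_pow : H.ρ ^ 2 ^ (H.c - 1) = H.t := by
  have hc := H.hc
  refine (H.sq_one_T (H.pow_T _) ?_ ?_).resolve_left ?_
  · rw [map_pow, H.χ_ρ, (Nat.even_pow.mpr ⟨even_two, by omega⟩).neg_one_pow]
  · rw [← pow_add, ← two_mul, ← pow_succ', Nat.sub_add_cancel (by omega), ← H.ρord, pow_orderOf_eq_one]
  · exact pow_ne_one_of_lt_orderOf (by positivity) (by rw [H.ρord]; exact Nat.pow_lt_pow_right (by norm_num) (by omega))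

theorem conj_pow_ρ (i : ℕ) : H.s * H.ρ ^ i * H.s⁻¹ = (H.ρ ^ i)⁻¹ * H.t ^ i := by
  rw [← conj_pow, H.sρ, (show Commute H.ρ⁻¹ H.t from Commute.inv_left (H.cent _ H.ρT)).mul_pow, inv_pow]

theorem zpowers_pow {g : L} (h : g ∈ Subgroup.zpowers H.ρ) : ∃ i : ℕ, H.ρ ^ i = g :=
  Submonoid.mem_powers_iff _ _ |>.mp (mem_powers_iff_mem_zpowers.mpr h)

/-- A Sylow 2-subgroup. -/
def R : Subgroup L where
  carrier := {g | g ∈ Subgroup.zpowers H.ρ ∨ g * H.s ∈ Subgroup.zpowers H.ρ}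
  one_mem' := Or.inl (one_mem _)
  mul_mem' := by
    have hn : ∀ g ∈ Subgroup.zpowers H.ρ, H.s * g * H.s⁻¹ ∈ Subgroup.zpowers H.ρ := fun g hg => by
      obtain ⟨i, rfl⟩ := H.zpowers_pow hg
      rw [H.conj_pow_ρ, ← H.t_pow, ← pow_mul]
      exact mul_mem (inv_mem (pow_mem (Subgroup.mem_zpowers _) _)) (pow_mem (Subgroup.mem_zpowers _) _)
    intro a b ha hb
    rcases ha with ha | ha <;> rcases hb with hb | hb
    · exact Or.inl (mul_mem ha hb)
    · exact Or.inr (by rw [mul_assoc]; exact mul_mem ha hb)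
    · refine Or.inr ?_
      have e : a * b * H.s = a * H.s * (H.s⁻¹ * b * H.s) := by group
      have := hn b hb
      rw [H.s_inv] at this e
      rw [e]
      exact mul_mem ha this
    · refine Or.inl ?_
      have e : a * b = a * H.s * (H.s⁻¹ * (b * H.s) * H.s⁻¹) := by group
      have := hn _ hb
      rw [H.s_inv] at this e
      rw [e]
      exact mul_mem ha this
  inv_mem' := by
    intro a ha
    rcases ha with ha | ha
    · exact Or.inl (inv_mem ha)
    · refine Or.inr ?_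
      obtain ⟨i, hi⟩ := H.zpowers_pow ha
      have e : a⁻¹ * H.s = H.s * (H.ρ ^ i)⁻¹ * H.s⁻¹ * (H.s * H.s) := by rw [hi]; group
      rw [e, H.s_sq, mul_one,
        show H.s * (H.ρ ^ i)⁻¹ * H.s⁻¹ = (H.s * H.ρ ^ i * H.s⁻¹)⁻¹ by group, H.conj_pow_ρ, ← H.t_pow, ← pow_mul]
      exact inv_mem (mul_mem (inv_mem (pow_mem (Subgroup.mem_zpowers _) _)) (pow_mem (Subgroup.mem_zpowers _) _))

theorem card_R : Nat.card H.R = 2 ^ (H.c + 1) := by
  classical
  have hs : H.s ∉ Subgroup.zpowers H.ρ := fun h => H.sT (Subgroup.zpowers_le.mpr H.ρT h)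
  let e : H.R ≃ Subgroup.zpowers H.ρ ⊕ Subgroup.zpowers H.ρ :=
    { toFun := fun g => if h : (g : L) ∈ Subgroup.zpowers H.ρ then Sum.inl ⟨g, h⟩
        else Sum.inr ⟨(g : L) * H.s, g.2.resolve_left h⟩
      invFun := Sum.elim (fun x => ⟨x, Or.inl x.2⟩)
        (fun x => ⟨(x : L) * H.s, Or.inr (by rw [mul_assoc, H.s_sq, mul_one]; exact x.2)⟩)
      left_inv := fun g => by
        by_cases h : (g : L) ∈ Subgroup.zpowers H.ρ
        · simp [h]
        · simp [h, mul_assoc, H.s_sq]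
      right_inv := fun x => by
        rcases x with x | x
        · simp
        · have : (x : L) * H.s ∉ Subgroup.zpowers H.ρ := fun h => hs (by simpa using mul_mem (inv_mem x.2) h)
          simp [this, mul_assoc, H.s_sq] }
  rw [Nat.card_congr e, Nat.card_sum, Nat.card_zpowers, H.ρord, pow_succ, mul_two]

theorem conj_s_pow (k : ℕ) : H.ρ ^ k * H.s * (H.ρ ^ k)⁻¹ = H.ρ ^ (2 * k) * H.t ^ k * H.s := by
  have h1 : H.s * (H.ρ ^ k)⁻¹ * H.s⁻¹ = H.ρ ^ k * H.t ^ k := by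
    rw [show H.s * (H.ρ ^ k)⁻¹ * H.s⁻¹ = (H.s * H.ρ ^ k * H.s⁻¹)⁻¹ by group, H.conj_pow_ρ, _root_.mul_inv_rev, inv_inv]
    have e : (H.t ^ k)⁻¹ = H.t ^ k := by rw [← inv_pow, inv_eq_of_mul_eq_one_left H.t_sq]
    rw [e, H.comm _ (pow_mem H.tT k) _ (H.pow_T k)]
  calc H.ρ ^ k * H.s * (H.ρ ^ k)⁻¹ = H.ρ ^ k * (H.s * (H.ρ ^ k)⁻¹ * H.s⁻¹) * H.s := by group
    _ = _ := by rw [h1, ← mul_assoc, ← pow_add, ← two_mul]

/-- The involutions of `R`. -/
theorem R_invol {x : L} (hx : x ∈ H.R) (h2 : x * x = 1) (h1 : x ≠ 1) :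
    x = H.t ∨ ∃ k : ℕ, H.ρ ^ k * H.s * (H.ρ ^ k)⁻¹ = x := by
  have hc := H.hc
  rcases hx with h | h
  · obtain ⟨i, rfl⟩ := H.zpowers_pow h
    refine Or.inl ((H.sq_one_T (H.pow_T i) ?_ h2).resolve_left h1)
    have hdvd : orderOf H.ρ ∣ i + i := orderOf_dvd_of_pow_eq_one (by rw [pow_add]; exact h2)
    rw [H.ρord] at hdvd
    have h4 : 2 * 2 ∣ i + i := (pow_dvd_pow 2 (show 2 ≤ H.c by omega)).trans hdvd
    rw [map_pow, H.χ_ρ, (even_iff_two_dvd.mpr (by omega) : Even i).neg_one_pow]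
  · obtain ⟨i, hi⟩ := H.zpowers_pow h
    have hx' : x = H.ρ ^ i * H.s := by rw [hi, mul_assoc, H.s_sq, mul_one]
    have hti : H.t ^ i = 1 := by
      rw [← h2, hx']
      have := H.conj_pow_ρ i
      rw [H.s_inv] at this
      rw [show H.ρ ^ i * H.s * (H.ρ ^ i * H.s) = H.ρ ^ i * (H.s * H.ρ ^ i * H.s) by group, this,
        mul_inv_cancel_left]
    have hie : Even i := by
      rw [← Nat.not_odd_iff_even]
      rintro ⟨j, rfl⟩
      rw [pow_succ, pow_mul, pow_two, H.t_sq, one_pow, one_mul] at hti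
      exact H.t_ne hti
    obtain ⟨j, rfl⟩ := hie
    refine Or.inr ?_
    rcases Nat.even_or_odd j with hj | hj
    · refine ⟨j, ?_⟩
      obtain ⟨m, rfl⟩ := hj
      rw [H.conj_s_pow, hx', ← two_mul m, pow_mul H.t, pow_two, H.t_sq, one_pow, mul_one]
      congr 2; ring
    · refine ⟨j + 2 ^ (H.c - 2), ?_⟩
      have ho : Odd (j + 2 ^ (H.c - 2)) := hj.add_even (Nat.even_pow.mpr ⟨even_two, by omega⟩)
      have ht : H.t ^ (j + 2 ^ (H.c - 2)) = H.t := by
        obtain ⟨m, hm⟩ := ho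
        rw [hm, pow_succ, pow_mul, pow_two, H.t_sq, one_pow, one_mul]
      rw [H.conj_s_pow, ht, hx', mul_add, pow_add,
        show 2 * 2 ^ (H.c - 2) = 2 ^ (H.c - 1) by rw [← pow_succ']; congr 1; omega,
        H.t_pow, mul_assoc (H.ρ ^ (2 * j)), H.t_sq, mul_one, two_mul]

/-- The subgroup generated by `L1` and the centraliser of `t`. -/
def L2 : Subgroup L := Subgroup.centralizer ({H.t} : Set L) ⊔ H.L1

theorem mem_C {x : L} : x ∈ Subgroup.centralizer ({H.t} : Set L) ↔ x * H.t = H.t * x :=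
  Subgroup.mem_centralizer_singleton_iff

theorem L2_normal : H.L2.Normal := by
  refine ⟨fun x hx g => ?_⟩
  have : g * x * g⁻¹ * x⁻¹ ∈ H.L1 := by
    rw [H.mem_L1, map_mul, map_mul, map_mul, mul_right_comm (H.χ g), ← map_mul, mul_inv_cancel, map_one, one_mul,
      ← map_mul, mul_inv_cancel, map_one]
  have h2 := mul_mem (Subgroup.mem_sup_right this : _ ∈ H.L2) hx
  rwa [inv_mul_cancel_right] at h2

theorem R_le_L2 : H.R ≤ H.L2 := fun x hx => Subgroup.mem_sup_left (H.mem_C.mpr (by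
  have hρ : ∀ g ∈ Subgroup.zpowers H.ρ, g * H.t = H.t * g := fun g hg =>
    H.cent g (Subgroup.zpowers_le.mpr H.ρT hg)
  rcases hx with h | h
  · exact hρ x h
  · have e := hρ _ h
    rw [mul_assoc, H.st, ← mul_assoc, ← mul_assoc] at e
    exact mul_right_cancel e))

theorem index_R_odd : Odd H.R.index := by
  rw [← Nat.not_even_iff_odd, even_iff_two_dvd]
  intro h
  refine H.exact2 ?_
  rw [← H.R.card_mul_index, H.card_R, show 2 ^ (H.c + 2) = 2 ^ (H.c + 1) * 2 from pow_succ _ _]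
  exact Nat.mul_dvd_mul_left _ h

theorem index_L2_odd : Odd H.L2.index := Odd.of_dvd_nat H.index_R_odd (Subgroup.index_dvd_of_le H.R_le_L2)

theorem mem_L2_of_sq {x : L} (h : x * x ∈ H.L2) : x ∈ H.L2 := by
  haveI := H.L2_normal
  obtain ⟨m, hm⟩ := H.index_L2_odd
  have h1 := H.L2.pow_index_mem x
  rw [hm, pow_succ, pow_mul, pow_two] at h1
  exact (Subgroup.mul_mem_cancel_left _ (pow_mem h m)).mp h1

/-- Every involution is conjugate in `L2` to `t` or to `s`. -/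
theorem invol_L2 {x : L} (h2 : x * x = 1) (h1 : x ≠ 1) :
    ∃ h ∈ H.L2, h * x * h⁻¹ = H.t ∨ h * x * h⁻¹ = H.s := by
  haveI : Fact (Nat.Prime 2) := ⟨Nat.prime_two⟩
  have hxL : x ∈ H.L2 := H.mem_L2_of_sq (by rw [h2]; exact one_mem _)
  let P0 : Sylow 2 H.L2 := Sylow.ofCard (H.R.subgroupOf H.L2) (by
    rw [Nat.card_congr (Subgroup.subgroupOfEquivOfLe H.R_le_L2).toEquiv, H.card_R]
    have hd : 2 ^ (H.c + 1) ∣ Nat.card H.L2 := H.card_R ▸ Subgroup.card_dvd_of_le H.R_le_L2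
    have hnd : ¬ 2 ^ (H.c + 2) ∣ Nat.card H.L2 := fun h => H.exact2 (h.trans (Subgroup.card_subgroup_dvd_card _))
    have hne : Nat.card H.L2 ≠ 0 := Nat.card_pos.ne'
    have e1 := (Nat.prime_two.pow_dvd_iff_le_factorization hne).mp hd
    have e2 : ¬ H.c + 2 ≤ (Nat.card H.L2).factorization 2 := fun h =>
      hnd ((Nat.prime_two.pow_dvd_iff_le_factorization hne).mpr h)
    congr 1; omega)
  obtain ⟨P, hP⟩ := (IsPGroup.of_card (G := Subgroup.zpowers (⟨x, hxL⟩ : H.L2)) (p := 2) (n := 1)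
    (by rw [Nat.card_zpowers, Subgroup.orderOf_mk, pow_one,
      CfsgLib.Involutions.orderOf_eq_two_iff'.2 ⟨h2, h1⟩])).exists_le_sylow
  obtain ⟨g, hg⟩ := MulAction.exists_smul_eq H.L2 P P0
  have hgx : (g : L) * x * (g : L)⁻¹ ∈ H.R := by
    have : (MulAut.conj g) ⟨x, hxL⟩ ∈ (P0 : Subgroup H.L2) := by
      rw [← hg]
      exact Subgroup.smul_mem_pointwise_smul _ (MulAut.conj g) _ (hP (Subgroup.mem_zpowers _))
    simpa [Sylow.ofCard, Subgroup.mem_subgroupOf, P0] using this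
  have hy2 : (g : L) * x * (g : L)⁻¹ * ((g : L) * x * (g : L)⁻¹) = 1 := by
    rw [show (g : L) * x * (g : L)⁻¹ * ((g : L) * x * (g : L)⁻¹) = (g : L) * (x * x) * (g : L)⁻¹ by group, h2]
    group
  rcases H.R_invol hgx hy2 (fun e => h1 (conj_eq_one_iff.mp e)) with e | ⟨k, hk⟩
  · exact ⟨g, g.2, Or.inl e⟩
  · refine ⟨(H.ρ ^ k)⁻¹ * g, mul_mem (inv_mem (Subgroup.mem_sup_left (H.mem_C.mpr (H.cent _ (H.pow_T k))))) g.2,
      Or.inr ?_⟩
    rw [show (H.ρ ^ k)⁻¹ * (g : L) * x * ((H.ρ ^ k)⁻¹ * (g : L))⁻¹ = (H.ρ ^ k)⁻¹ * ((g : L) * x * (g : L)⁻¹) * H.ρ ^ k by group,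
      ← hk]
    group

theorem fused_L2 : ∃ g ∈ H.L2, g * H.t * g⁻¹ = H.s := by
  haveI := H.L2_normal
  obtain ⟨g, hg⟩ := isConj_iff.mp H.fused
  have hC : ∀ y : L, y * H.s * y⁻¹ = H.s → y ∈ H.L2 := fun y hy => by
    have h1 : g⁻¹ * y * g ∈ H.L2 := Subgroup.mem_sup_left (H.mem_C.mpr (by
      rw [← hg] at hy
      calc g⁻¹ * y * g * H.t = g⁻¹ * (y * (g * H.t * g⁻¹) * y⁻¹) * y * g := by group
        _ = H.t * (g⁻¹ * y * g) := by rw [hy]; group))
    have h2 := H.L2_normal.conj_mem _ h1 g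
    rwa [show g * (g⁻¹ * y * g) * g⁻¹ = y by group] at h2
  refine ⟨g, ?_, hg⟩
  have hne : g * H.s * g⁻¹ ≠ 1 := fun e => H.s_ne (conj_eq_one_iff.mp e)
  obtain ⟨h, hh, e | e⟩ := H.invol_L2 (x := g * H.s * g⁻¹)
    (by rw [show g * H.s * g⁻¹ * (g * H.s * g⁻¹) = g * (H.s * H.s) * g⁻¹ by group, H.s_sq]; group) hne
  · have hc : h * g * g ∈ H.L2 := Subgroup.mem_sup_left (H.mem_C.mpr (by
      rw [← hg] at e
      calc h * g * g * H.t = h * (g * (g * H.t * g⁻¹) * g⁻¹) * h⁻¹ * (h * g * g) := by group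
        _ = H.t * (h * g * g) := by rw [e]))
    refine H.mem_L2_of_sq ?_
    rw [mul_assoc] at hc
    exact (Subgroup.mul_mem_cancel_left _ hh).mp hc
  · have hc := hC (h * g) (by rw [show h * g * H.s * (h * g)⁻¹ = h * (g * H.s * g⁻¹) * h⁻¹ by group, e])
    exact (Subgroup.mul_mem_cancel_left _ hh).mp hc

/-- One class of involutions in `L1`, all of determinant one. -/
theorem invol_L1 {x : L} (h2 : x * x = 1) (h1 : x ≠ 1) : ∃ l ∈ H.L1, l * H.t * l⁻¹ = x := by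
  obtain ⟨g, hg, hgs⟩ := H.fused_L2
  obtain ⟨h, hh, e⟩ := H.invol_L2 h2 h1
  have : ∃ k ∈ H.L2, k * x * k⁻¹ = H.t := by
    rcases e with e | e
    · exact ⟨h, hh, e⟩
    · refine ⟨g⁻¹ * h, mul_mem (inv_mem hg) hh, ?_⟩
      rw [show g⁻¹ * h * x * (g⁻¹ * h)⁻¹ = g⁻¹ * (h * x * h⁻¹) * g by group, e, ← hgs]
      group
  obtain ⟨k, hk, hkx⟩ := this
  haveI := H.L1_normal
  rw [L2, ← SetLike.mem_coe, Subgroup.mul_normal, Set.mem_mul] at hk
  obtain ⟨c, hc, l, hl, rfl⟩ := hk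
  refine ⟨l⁻¹, inv_mem hl, ?_⟩
  have hc' := H.mem_C.mp hc
  have e1 : c⁻¹ * H.t * c = H.t := by rw [mul_assoc, ← hc', inv_mul_cancel_left]
  rw [← e1, ← hkx]
  group

theorem χ_invol {x : L} (h2 : x * x = 1) (h1 : x ≠ 1) : H.χ x = 1 := by
  obtain ⟨l, -, rfl⟩ := H.invol_L1 h2 h1
  rw [map_mul, map_mul, mul_right_comm, ← map_mul, mul_inv_cancel, map_one, one_mul, H.χ_t]

theorem fused_L1 : ∃ g ∈ H.L1, g * H.t * g⁻¹ = H.s := H.invol_L1 H.s_sq H.s_ne

theorem tL1 : H.t ∈ H.L1 := H.mem_L1.mpr H.χ_t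

theorem sL1 : H.s ∈ H.L1 := H.mem_L1.mpr H.χ_s

/-- The elements of determinant one commuting with `t`. -/
theorem C1_cases {x : L} (hx : x ∈ H.L1) (h : x * H.t = H.t * x) :
    (x ∈ H.T) ∨ (x * H.s ∈ H.T ∧ x * x = 1) := by
  rcases H.mem x h with h' | h'
  · exact Or.inl h'
  · refine Or.inr ⟨h', ?_⟩
    have e := H.inverts h' (H.mem_L1.mp (mul_mem hx H.sL1))
    rw [H.s_inv, _root_.mul_inv_rev, H.s_inv, show H.s * (x * H.s) * H.s = H.s * x * (H.s * H.s) by group, H.s_sq,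
      mul_one] at e
    exact mul_eq_one_iff_eq_inv.mpr (mul_left_cancel e)

/-- The configuration of Brauer, Suzuki and Wall. -/
def setup : CfsgLib.BSW.Setup H.L1 where
  t := ⟨H.t, H.tL1⟩
  K := H.T.subgroupOf H.L1
  s := ⟨H.s, H.sL1⟩
  ht := by rw [Subgroup.orderOf_mk, H.orderOf_t]
  comm := fun x hx y hy => Subtype.ext (H.comm _ hx _ hy)
  htK := H.tT
  hs := by rw [Subgroup.orderOf_mk, H.orderOf_s]
  hsK := H.sT
  hH := by
    refine le_antisymm (sup_le (fun x hx => ?_) (Subgroup.zpowers_le.mpr ?_)) fun x hx => ?_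
    · exact Subgroup.mem_centralizer_singleton_iff.mpr (Subtype.ext (H.cent _ hx))
    · exact Subgroup.mem_centralizer_singleton_iff.mpr (Subtype.ext H.st)
    · rcases H.C1_cases x.2 (congrArg Subtype.val (Subgroup.mem_centralizer_singleton_iff.mp hx)) with h | h
      · exact Subgroup.mem_sup_left h
      · have e : x = x * ⟨H.s, H.sL1⟩ * ⟨H.s, H.sL1⟩ := Subtype.ext (by
          show (x : L) = (x : L) * H.s * H.s
          rw [mul_assoc, H.s_sq, mul_one])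
        rw [e]
        exact mul_mem (Subgroup.mem_sup_left h.1) (Subgroup.mem_sup_right (Subgroup.mem_zpowers _))
  hCK := by
    refine le_antisymm (fun x hx => ?_) (Subgroup.zpowers_le.mpr ⟨H.tT, ?_⟩)
    · have hc : (x : L) * H.s = H.s * x := congrArg Subtype.val (Subgroup.mem_centralizer_singleton_iff.mp hx.2)
      have e : H.s * (x : L) * H.s⁻¹ = (x : L)⁻¹ := H.inverts hx.1 (H.mem_L1.mp x.2)
      rw [← hc, mul_inv_cancel_right] at e
      rcases H.sq_one_T hx.1 (H.mem_L1.mp x.2) (mul_eq_one_iff_eq_inv.mpr e) with e' | e'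
      · rw [show x = 1 from Subtype.ext e']; exact one_mem _
      · rw [show x = ⟨H.t, H.tL1⟩ from Subtype.ext e']; exact Subgroup.mem_zpowers _
    · exact Subgroup.mem_centralizer_singleton_iff.mpr (Subtype.ext H.st.symm)
  hinv := fun x hx => Subtype.ext (H.inverts hx (H.mem_L1.mp x.2))
  hTI := fun g hg => by
    refine (Subgroup.eq_bot_iff_forall _).mpr fun y hy => ?_
    obtain ⟨hyT', x, hxT', hxy⟩ := hy
    have hyT : (y : L) ∈ H.T := hyT'
    have hxT : (x : L) ∈ H.T := hxT'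
    by_contra hy1
    have hxy' : (g : L) * x * (g : L)⁻¹ = y := congrArg Subtype.val hxy
    have hx1 : (x : L) ≠ 1 := fun e => hy1 (Subtype.ext (by rw [← hxy', e]; simp))
    have hy1' : (y : L) ≠ 1 := fun e => hy1 (Subtype.ext e)
    have hM : H.M y * H.M g = H.M g * H.M x := by
      rw [← H.M_mul, ← H.M_mul, ← hxy', inv_mul_cancel_right]
    obtain ⟨x00, x01, x02, x10, x20⟩ := H.T_shape hxT
    obtain ⟨y00, y01, y02, y10, y20⟩ := H.T_shape hyT
    have e10 := congrFun (congrFun hM 1) 0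
    have e20 := congrFun (congrFun hM 2) 0
    have e01 := congrFun (congrFun hM 0) 1
    have e02 := congrFun (congrFun hM 0) 2
    simp only [Matrix.mul_apply, Fin.sum_univ_three, x00, x01, x02, x10, x20, y00, y01, y02, y10, y20, mul_one,
      one_mul, mul_zero, zero_mul, add_zero, zero_add] at e10 e20 e01 e02
    obtain ⟨c1, c2⟩ := H.no_fix hyT (H.mem_L1.mp y.2) hy1' e10 e20
    obtain ⟨c3, c4⟩ := H.no_fix_row hxT (H.mem_L1.mp x.2) hx1 e01.symm e02.symm
    refine hg (Subgroup.mem_centralizer_singleton_iff.mpr (Subtype.ext (H.M_inj ?_)))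
    show H.M ((g : L) * H.t) = H.M (H.t * (g : L))
    rw [H.M_mul, H.M_mul, H.M_t]
    ext i j
    rw [Matrix.mul_diagonal, Matrix.diagonal_mul]
    fin_cases i <;> fin_cases j <;> simp [c1, c2, c3, c4]
  hconj := fun x y hx hy => by
    have key : ∀ x : H.L1, orderOf x = 2 → IsConj (⟨H.t, H.tL1⟩ : H.L1) x := fun x hx => by
      obtain ⟨h2, h1⟩ := CfsgLib.Involutions.orderOf_eq_two_iff'.1 (by rw [Subgroup.orderOf_coe]; exact hx :
        orderOf (x : L) = 2)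
      obtain ⟨l, hl, e⟩ := H.invol_L1 h2 h1
      exact isConj_iff.mpr ⟨⟨l, hl⟩, Subtype.ext e⟩
    exact (key x hx).symm.trans (key y hy)

/-- What the configuration gives. -/
theorem exists_Q : ∃ Q : Subgroup L, Q ≤ H.L1 ∧ Q ≠ ⊥ ∧ Odd (Nat.card Q) ∧
    (∀ a ∈ Q, ∀ b ∈ Q, a * b = b * a) ∧ (∀ a ∈ Q, H.t * a * H.t = a⁻¹) ∧
    (∃ x ∈ H.T, H.χ x = 1 ∧ x * x ≠ 1 ∧ ∀ a ∈ Q, x * a * x⁻¹ ∈ Q) ∧
    (∃ y : L, H.χ y = -1 ∧ y * H.t = H.t * y ∧ ∀ a ∈ Q, y * a * y⁻¹ ∈ Q) ∧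
    ∀ N : Subgroup L, Q ≤ N → (∀ k ∈ H.L1, k * H.t = H.t * k → k ∈ N) → H.L1 ≤ N := by
  classical
  letI : Fintype H.L1 := Fintype.ofFinite _
  obtain ⟨Q, D, hord, hCC, hDc, hcard, hinf, hN, -⟩ := (H.setup).conclusion
  have hDc' : ∀ a ∈ D, ∀ b ∈ D, a * b = b * a := fun a ha b hb =>
    congrArg Subtype.val (hDc.is_comm.comm (⟨a, ha⟩ : D) ⟨b, hb⟩)
  have h8 : 8 ∣ Nat.card H.L1 := by
    rw [H.setup.card_G]
    have h4 : 4 ∣ H.setup.k := by
      have hm : H.ρ ^ 2 ∈ H.L1 := H.mem_L1.mpr (by rw [map_pow, H.χ_ρ]; ring)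
      have hd := Subgroup.orderOf_dvd_natCard H.setup.K (x := (⟨H.ρ ^ 2, hm⟩ : H.L1)) (H.pow_T 2)
      rw [Subgroup.orderOf_mk, orderOf_pow' _ two_ne_zero, H.ρord] at hd
      refine dvd_trans ?_ hd
      have hc := H.hc
      rw [show 2 ^ H.c = 2 * 2 ^ (H.c - 1) by rw [← pow_succ']; congr 1; omega, Nat.gcd_mul_right_left,
        Nat.mul_div_cancel_left _ two_pos]
      exact pow_dvd_pow 2 (show 2 ≤ H.c - 1 by omega)
    exact dvd_mul_of_dvd_left (Nat.mul_dvd_mul_left 2 h4) _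
  set q := Nat.card Q with hq
  have hqodd : Odd q := ⟨Nat.card D, hcard.symm⟩
  have hD3 : 3 ≤ Nat.card D := by
    by_contra! h
    have : 0 < Nat.card D := Nat.card_pos
    rcases (show Nat.card D = 1 ∨ Nat.card D = 2 by omega) with e | e <;>
      rw [show q = 2 * Nat.card D + 1 from hcard.symm, e] at hord <;> norm_num at hord <;>
      rw [Nat.card_eq_fintype_card (α := H.L1)] at h8 <;> omega
  have hQne : Q ≠ ⊥ := fun e => by rw [hq, e, Subgroup.card_bot] at hcard; omega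
  have hQD : ∀ {m : H.L1}, m ∈ Subgroup.normalizer (Q : Set H.L1) → ∃ a ∈ Q, ∃ d ∈ D, a * d = m := fun {m} hm => by
    rw [hN, ← SetLike.mem_coe, Subgroup.coe_mul_of_right_le_normalizer_left _ _
      (le_sup_right.trans hN.ge), Set.mem_mul] at hm
    exact hm
  have hDN : ∀ d ∈ D, d ∈ Subgroup.normalizer (Q : Set H.L1) := fun d hd => hN.ge (Subgroup.mem_sup_right hd)
  -- an element of determinant `-1` normalising `Q`
  obtain ⟨n, hn, hnQ⟩ : ∃ n : L, H.χ n = -1 ∧ ∀ a ∈ Q, n * a * n⁻¹ ∈ Q.map H.L1.subtype := by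
    obtain ⟨l, hl, hlQ⟩ := Nat.exists_prime_and_dvd (show q ≠ 1 by omega)
    haveI : Fact l.Prime := ⟨hl⟩
    obtain ⟨z0, hz0⟩ := exists_prime_orderOf_dvd_card' l hlQ
    set z : H.L1 := (z0 : H.L1)
    have hzo : orderOf z = l := by rw [Subgroup.orderOf_coe, hz0]
    have hz1 : z ≠ 1 := fun e => by rw [e, orderOf_one] at hzo; exact hl.one_lt.ne hzo
    obtain ⟨P, hP⟩ := (IsPGroup.of_card (G := Subgroup.zpowers z) (p := l) (n := 1)
      (by rw [Nat.card_zpowers, hzo, pow_one])).exists_le_sylow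
    have hzP : z ∈ (P : Subgroup H.L1) := hP (Subgroup.mem_zpowers _)
    haveI : Nontrivial (P : Subgroup H.L1) := ⟨⟨⟨z, hzP⟩, 1, fun e => hz1 (congrArg Subtype.val e)⟩⟩
    haveI := P.isPGroup'.center_nontrivial
    obtain ⟨w, hw⟩ := exists_ne (1 : Subgroup.center (P : Subgroup H.L1))
    have hwc : ∀ p ∈ (P : Subgroup H.L1), p * ((w : (P : Subgroup H.L1)) : H.L1) = ((w : (P : Subgroup H.L1)) : H.L1) * p :=
      fun p hp => congrArg Subtype.val (Subgroup.mem_center_iff.mp w.2 ⟨p, hp⟩)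
    have hwQ : ((w : (P : Subgroup H.L1)) : H.L1) ∈ Q :=
      hCC z z0.2 hz1 ▸ Subgroup.mem_centralizer_singleton_iff.mpr (hwc z hzP).symm
    have hPQ : (P : Subgroup H.L1) ≤ Q := fun p hp =>
      hCC _ hwQ (fun e => hw (Subtype.ext (Subtype.ext e))) ▸ Subgroup.mem_centralizer_singleton_iff.mpr (hwc p hp)
    let α : MulAut H.L1 := MulAut.conjNormal H.ρ
    let P' : Sylow l H.L1 := P.mapSurjective (f := α.toMonoidHom) α.surjective
    obtain ⟨h, hh⟩ := MulAction.exists_smul_eq H.L1 P' P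
    refine ⟨(h : L) * H.ρ, by rw [map_mul, H.mem_L1.mp h.2, H.χ_ρ, one_mul], fun a ha => ?_⟩
    set z' : H.L1 := h * α z * h⁻¹
    have hz'P : z' ∈ (P : Subgroup H.L1) := by
      rw [← hh]
      refine Subgroup.smul_mem_pointwise_smul _ (MulAut.conj h) _ ?_
      exact ⟨z, hzP, rfl⟩
    have hz'1 : z' ≠ 1 := fun e => hz1 (α.injective ((conj_eq_one_iff.mp e).trans (map_one α).symm))
    refine ⟨h * α a * h⁻¹, ?_, by simp [α, mul_assoc]⟩
    rw [← hCC z' (hPQ hz'P) hz'1]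
    refine Subgroup.mem_centralizer_singleton_iff.mpr ?_
    have haz : a * z = z * a := Subgroup.mem_centralizer_singleton_iff.mp ((hCC z z0.2 hz1).symm ▸ ha)
    show h * α a * h⁻¹ * (h * α z * h⁻¹) = h * α z * h⁻¹ * (h * α a * h⁻¹)
    calc h * α a * h⁻¹ * (h * α z * h⁻¹) = h * α (a * z) * h⁻¹ := by rw [map_mul]; group
      _ = _ := by rw [haz, map_mul]; group
  have hD2 : Even (Nat.card D) := by
    rw [← Nat.not_odd_iff_even]
    intro hDodd
    set o := orderOf n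
    obtain ⟨k, hk⟩ := H.even_of_χ hn (pow_orderOf_eq_one n)
    have hk0 : 0 < k := by have := orderOf_pos n; omega
    set m : L := n ^ k
    have hm2 : m * m = 1 := by rw [← pow_add, ← hk, pow_orderOf_eq_one]
    have hm1 : m ≠ 1 := pow_ne_one_of_lt_orderOf hk0.ne' (by omega)
    have hmN : ∀ j : ℕ, ∀ a ∈ Q, n ^ j * a * (n ^ j)⁻¹ ∈ Q.map H.L1.subtype := by
      intro j
      induction j with
      | zero => intro a ha; simpa using ha
      | succ j ih =>
        intro a ha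
        obtain ⟨b, hb, e⟩ := ih a ha
        rw [show n ^ (j + 1) * (a : L) * (n ^ (j + 1))⁻¹ = n * (n ^ j * (a : L) * (n ^ j)⁻¹) * n⁻¹ by group, ← e]
        exact hnQ b hb
    have hmN' : (⟨m, H.mem_L1.mpr (H.χ_invol hm2 hm1)⟩ : H.L1) ∈ Subgroup.normalizer (Q : Set H.L1) :=
      Subgroup.mem_normalizer_fintype fun a ha => by
        obtain ⟨b, hb, e⟩ := hmN k a ha
        have e2 : b = (⟨m, H.mem_L1.mpr (H.χ_invol hm2 hm1)⟩ : H.L1) * a * (⟨m, H.mem_L1.mpr (H.χ_invol hm2 hm1)⟩ : H.L1)⁻¹ :=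
          Subtype.ext (e.trans rfl)
        exact e2 ▸ hb
    have hodd : Odd (Nat.card (Subgroup.normalizer (Q : Set H.L1) : Subgroup H.L1)) := by
      refine (hqodd.mul hDodd).of_dvd_nat (dvd_of_eq ?_)
      have hQN : Q ≤ Subgroup.normalizer (Q : Set H.L1) := Subgroup.le_normalizer
      have hbij : Function.Bijective (fun p : Q × D =>
          (⟨(p.1 : H.L1) * p.2, mul_mem (hQN p.1.2) (hDN _ p.2.2)⟩ : Subgroup.normalizer (Q : Set H.L1))) := by
        refine ⟨fun p p' h => ?_, fun m => ?_⟩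
        · have h' : (p.1 : H.L1) * p.2 = p'.1 * p'.2 := congrArg Subtype.val h
          have h1 : (p'.1 : H.L1)⁻¹ * p.1 = p'.2 * (p.2 : H.L1)⁻¹ := by
            rw [show (p'.1 : H.L1)⁻¹ * p.1 = (p'.1 : H.L1)⁻¹ * ((p.1 : H.L1) * p.2) * (p.2 : H.L1)⁻¹ by group, h']
            group
          have h2 : (p'.1 : H.L1)⁻¹ * p.1 = 1 := Subgroup.mem_bot.mp (hinf.le (Subgroup.mem_inf.mpr
            ⟨Q.mul_mem (Q.inv_mem p'.1.2) p.1.2, h1.symm ▸ D.mul_mem p'.2.2 (D.inv_mem p.2.2)⟩))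
          have h3 : (p.1 : H.L1) = p'.1 := (inv_mul_eq_one.mp h2).symm
          refine Prod.ext (Subtype.ext h3) (Subtype.ext ?_)
          rw [h3] at h'
          exact mul_left_cancel h'
        · obtain ⟨a, ha, d, hd, e⟩ := hQD m.2
          exact ⟨(⟨a, ha⟩, ⟨d, hd⟩), Subtype.ext e⟩
      rw [← Nat.card_eq_of_bijective _ hbij, Nat.card_prod]
    have hdv := Subgroup.orderOf_dvd_natCard _ hmN'
    rw [Subgroup.orderOf_mk, CfsgLib.Involutions.orderOf_eq_two_iff'.2 ⟨hm2, hm1⟩] at hdv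
    exact (Nat.not_even_iff_odd.mpr hodd) (even_iff_two_dvd.mpr hdv)
  -- move the involution of `D` to `t`
  obtain ⟨d, hd⟩ := exists_prime_orderOf_dvd_card' 2 (even_iff_two_dvd.mp hD2)
  obtain ⟨c, hc⟩ := isConj_iff.mp (H.setup.hconj (d : H.L1) H.setup.t (by rw [Subgroup.orderOf_coe, hd]) H.setup.ht)
  set f : H.L1 →* H.L1 := (MulAut.conj c).toMonoidHom
  have hf : Function.Injective f := (MulAut.conj c).injective
  set Q' := Q.map f with hQ'
  set D' := D.map f with hD'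
  have hcard' : 2 * Nat.card D' + 1 = Nat.card Q' := by
    rw [Subgroup.card_map_of_injective hf, Subgroup.card_map_of_injective hf]; exact hcard
  have hCC' : ∀ a ∈ Q', a ≠ 1 → Subgroup.centralizer ({a} : Set H.L1) = Q' := by
    rintro _ ⟨a, ha, rfl⟩ ha1
    rw [hQ', ← hCC a ha (fun e => ha1 (by rw [e, map_one]))]
    ext y
    constructor
    · intro hy
      refine ⟨c⁻¹ * y * c, Subgroup.mem_centralizer_singleton_iff.mpr ?_, by simp [f, mul_assoc]⟩
      have e := Subgroup.mem_centralizer_singleton_iff.mp hy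
      simp only [f, MulEquiv.coe_toMonoidHom, MulAut.conj_apply] at e
      calc c⁻¹ * y * c * a = c⁻¹ * (y * (c * a * c⁻¹)) * c := by group
        _ = c⁻¹ * (c * a * c⁻¹ * y) * c := by rw [e]
        _ = a * (c⁻¹ * y * c) := by group
    · rintro ⟨w, hw, rfl⟩
      refine Subgroup.mem_centralizer_singleton_iff.mpr ?_
      rw [← map_mul, ← map_mul, Subgroup.mem_centralizer_singleton_iff.mp hw]
  have hinf' : Q' ⊓ D' = ⊥ := by rw [hQ', hD', ← Subgroup.map_inf _ _ _ hf, hinf, Subgroup.map_bot]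
  have hN' : ∀ {m : H.L1}, (∀ a ∈ Q', m * a * m⁻¹ ∈ Q') → ∃ a ∈ Q', ∃ e ∈ D', a * e = m := by
    intro m hm
    have hm' : c⁻¹ * m * c ∈ Subgroup.normalizer (Q : Set H.L1) := Subgroup.mem_normalizer_fintype fun a ha => by
      obtain ⟨b, hb, e⟩ := hm (f a) ⟨a, ha, rfl⟩
      have e2 : b = c⁻¹ * m * c * a * (c⁻¹ * m * c)⁻¹ := hf (by rw [e]; simp [f, mul_assoc])
      exact e2 ▸ hb
    obtain ⟨a, ha, e, he, e'⟩ := hQD hm'
    exact ⟨f a, ⟨a, ha, rfl⟩, f e, ⟨e, he, rfl⟩, by rw [← map_mul, e']; simp [f, mul_assoc]⟩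
  have hDN' : ∀ e ∈ D', ∀ a ∈ Q', e * a * e⁻¹ ∈ Q' := by
    rintro _ ⟨e, he, rfl⟩ _ ⟨a, ha, rfl⟩
    exact ⟨e * a * e⁻¹, (Subgroup.mem_normalizer_iff.mp (hDN e he) a).mp ha, by rw [map_mul, map_mul, map_inv]⟩
  have hDc'' : ∀ a ∈ D', ∀ b ∈ D', a * b = b * a := by
    rintro _ ⟨a, ha, rfl⟩ _ ⟨b, hb, rfl⟩
    rw [← map_mul, ← map_mul, hDc' a ha b hb]
  set τ : H.L1 := ⟨H.t, H.tL1⟩ with hτ
  have htD : τ ∈ D' := ⟨d, d.2, hc⟩
  have hτ2 : orderOf τ = 2 := H.setup.ht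
  have htu := CfsgLib.Involutions.orderOf_eq_two_iff'.1 hτ2
  have hQodd' : Odd (Nat.card Q') := ⟨Nat.card D', hcard'.symm⟩
  have hnoFix : ∀ e ∈ D', e ≠ 1 → ∀ a ∈ Q', e * a * e⁻¹ = a → a = 1 := by
    intro e he he1 a ha h
    by_contra ha1
    have : e ∈ Q' := hCC' a ha ha1 ▸ Subgroup.mem_centralizer_singleton_iff.mpr (mul_inv_eq_iff_eq_mul.mp h)
    exact he1 (Subgroup.mem_bot.mp (hinf' ▸ ⟨this, he⟩))
  have hinv : ∀ a ∈ Q', τ * a * τ⁻¹ = a⁻¹ := CfsgLib.BSW.invert_of_fpf hτ2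
    (Subgroup.mem_normalizer_fintype (fun a ha => hDN' τ htD a ha)) (hnoFix τ htD htu.2)
  have hcomm : ∀ a ∈ Q', ∀ b ∈ Q', a * b = b * a := fun a ha b hb => by
    by_cases hb1 : b = 1
    · rw [hb1, mul_one, one_mul]
    · exact Subgroup.mem_centralizer_singleton_iff.mp ((hCC' b hb hb1).symm ▸ ha)
  have hDt : ∀ e ∈ D', (e : L) * H.t = H.t * e := fun e he => congrArg Subtype.val (hDc'' e he τ htD)
  -- an element of order above two in `D'`
  obtain ⟨x, hx, hx2⟩ : ∃ x ∈ D', x * x ≠ 1 := by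
    by_contra! hall
    have hsub : (D' : Set H.L1) ⊆ {1, τ} := fun e he => by
      rcases H.C1_cases e.2 (hDt e he) with hT | hT
      · rcases H.sq_one_T hT (H.mem_L1.mp e.2) (congrArg Subtype.val (hall e he)) with h | h
        · exact Or.inl (Subtype.ext h)
        · exact Or.inr (Subtype.ext h)
      · by_cases he1 : e = 1
        · exact Or.inl he1
        refine Or.inr ?_
        -- an involution of `D'` inverts `Q'`, as `t` does
        have hi := CfsgLib.BSW.invert_of_fpf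
          (CfsgLib.Involutions.orderOf_eq_two_iff'.2 ⟨hall e he, he1⟩)
          (Subgroup.mem_normalizer_fintype (fun a ha => hDN' e he a ha)) (hnoFix e he he1)
        by_contra hne
        have hQ'1 : Q' ≠ ⊥ := fun e' => by
          have hD'c : Nat.card D' = Nat.card D := Subgroup.card_map_of_injective hf
          rw [e', Subgroup.card_bot] at hcard'; omega
        obtain ⟨a, ha, ha1⟩ : ∃ a ∈ Q', a ≠ 1 := by
          obtain ⟨⟨a, ha⟩, ha1⟩ := Subgroup.ne_bot_iff_exists_ne_one.mp hQ'1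
          exact ⟨a, ha, fun e' => ha1 (Subtype.ext e')⟩
        refine ha1 (hnoFix (τ * e) (mul_mem htD he) (fun e' => hne ?_) a ha ?_)
        · rw [← inv_eq_of_mul_eq_one_right e', inv_eq_of_mul_eq_one_left htu.1]
          exact Set.mem_singleton _
        · rw [show τ * e * a * (τ * e)⁻¹ = τ * (e * a * e⁻¹) * τ⁻¹ by group, hi a ha, hinv _ (inv_mem ha), inv_inv]
    have := (Set.ncard_le_ncard hsub (Set.toFinite _)).trans (Set.ncard_insert_le _ _)
    rw [Set.ncard_singleton, ← Nat.card_coe_set_eq] at this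
    have h3 : Nat.card D' = Nat.card D := Subgroup.card_map_of_injective hf
    have h4 : Nat.card (D' : Set H.L1) = Nat.card D' := rfl
    omega
  have hxT : (x : L) ∈ H.T := by
    rcases H.C1_cases x.2 (hDt x hx) with h | h
    · exact h
    · exact absurd (Subtype.ext h.2) hx2
  -- an element of determinant `-1` normalising `Q'` and centralising `t`
  obtain ⟨y, hy, hyt, hyQ⟩ : ∃ y : L, H.χ y = -1 ∧ y * H.t = H.t * y ∧
      ∀ a ∈ Q', y * a * y⁻¹ ∈ Q'.map H.L1.subtype := by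
    set n' : L := (c : L) * n * (c : L)⁻¹ with hn'
    have hn'χ : H.χ n' = -1 := by
      rw [hn', map_mul, map_mul, H.χ_inv (H.mem_L1.mp c.2), H.mem_L1.mp c.2, hn, inv_one, mul_one, one_mul]
    have hn'Q : ∀ a ∈ Q', n' * a * n'⁻¹ ∈ Q'.map H.L1.subtype := by
      rintro _ ⟨a, ha, rfl⟩
      obtain ⟨b, hb, e⟩ := hnQ a ha
      refine ⟨f b, ⟨b, hb, rfl⟩, ?_⟩
      change (b : L) = n * a * n⁻¹ at e
      simp [f, hn', mul_assoc]
      rw [e]
      group
    let τ' : H.L1 := ⟨n' * H.t * n'⁻¹, H.L1_normal.conj_mem _ H.tL1 n'⟩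
    obtain ⟨a, ha, e, he, eτ⟩ := hN' (m := τ') fun a ha => by
      have hn'inv : ∀ a ∈ Q', n'⁻¹ * (a : L) * n' ∈ Q'.map H.L1.subtype := by
        intro a ha
        have hm : n' ∈ Subgroup.normalizer ((Q'.map H.L1.subtype : Subgroup L) : Set L) :=
          Subgroup.mem_normalizer_fintype (by rintro _ ⟨b, hb, rfl⟩; exact hn'Q b hb)
        have := (Subgroup.mem_normalizer_iff.mp (inv_mem hm) a).mp ⟨a, ha, rfl⟩
        rwa [inv_inv] at this
      obtain ⟨b, hb, eb⟩ := hn'inv a ha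
      obtain ⟨b', hb', eb'⟩ := hn'Q _ (hDN' τ htD b hb)
      have e2 : b' = τ' * a * τ'⁻¹ := by
        refine Subtype.ext ?_
        change (b' : L) = _ at eb'
        change (b : L) = _ at eb
        rw [eb']
        show n' * (H.t * (b : L) * H.t⁻¹) * n'⁻¹ = n' * H.t * n'⁻¹ * (a : L) * (n' * H.t * n'⁻¹)⁻¹
        rw [eb]
        group
      exact e2 ▸ hb'
    have hτ'2 : τ' * τ' = 1 := Subtype.ext (by
      show n' * H.t * n'⁻¹ * (n' * H.t * n'⁻¹) = 1
      rw [show n' * H.t * n'⁻¹ * (n' * H.t * n'⁻¹) = n' * (H.t * H.t) * n'⁻¹ by group, H.t_sq]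
      group)
    have he2 : e * e = 1 := by
      have h1 : e * e ∈ Q' := by
        have h2 : e * e = (e * a * e⁻¹)⁻¹ * (a⁻¹ * (τ' * τ')) := by rw [← eτ]; group
        rw [h2, hτ'2, mul_one]
        exact mul_mem (inv_mem (hDN' e he a ha)) (inv_mem ha)
      exact Subgroup.mem_bot.mp (hinf' ▸ ⟨h1, mul_mem he he⟩)
    have he1 : e ≠ 1 := fun h => by
      rw [h, mul_one] at eτ
      have h2 : orderOf a ∣ 2 := orderOf_dvd_of_pow_eq_one (by rw [pow_two, eτ]; exact hτ'2)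
      have h3 : a = 1 := orderOf_eq_one_iff.mp (Nat.eq_one_of_dvd_coprimes (Nat.coprime_two_left.mpr hQodd') h2
        (Subgroup.orderOf_dvd_natCard _ ha))
      exact H.t_ne (conj_eq_one_iff.mp (congrArg Subtype.val (eτ.symm.trans h3)))
    have het : e = τ := by
      rcases H.C1_cases e.2 (hDt e he) with hT | hT
      · rcases H.sq_one_T hT (H.mem_L1.mp e.2) (congrArg Subtype.val he2) with h | h
        · exact absurd (Subtype.ext h) he1
        · exact Subtype.ext h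
      · exfalso
        have hi := H.inverts hxT (H.mem_L1.mp x.2)
        have hce : (e : L) * x = x * e := congrArg Subtype.val (hDc'' e he x hx)
        have hce' : (e : L) * H.s * x = x * ((e : L) * H.s) := H.comm _ hT.1 _ hxT
        refine hx2 (Subtype.ext ?_)
        have : H.s * (x : L) * H.s⁻¹ = x := by
          rw [← mul_assoc] at hce'
          calc H.s * (x : L) * H.s⁻¹ = (e : L)⁻¹ * ((e : L) * H.s * x) * H.s⁻¹ := by group
            _ = x := by rw [hce', ← hce]; group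
        exact mul_eq_one_iff_eq_inv.mpr (this.symm.trans hi)
    obtain ⟨k, hk⟩ := hQodd'
    set a0 := a ^ (k + 1)
    have ha0 : a0 ∈ Q' := pow_mem ha _
    have hsq : a0 * a0 = a := by
      rw [← pow_add, show k + 1 + (k + 1) = Nat.card Q' + 1 by omega, pow_succ,
        orderOf_dvd_iff_pow_eq_one.mp (Subgroup.orderOf_dvd_natCard _ ha), one_mul]
    have ha0L : H.t * (a0 : L) * H.t⁻¹ = (a0 : L)⁻¹ := congrArg Subtype.val (hinv a0 ha0)
    refine ⟨(a0 : L)⁻¹ * n', ?_, ?_, fun b hb => ?_⟩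
    · rw [map_mul, H.χ_inv (H.mem_L1.mp a0.2), inv_one, one_mul, hn'χ]
    · have e1 : n' * H.t * n'⁻¹ = (a0 : L) * (a0 : L) * H.t := by
        have := congrArg Subtype.val eτ
        rw [het, ← hsq] at this
        exact this.symm
      calc (a0 : L)⁻¹ * n' * H.t = (a0 : L)⁻¹ * (n' * H.t * n'⁻¹) * n' := by group
        _ = (a0 : L) * H.t * n' := by rw [e1]; group
        _ = H.t * (H.t⁻¹ * (a0 : L) * H.t) * n' := by group
        _ = H.t * ((a0 : L)⁻¹ * n') := by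
          rw [inv_eq_of_mul_eq_one_left H.t_sq] at ha0L ⊢
          rw [ha0L, mul_assoc]
    · obtain ⟨b', hb', eb'⟩ := hn'Q b hb
      refine ⟨a0⁻¹ * b' * a0, mul_mem (mul_mem (inv_mem ha0) hb') ha0, ?_⟩
      change (b' : L) = _ at eb'
      show (a0 : L)⁻¹ * b' * a0 = (a0 : L)⁻¹ * n' * b * ((a0 : L)⁻¹ * n')⁻¹
      rw [eb']
      group
  -- the output
  refine ⟨Q'.map H.L1.subtype, Subgroup.map_subtype_le _, ?_, ?_, ?_, ?_, ⟨x, hxT, H.mem_L1.mp x.2, ?_, ?_⟩,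
    ⟨y, hy, hyt, ?_⟩, fun N hQN hCN => ?_⟩
  · intro e
    have := congrArg (fun S : Subgroup L => Nat.card S) e
    simp only [Subgroup.card_bot, Subgroup.card_map_of_injective H.L1.subtype_injective] at this
    have h3 : Nat.card D' = Nat.card D := Subgroup.card_map_of_injective hf
    omega
  · rw [Subgroup.card_map_of_injective H.L1.subtype_injective]; exact hQodd'
  · rintro _ ⟨a, ha, rfl⟩ _ ⟨b, hb, rfl⟩
    rw [← map_mul, ← map_mul, hcomm a ha b hb]
  · rintro _ ⟨a, ha, rfl⟩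
    have := congrArg Subtype.val (hinv a ha)
    simpa [hτ, inv_eq_of_mul_eq_one_left H.t_sq] using this
  · exact fun e => hx2 (Subtype.ext e)
  · rintro _ ⟨a, ha, rfl⟩
    exact ⟨x * a * x⁻¹, hDN' x hx a ha, rfl⟩
  · rintro _ ⟨a, ha, rfl⟩
    exact hyQ a ha
  -- generation by counting double cosets
  set N1 : Subgroup H.L1 := N.subgroupOf H.L1
  have hQN1 : Q' ≤ N1 := fun a ha => hQN ⟨a, ha, rfl⟩
  have hDN1 : D' ≤ N1 := fun e he => hCN e e.2 (hDt e he)
  set σ : H.L1 := ⟨H.s, H.sL1⟩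
  have hσN1 : σ ∈ N1 := hCN H.s H.sL1 H.st
  have hσQ : ¬ ∀ a ∈ Q', σ * a * σ⁻¹ ∈ Q' := by
    intro h
    obtain ⟨a, ha, e, he, eσ⟩ := hN' h
    have ha1 : a = 1 := by
      refine hnoFix τ htD htu.2 a ha ?_
      have h1 : σ * τ = τ * σ := Subtype.ext H.st
      rw [← eσ] at h1
      have h2 : e * τ = τ * e := hDc'' e he τ htD
      rw [mul_assoc, h2, ← mul_assoc, ← mul_assoc] at h1
      exact mul_inv_eq_iff_eq_mul.mpr (mul_right_cancel h1).symm
    rw [ha1, one_mul] at eσ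
    have h1 : (x : L) * H.s = H.s * x := congrArg Subtype.val (eσ ▸ hDc'' x hx e he : x * σ = σ * x)
    have hi := H.inverts hxT (H.mem_L1.mp x.2)
    rw [← h1, mul_inv_cancel_right] at hi
    exact hx2 (Subtype.ext (mul_eq_one_iff_eq_inv.mpr hi))
  let g : (Q' × D') ⊕ (Q' × Q' × D') → N1 := Sum.elim
    (fun p => ⟨(p.1 : H.L1) * p.2, mul_mem (hQN1 p.1.2) (hDN1 p.2.2)⟩)
    (fun p => ⟨(p.1 : H.L1) * σ * p.2.1 * p.2.2, mul_mem (mul_mem (mul_mem (hQN1 p.1.2) hσN1) (hQN1 p.2.1.2)) (hDN1 p.2.2.2)⟩)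
  have hsplit : ∀ {a b : H.L1} {e e' : H.L1}, a ∈ Q' → b ∈ Q' → e ∈ D' → e' ∈ D' → a * e = b * e' →
      a = b ∧ e = e' := by
    intro a b e e' ha hb he he' h
    have h1 : b⁻¹ * a = e' * e⁻¹ := by
      rw [show b⁻¹ * a = b⁻¹ * (a * e) * e⁻¹ by group, h]; group
    have h2 : b⁻¹ * a = 1 :=
      Subgroup.mem_bot.mp (hinf'.le (Subgroup.mem_inf.mpr
        ⟨Q'.mul_mem (Q'.inv_mem hb) ha, h1.symm ▸ D'.mul_mem he' (D'.inv_mem he)⟩))
    have hab : a = b := (inv_mul_eq_one.mp h2).symm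
    exact ⟨hab, by rw [hab] at h; exact mul_left_cancel h⟩
  have hNc : ∀ a ∈ Q', ∀ e ∈ D', ∀ b ∈ Q', (a * e) * b * (a * e)⁻¹ ∈ Q' := fun a ha e he b hb => by
    rw [show (a * e) * b * (a * e)⁻¹ = a * (e * b * e⁻¹) * a⁻¹ by group]
    exact mul_mem (mul_mem ha (hDN' e he b hb)) (inv_mem ha)
  have hg : Function.Injective g := by
    have hmix : ∀ (p : Q' × D') (r : Q' × Q' × D'),
        (p.1 : H.L1) * p.2 ≠ (r.1 : H.L1) * σ * r.2.1 * r.2.2 := by
      intro p r h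
      refine hσQ fun b hb => ?_
      have e : σ = ((r.1 : H.L1))⁻¹ * ((p.1 : H.L1) * p.2) * (r.2.2 : H.L1)⁻¹ * (r.2.1 : H.L1)⁻¹ := by
        rw [h]; group
      set m : H.L1 := ((r.1 : H.L1))⁻¹ * ((p.1 : H.L1) * p.2) * (r.2.2 : H.L1)⁻¹ * (r.2.1 : H.L1)⁻¹
      rw [e, show m * b * m⁻¹ = (r.1 : H.L1)⁻¹ * ((p.1 : H.L1) * ((p.2 : H.L1) * ((r.2.2 : H.L1)⁻¹ *
        ((r.2.1 : H.L1)⁻¹ * b * (r.2.1 : H.L1)) * (r.2.2 : H.L1)⁻¹⁻¹) * (p.2 : H.L1)⁻¹) * (p.1 : H.L1)⁻¹) *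
        (r.1 : H.L1) by simp only [m]; group]
      exact mul_mem (mul_mem (inv_mem r.1.2) (mul_mem (mul_mem p.1.2 (hDN' _ p.2.2 _ (hDN' _ (inv_mem r.2.2.2) _
        (mul_mem (mul_mem (inv_mem r.2.1.2) hb) r.2.1.2)))) (inv_mem p.1.2))) r.1.2
    rintro (p | p) (p' | p') h <;> simp only [g, Sum.elim_inl, Sum.elim_inr, Subtype.mk.injEq] at h
    · obtain ⟨h1, h2⟩ := hsplit p.1.2 p'.1.2 p.2.2 p'.2.2 h
      exact congrArg Sum.inl (Prod.ext (Subtype.ext h1) (Subtype.ext h2))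
    · exact absurd h (hmix p p')
    · exact absurd h.symm (hmix p' p)
    · have h11 : (p.1 : H.L1) = p'.1 := by
        by_contra hne
        -- `σ⁻¹ a σ` normalises `Q'` and has order prime to `|D'|`, so lies in `Q'`
        set a : H.L1 := (p'.1 : H.L1)⁻¹ * p.1 with ha
        have ha' : a ∈ Q' := mul_mem (inv_mem p'.1.2) p.1.2
        have ha1 : a ≠ 1 := fun e => hne (inv_mul_eq_one.mp e).symm
        set b : H.L1 := σ⁻¹ * a * σ with hb
        have hbe : b = (p'.2.1 : H.L1) * ((p'.2.2 : H.L1) * (p.2.2 : H.L1)⁻¹) * (p.2.1 : H.L1)⁻¹ := by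
          rw [hb, ha, show σ⁻¹ * ((p'.1 : H.L1)⁻¹ * p.1) * σ = σ⁻¹ * (p'.1 : H.L1)⁻¹ *
            ((p.1 : H.L1) * σ * p.2.1 * p.2.2) * (p.2.2 : H.L1)⁻¹ * (p.2.1 : H.L1)⁻¹ by group, h]
          group
        set e := (p'.2.2 : H.L1) * (p.2.2 : H.L1)⁻¹ with he
        have heD : e ∈ D' := mul_mem p'.2.2.2 (inv_mem p.2.2.2)
        set a2 := (p'.2.1 : H.L1) * (e * (p.2.1 : H.L1)⁻¹ * e⁻¹) with ha2
        have ha2Q : a2 ∈ Q' := mul_mem p'.2.1.2 (hDN' e heD _ (inv_mem p.2.1.2))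
        have hb2 : b = a2 * e := by rw [hbe, ha2]; group
        have hbq : b ^ Nat.card Q' = 1 := by
          have := orderOf_dvd_iff_pow_eq_one.mp (Subgroup.orderOf_dvd_natCard _ ha')
          rw [hb, show σ⁻¹ * a * σ = σ⁻¹ * a * σ⁻¹⁻¹ by rw [inv_inv], conj_pow, this]
          group
        have he1 : e = 1 := by
          have hk : ∀ j : ℕ, ∃ a3 ∈ Q', b ^ j = a3 * e ^ j := by
            intro j
            induction j with
            | zero => exact ⟨1, one_mem _, by simp⟩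
            | succ j ih =>
              obtain ⟨a3, h3, e3⟩ := ih
              refine ⟨a3 * (e ^ j * a2 * (e ^ j)⁻¹), mul_mem h3 (hDN' _ (pow_mem heD j) _ ha2Q), ?_⟩
              rw [pow_succ, e3, hb2, pow_succ]
              group
          obtain ⟨a3, h3, e3⟩ := hk (Nat.card Q')
          rw [hbq] at e3
          have h4 := (hsplit (one_mem _) h3 (one_mem _) (pow_mem heD _) (by rw [mul_one]; exact e3)).2
          have h5 : orderOf e ∣ Nat.card Q' := orderOf_dvd_of_pow_eq_one h4.symm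
          have h6 : orderOf e ∣ Nat.card D' := Subgroup.orderOf_dvd_natCard _ heD
          refine orderOf_eq_one_iff.mp (Nat.eq_one_of_dvd_coprimes ?_ h5 h6)
          rw [← hcard', Nat.coprime_comm, Nat.coprime_mul_right_add_right]
          exact Nat.coprime_one_right _
        have hbQ : b ∈ Q' := by rw [hb2, he1, mul_one]; exact ha2Q
        have hb1 : b ≠ 1 := fun e' => ha1 (by
          rw [hb] at e'; calc a = σ * (σ⁻¹ * a * σ) * σ⁻¹ := by group
            _ = 1 := by rw [e']; group)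
        refine hσQ fun w hw => ?_
        rw [← hCC' a ha' ha1]
        refine Subgroup.mem_centralizer_singleton_iff.mpr ?_
        have hwb := hcomm w hw b hbQ
        rw [hb] at hwb
        calc σ * w * σ⁻¹ * a = σ * (w * (σ⁻¹ * a * σ)) * σ⁻¹ := by group
          _ = a * (σ * w * σ⁻¹) := by rw [hwb]; group
      rw [h11] at h
      simp only [mul_assoc, mul_right_inj] at h
      obtain ⟨h1, h2⟩ := hsplit p.2.1.2 p'.2.1.2 p.2.2.2 p'.2.2.2 h
      exact congrArg Sum.inr (Prod.ext (Subtype.ext h11) (Prod.ext (Subtype.ext h1) (Subtype.ext h2)))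
  have hle := Nat.card_le_card_of_injective g hg
  simp only [Nat.card_sum, Nat.card_prod] at hle
  have hc1 : Nat.card Q' = q := Subgroup.card_map_of_injective hf
  have hc2 : Nat.card D' = Nat.card D := Subgroup.card_map_of_injective hf
  have hL : Nat.card H.L1 ≤ Nat.card N1 := by
    refine le_trans (le_of_eq ?_) hle
    rw [hc1, hc2]
    have e1 : q - 1 = 2 * Nat.card D := by omega
    rw [e1] at hord
    nlinarith
  have htop : N1 = ⊤ := Subgroup.eq_top_of_le_card _ hL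
  intro k hk
  exact (show (⟨k, hk⟩ : H.L1) ∈ N1 from htop ▸ Subgroup.mem_top _)

end Lin3

end CfsgLib.GL2Cent
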