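import Cfsg.Agent.Lib.BSW.Zassenhaus
import Mathlib.LinearAlgebra.Matrix.ToLin
import Mathlib.LinearAlgebra.Matrix.GeneralLinearGroup.Defs

/-!
The linear configuration at a prime dividing `q + 1`: a finite subgroup of `GL(3)` in which the centraliser of an
involution is an abelian group extended by an inverting involution and the Sylow 2-subgroup is semidihedral.
Here: the involutions and the Brauer–Suzuki–Wall data of the elements of determinant one.
-/

set_option autoImplicit false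
set_option linter.unusedSectionVars false
set_option linter.unusedSimpArgs false

namespace CfsgLib.GL2Cent

open Matrix

universe u v

/-- The configuration. -/
structure Lin3 (K : Type v) [Field K] (L : Type u) [Group L] where
  φ : L →* GL (Fin 3) K
  inj : Function.Injective φ
  two : (2 : K) ≠ 0
  t : L
  s : L
  ρ : L
  T : Subgroup L
  c : ℕ
  hc : 3 ≤ c
  ht : (φ t).1 = Matrix.diagonal ![1, -1, -1]
  hs : (φ s).1 = Matrix.diagonal ![-1, 1, -1]
  comm : ∀ x ∈ T, ∀ y ∈ T, x * y = y * x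
  cent : ∀ x ∈ T, x * t = t * x
  fix0 : ∀ x ∈ T, (φ x).1 0 0 = 1
  mem : ∀ x : L, x * t = t * x → x ∈ T ∨ x * s ∈ T
  ρT : ρ ∈ T
  sρ : s * ρ * s⁻¹ = ρ⁻¹ * t
  ρord : orderOf ρ = 2 ^ c
  exact2 : ¬ 2 ^ (c + 2) ∣ Nat.card L
  fused : IsConj t s

namespace Lin3

variable {K : Type v} [Field K] {L : Type u} [Group L] (H : Lin3 K L)

/-- The matrix of an element. -/
def M (x : L) : Matrix (Fin 3) (Fin 3) K := (H.φ x).1

theorem M_mul (x y : L) : H.M (x * y) = H.M x * H.M y := by simp [M]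

theorem M_one : H.M 1 = 1 := by simp [M]

theorem M_inj {x y : L} (h : H.M x = H.M y) : x = y := H.inj (Units.ext h)

theorem M_t : H.M H.t = Matrix.diagonal ![1, -1, -1] := H.ht

theorem M_s : H.M H.s = Matrix.diagonal ![-1, 1, -1] := H.hs

include H in
theorem ne_neg {a : K} (ha : a ≠ 0) : -a ≠ a := fun e =>
  mul_ne_zero H.two ha (by linear_combination -e)

theorem t_sq : H.t * H.t = 1 := H.M_inj (by
  rw [H.M_mul, H.M_one, H.M_t, diagonal_mul_diagonal, ← diagonal_one]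
  congr 1; funext i; fin_cases i <;> simp)

theorem s_sq : H.s * H.s = 1 := H.M_inj (by
  rw [H.M_mul, H.M_one, H.M_s, diagonal_mul_diagonal, ← diagonal_one]
  congr 1; funext i; fin_cases i <;> simp)

theorem t_ne : H.t ≠ 1 := fun e => by
  have := congrArg (fun x => H.M x 1 1) e
  simp [H.M_t, H.M_one] at this
  exact H.ne_neg one_ne_zero this

theorem s_ne : H.s ≠ 1 := fun e => by
  have := congrArg (fun x => H.M x 0 0) e
  simp [H.M_s, H.M_one] at this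
  exact H.ne_neg one_ne_zero this

theorem s_inv : H.s⁻¹ = H.s := inv_eq_of_mul_eq_one_left H.s_sq

theorem orderOf_t : orderOf H.t = 2 := CfsgLib.Involutions.orderOf_eq_two_iff'.2 ⟨H.t_sq, H.t_ne⟩

theorem orderOf_s : orderOf H.s = 2 := CfsgLib.Involutions.orderOf_eq_two_iff'.2 ⟨H.s_sq, H.s_ne⟩

theorem st : H.s * H.t = H.t * H.s := H.M_inj (by
  rw [H.M_mul, H.M_mul, H.M_t, H.M_s, diagonal_mul_diagonal, diagonal_mul_diagonal]
  congr 1; funext i; exact mul_comm _ _)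

theorem sT : H.s ∉ H.T := fun h => by
  have := H.fix0 _ h
  rw [show (H.φ H.s).1 = H.M H.s from rfl, H.M_s] at this
  simp at this
  exact H.ne_neg one_ne_zero this

theorem tT : H.t ∈ H.T := by
  refine (H.mem H.t rfl).resolve_right fun h => ?_
  have := H.fix0 _ h
  rw [show (H.φ (H.t * H.s)).1 = H.M (H.t * H.s) from rfl, H.M_mul, H.M_t, H.M_s, diagonal_mul_diagonal] at this
  simp at this
  exact H.ne_neg one_ne_zero this

theorem T_shape {x : L} (hx : x ∈ H.T) :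
    H.M x 0 0 = 1 ∧ H.M x 0 1 = 0 ∧ H.M x 0 2 = 0 ∧ H.M x 1 0 = 0 ∧ H.M x 2 0 = 0 := by
  have h := congrArg H.M (H.cent x hx)
  rw [H.M_mul, H.M_mul, H.M_t] at h
  have hij : ∀ i j, H.M x i j * ![(1 : K), -1, -1] j = ![(1 : K), -1, -1] i * H.M x i j := fun i j => by
    have := congrFun (congrFun h i) j
    rwa [Matrix.mul_diagonal, Matrix.diagonal_mul] at this
  have h2 : ∀ a : K, a = -a → a = 0 := fun a e => by_contra fun ha => H.ne_neg ha e.symm
  refine ⟨H.fix0 x hx, ?_, ?_, ?_, ?_⟩ <;> refine h2 _ ?_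
  · simpa using (hij 0 1).symm
  · simpa using (hij 0 2).symm
  · simpa using (hij 1 0)
  · simpa using (hij 2 0)

/-- Entries of a product in `T`. -/
theorem T_mul {x y : L} (hx : x ∈ H.T) (_hy : y ∈ H.T) (i j : Fin 2) :
    H.M (x * y) i.succ j.succ =
      H.M x i.succ 1 * H.M y 1 j.succ + H.M x i.succ 2 * H.M y 2 j.succ := by
  obtain ⟨-, -, -, h10, h20⟩ := H.T_shape hx
  rw [H.M_mul, Matrix.mul_apply, Fin.sum_univ_three]
  fin_cases i <;> simp [h10, h20]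

theorem T_ext {x y : L} (hx : x ∈ H.T) (hy : y ∈ H.T) (h11 : H.M x 1 1 = H.M y 1 1) (h12 : H.M x 1 2 = H.M y 1 2)
    (h21 : H.M x 2 1 = H.M y 2 1) (h22 : H.M x 2 2 = H.M y 2 2) : x = y := by
  obtain ⟨a1, a2, a3, a4, a5⟩ := H.T_shape hx
  obtain ⟨b1, b2, b3, b4, b5⟩ := H.T_shape hy
  refine H.M_inj (Matrix.ext fun i j => ?_)
  fin_cases i <;> fin_cases j <;> simp_all

theorem sTs {x : L} (hx : x ∈ H.T) : H.s * x * H.s⁻¹ ∈ H.T ∧
    H.M (H.s * x * H.s⁻¹) 1 1 = H.M x 1 1 ∧ H.M (H.s * x * H.s⁻¹) 1 2 = -H.M x 1 2 ∧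
    H.M (H.s * x * H.s⁻¹) 2 1 = -H.M x 2 1 ∧ H.M (H.s * x * H.s⁻¹) 2 2 = H.M x 2 2 := by
  have hM : H.M (H.s * x * H.s⁻¹) =
      Matrix.diagonal ![(-1 : K), 1, -1] * H.M x * Matrix.diagonal ![(-1 : K), 1, -1] := by
    rw [H.s_inv, H.M_mul, H.M_mul, H.M_s]
  refine ⟨?_, ?_⟩
  · have hc : H.s * x * H.s⁻¹ * H.t = H.t * (H.s * x * H.s⁻¹) := by
      rw [H.s_inv, mul_assoc (H.s * x), H.st, ← mul_assoc, mul_assoc H.s x H.t, H.cent x hx, ← mul_assoc, H.st,
        mul_assoc, mul_assoc, mul_assoc]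
    refine (H.mem _ hc).resolve_right fun h => ?_
    have h0 := H.fix0 _ h
    rw [show (H.φ (H.s * x * H.s⁻¹ * H.s)).1 = H.M (H.s * x * H.s⁻¹ * H.s) from rfl,
      inv_mul_cancel_right, H.M_mul, H.M_s, Matrix.diagonal_mul, (H.T_shape hx).1] at h0
    simp at h0
    exact H.ne_neg one_ne_zero h0
  · rw [hM]
    simp [Matrix.mul_diagonal, Matrix.diagonal_mul]

/-- The entry `b` of `ρ`. -/
def b : K := H.M H.ρ 1 2

/-- The entry `b'` of `ρ`. -/
def b' : K := H.M H.ρ 2 1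

theorem ρ_eqs : H.M H.ρ 1 1 ^ 2 - H.b * H.b' = -1 ∧ H.b * (H.M H.ρ 1 1 - H.M H.ρ 2 2) = 0 ∧
    H.b' * (H.M H.ρ 1 1 - H.M H.ρ 2 2) = 0 ∧ H.M H.ρ 2 2 ^ 2 - H.b * H.b' = -1 := by
  obtain ⟨hm, e11, e12, e21, e22⟩ := H.sTs H.ρT
  have e : H.s * H.ρ * H.s⁻¹ * H.ρ = H.t := by
    rw [H.sρ, mul_assoc, ← H.cent _ H.ρT, inv_mul_cancel_left]
  have h : ∀ i j : Fin 2, H.M H.t i.succ j.succ = H.M (H.s * H.ρ * H.s⁻¹) i.succ 1 * H.M H.ρ 1 j.succ +
      H.M (H.s * H.ρ * H.s⁻¹) i.succ 2 * H.M H.ρ 2 j.succ := fun i j => by rw [← H.T_mul hm H.ρT, e]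
  have h00 := h 0 0
  have h01 := h 0 1
  have h10 := h 1 0
  have h11 := h 1 1
  simp [H.M_t, e11, e12, e21, e22] at h00 h01 h10 h11
  unfold Lin3.b Lin3.b'
  exact ⟨by linear_combination -h00, by linear_combination -h01, by linear_combination h10,
    by linear_combination -h11⟩

theorem pow_T (k : ℕ) : H.ρ ^ k ∈ H.T := pow_mem H.ρT k

/-- `ρ` is not triangular. -/
theorem b_ne : H.b ≠ 0 ∧ H.b' ≠ 0 := by
  obtain ⟨h1, h2, h3, h4⟩ := H.ρ_eqs
  set a := H.M H.ρ 1 1 with ha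
  set d := H.M H.ρ 2 2 with hd
  have key : H.b * H.b' ≠ 0 := by
    intro hbb
    have ha2 : a ^ 2 = -1 := by linear_combination h1 + hbb
    have hd2 : d ^ 2 = -1 := by linear_combination h4 + hbb
    have e : ∀ i j : Fin 2, H.M (H.ρ ^ 2) i.succ j.succ =
        H.M H.ρ i.succ 1 * H.M H.ρ 1 j.succ + H.M H.ρ i.succ 2 * H.M H.ρ 2 j.succ := fun i j => by
      rw [pow_two, H.T_mul H.ρT H.ρT]
    have r11 := e 0 0; have r12 := e 0 1; have r21 := e 1 0; have r22 := e 1 1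
    simp only [Fin.succ_zero_eq_one, Fin.succ_one_eq_two, ← ha, ← hd, show H.M H.ρ 1 2 = H.b from rfl,
      show H.M H.ρ 2 1 = H.b' from rfl] at r11 r12 r21 r22
    have f : ∀ i j : Fin 2, H.M (H.ρ ^ 4) i.succ j.succ =
        H.M (H.ρ ^ 2) i.succ 1 * H.M (H.ρ ^ 2) 1 j.succ + H.M (H.ρ ^ 2) i.succ 2 * H.M (H.ρ ^ 2) 2 j.succ :=
      fun i j => by rw [show (4 : ℕ) = 2 + 2 from rfl, pow_add, H.T_mul (H.pow_T 2) (H.pow_T 2)]
    have g11 := f 0 0; have g12 := f 0 1; have g21 := f 1 0; have g22 := f 1 1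
    simp only [Fin.succ_zero_eq_one, Fin.succ_one_eq_two, r11, r12, r21, r22] at g11 g12 g21 g22
    set u := H.M (H.ρ ^ 4) 1 2
    set w := H.M (H.ρ ^ 4) 2 1
    have huw : u * w = 0 := by
      rw [g12, g21]
      linear_combination ((a + d) ^ 2 * (a * a + d * d + 2 * (H.b * H.b')) ^ 2) * hbb
    have p11 : H.M (H.ρ ^ 4) 1 1 = 1 := by
      rw [g11]; linear_combination (a * a - 1) * ha2 + (2 * a * a + H.b * H.b' + (a + d) ^ 2) * hbb
    have p22 : H.M (H.ρ ^ 4) 2 2 = 1 := by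
      rw [g22]; linear_combination (d * d - 1) * hd2 + (2 * d * d + H.b * H.b' + (a + d) ^ 2) * hbb
    -- a unipotent element of two-power order is trivial
    have hn : ∀ n : ℕ, H.M ((H.ρ ^ 4) ^ n) 1 1 = 1 ∧ H.M ((H.ρ ^ 4) ^ n) 1 2 = n * u ∧
        H.M ((H.ρ ^ 4) ^ n) 2 1 = n * w ∧ H.M ((H.ρ ^ 4) ^ n) 2 2 = 1 := by
      intro n
      induction n with
      | zero => simp [H.M_one]
      | succ n ih =>
        obtain ⟨i1, i2, i3, i4⟩ := ih
        have g : ∀ i j : Fin 2, H.M ((H.ρ ^ 4) ^ (n + 1)) i.succ j.succ =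
            H.M ((H.ρ ^ 4) ^ n) i.succ 1 * H.M (H.ρ ^ 4) 1 j.succ +
              H.M ((H.ρ ^ 4) ^ n) i.succ 2 * H.M (H.ρ ^ 4) 2 j.succ := fun i j => by
          rw [pow_succ, H.T_mul (pow_mem (H.pow_T 4) n) (H.pow_T 4)]
        have q11 := g 0 0; have q12 := g 0 1; have q21 := g 1 0; have q22 := g 1 1
        simp only [Fin.succ_zero_eq_one, Fin.succ_one_eq_two, i1, i2, i3, i4, p11, p22] at q11 q12 q21 q22
        refine ⟨?_, ?_, ?_, ?_⟩
        · rw [q11]; linear_combination (n : K) * huw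
        · rw [q12]; push_cast; ring
        · rw [q21]; push_cast; ring
        · rw [q22]; linear_combination (n : K) * huw
    have h8 : (H.ρ ^ 4) ^ 2 ^ (H.c - 2) = 1 := by
      rw [← pow_mul, show 4 * 2 ^ (H.c - 2) = 2 ^ H.c by
        rw [show (4 : ℕ) = 2 ^ 2 from rfl, ← pow_add]; congr 1; have := H.hc; omega, ← H.ρord, pow_orderOf_eq_one]
    obtain ⟨-, k2, k3, -⟩ := hn (2 ^ (H.c - 2))
    rw [h8, H.M_one] at k2 k3
    have hne : ((2 ^ (H.c - 2) : ℕ) : K) ≠ 0 := by push_cast; exact pow_ne_zero _ H.two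
    have hu : u = 0 := (mul_eq_zero.mp (k2.symm.trans (by simp))).resolve_left hne
    have hw : w = 0 := (mul_eq_zero.mp (k3.symm.trans (by simp))).resolve_left hne
    have h41 : H.ρ ^ 4 = 1 := H.T_ext (H.pow_T 4) (one_mem _) (by simp [p11, H.M_one])
      (by simp [H.M_one]; exact hu) (by simp [H.M_one]; exact hw) (by simp [p22, H.M_one])
    have := orderOf_dvd_of_pow_eq_one h41
    rw [H.ρord] at this
    have h4' := Nat.le_of_dvd (by norm_num) this
    have : 2 ^ 3 ≤ 2 ^ H.c := Nat.pow_le_pow_right (by norm_num) H.hc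
    omega
  exact ⟨left_ne_zero_of_mul key, right_ne_zero_of_mul key⟩

/-- The elements of `T` as matrices. -/
theorem T_block {x : L} (hx : x ∈ H.T) : H.M x 2 2 = H.M x 1 1 ∧ H.M x 1 2 * H.b' = H.b * H.M x 2 1 := by
  obtain ⟨hb, hb'⟩ := H.b_ne
  obtain ⟨-, h2, -, -⟩ := H.ρ_eqs
  have had : H.M H.ρ 1 1 = H.M H.ρ 2 2 := sub_eq_zero.mp ((mul_eq_zero.mp h2).resolve_left hb)
  have e := H.comm x hx H.ρ H.ρT
  have h00 := H.T_mul hx H.ρT 0 0
  have h01 := H.T_mul hx H.ρT 0 1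
  have k00 := H.T_mul H.ρT hx 0 0
  have k01 := H.T_mul H.ρT hx 0 1
  rw [e] at h00 h01
  simp only [Fin.succ_zero_eq_one, Fin.succ_one_eq_two] at h00 h01 k00 k01
  unfold Lin3.b Lin3.b' at *
  constructor
  · refine mul_left_cancel₀ hb ?_
    linear_combination h01 - k01 - H.M x 1 2 * had
  · linear_combination k00 - h00

/-- The determinant. -/
def χ : L →* K := ((Units.coeHom _).comp (Matrix.GeneralLinearGroup.det.comp H.φ))

theorem χ_eq (x : L) : H.χ x = (H.M x).det := rfl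

theorem χ_t : H.χ H.t = 1 := by simp [H.χ_eq, H.M_t, Fin.prod_univ_three]

theorem χ_s : H.χ H.s = 1 := by simp [H.χ_eq, H.M_s, Fin.prod_univ_three]

theorem χ_T {x : L} (hx : x ∈ H.T) : H.χ x = H.M x 1 1 ^ 2 - H.M x 1 2 * H.M x 2 1 := by
  obtain ⟨h00, h01, h02, -, -⟩ := H.T_shape hx
  rw [H.χ_eq, Matrix.det_fin_three, h00, h01, h02, (H.T_block hx).1]
  ring

theorem χ_ρ : H.χ H.ρ = -1 := by
  rw [H.χ_T H.ρT]; exact H.ρ_eqs.1

/-- `s` inverts `T` up to the determinant. -/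
theorem inverts {x : L} (hx : x ∈ H.T) (h1 : H.χ x = 1) : H.s * x * H.s⁻¹ = x⁻¹ := by
  obtain ⟨hm, e11, e12, e21, e22⟩ := H.sTs hx
  rw [H.χ_T hx] at h1
  obtain ⟨hp, -⟩ := H.T_block hx
  refine eq_inv_of_mul_eq_one_left (H.T_ext (mul_mem hm hx) (one_mem _) ?_ ?_ ?_ ?_)
  · have e := H.T_mul hm hx 0 0
    simp only [Fin.succ_zero_eq_one, Fin.succ_one_eq_two] at e
    rw [e, e11, e12, H.M_one]; simp; linear_combination h1
  · have e := H.T_mul hm hx 0 1
    simp only [Fin.succ_zero_eq_one, Fin.succ_one_eq_two] at e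
    rw [e, e11, e12, hp, H.M_one]; simp; ring
  · have e := H.T_mul hm hx 1 0
    simp only [Fin.succ_zero_eq_one, Fin.succ_one_eq_two] at e
    rw [e, e21, e22, hp, H.M_one]; simp; ring
  · have e := H.T_mul hm hx 1 1
    simp only [Fin.succ_zero_eq_one, Fin.succ_one_eq_two] at e
    rw [e, e21, e22, hp, H.M_one]; simp; linear_combination h1

theorem p_ne_one {x : L} (hx : x ∈ H.T) (h1 : H.χ x = 1) (hne : x ≠ 1) : H.M x 1 1 ≠ 1 := by
  intro e
  rw [H.χ_T hx, e] at h1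
  obtain ⟨hp, hq⟩ := H.T_block hx
  obtain ⟨hb, hb'⟩ := H.b_ne
  have hz : H.M x 1 2 * H.M x 2 1 = 0 := by linear_combination -h1
  have : H.M x 1 2 = 0 ∧ H.M x 2 1 = 0 := by
    rcases mul_eq_zero.mp hz with h | h <;> rw [h] at hq
    · exact ⟨h, (mul_eq_zero.mp (by linear_combination -hq : H.b * H.M x 2 1 = 0)).resolve_left hb⟩
    · exact ⟨(mul_eq_zero.mp (by linear_combination hq : H.M x 1 2 * H.b' = 0)).resolve_right hb', h⟩
  exact hne (H.T_ext hx (one_mem _) (by simp [e, H.M_one]) (by simp [this.1, H.M_one]) (by simp [this.2, H.M_one])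
    (by simp [hp, e, H.M_one]))

/-- A nontrivial element of determinant one in `T` fixes only the line `e₁`. -/
theorem no_fix {x : L} (hx : x ∈ H.T) (h1 : H.χ x = 1) (hne : x ≠ 1) {v w : K}
    (hv : H.M x 1 1 * v + H.M x 1 2 * w = v) (hw : H.M x 2 1 * v + H.M x 2 2 * w = w) : v = 0 ∧ w = 0 := by
  have hp1 := H.p_ne_one hx h1 hne
  rw [H.χ_T hx] at h1
  rw [(H.T_block hx).1] at hw
  have hd : 2 * (1 - H.M x 1 1) ≠ 0 := mul_ne_zero H.two (sub_ne_zero.mpr (Ne.symm hp1))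
  refine ⟨(mul_eq_zero.mp (show (2 * (1 - H.M x 1 1)) * v = 0 from ?_)).resolve_left hd,
    (mul_eq_zero.mp (show (2 * (1 - H.M x 1 1)) * w = 0 from ?_)).resolve_left hd⟩
  · linear_combination (H.M x 1 1 - 1) * hv - H.M x 1 2 * hw - v * h1
  · linear_combination (H.M x 1 1 - 1) * hw - H.M x 2 1 * hv - w * h1

/-- The same for covectors. -/
theorem no_fix_row {x : L} (hx : x ∈ H.T) (h1 : H.χ x = 1) (hne : x ≠ 1) {v w : K}
    (hv : v * H.M x 1 1 + w * H.M x 2 1 = v) (hw : v * H.M x 1 2 + w * H.M x 2 2 = w) : v = 0 ∧ w = 0 := by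
  have hp1 := H.p_ne_one hx h1 hne
  rw [H.χ_T hx] at h1
  rw [(H.T_block hx).1] at hw
  have hd : 2 * (1 - H.M x 1 1) ≠ 0 := mul_ne_zero H.two (sub_ne_zero.mpr (Ne.symm hp1))
  refine ⟨(mul_eq_zero.mp (show (2 * (1 - H.M x 1 1)) * v = 0 from ?_)).resolve_left hd,
    (mul_eq_zero.mp (show (2 * (1 - H.M x 1 1)) * w = 0 from ?_)).resolve_left hd⟩
  · linear_combination (H.M x 1 1 - 1) * hv - H.M x 2 1 * hw - v * h1
  · linear_combination (H.M x 1 1 - 1) * hw - H.M x 1 2 * hv - w * h1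

theorem sq_one_T {x : L} (hx : x ∈ H.T) (h1 : H.χ x = 1) (h2 : x * x = 1) : x = 1 ∨ x = H.t := by
  by_cases hne : x = 1
  · exact Or.inl hne
  refine Or.inr ?_
  obtain ⟨a00, a01, a02, a10, a20⟩ := H.T_shape hx
  have e11 := H.T_mul hx hx 0 0
  have e12 := H.T_mul hx hx 0 1
  have e21 := H.T_mul hx hx 1 0
  have e22 := H.T_mul hx hx 1 1
  simp [h2, H.M_one] at e11 e12 e21 e22
  obtain ⟨c1, c2⟩ := H.no_fix hx h1 hne (v := H.M x 1 1 + 1) (w := H.M x 2 1)
    (by linear_combination -e11) (by linear_combination -e21)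
  obtain ⟨c3, c4⟩ := H.no_fix hx h1 hne (v := H.M x 1 2) (w := H.M x 2 2 + 1)
    (by linear_combination -e12) (by linear_combination -e22)
  exact H.T_ext hx H.tT (by simp [H.M_t]; linear_combination c1) (by simp [H.M_t]; exact c3)
    (by simp [H.M_t]; exact c2) (by simp [H.M_t]; linear_combination c4)

end Lin3

end CfsgLib.GL2Cent
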