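import Cfsg.Agent.Lib.GL2Cent.Count
import Cfsg.Agent.Lib.Fusion.GLTwoSylow

/-!
The Sylow 2-subgroup of the involution centraliser is one of the group, and there is one class of involutions.
-/

set_option autoImplicit false
set_option linter.unusedSectionVars false
set_option linter.style.haveILetI false

namespace CfsgLib.GL2Cent

open Matrix

variable {G : Type*} [Group G] {F : Type*} [Field F]

/-- The diagonal matrices with signs. -/
noncomputable def signs : Subgroup (GL (Fin 2) F) :=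
  ((powMonoidHom 2 : Fˣ × Fˣ →* Fˣ × Fˣ).ker).map dgHom

theorem mem_signs {g : GL (Fin 2) F} :
    g ∈ (signs : Subgroup (GL (Fin 2) F)) ↔ g = 1 ∨ g = dg (-1) (-1) ∨ g = dg 1 (-1) ∨ g = dg (-1) 1 := by
  constructor
  · rintro ⟨⟨b, c⟩, hbc, rfl⟩
    have h1 : b ^ 2 = 1 ∧ c ^ 2 = 1 := Prod.ext_iff.mp hbc
    have hs : ∀ b : Fˣ, b ^ 2 = 1 → b = 1 ∨ b = -1 := fun b hb => (sq_eq_one_iff.mp
      (show (b : F) ^ 2 = 1 by rw [← Units.val_pow_eq_pow_val, hb, Units.val_one])).imp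
        (fun e => Units.ext e) (fun e => Units.ext (by simpa using e))
    show dg b c = 1 ∨ dg b c = _ ∨ dg b c = _ ∨ dg b c = _
    rcases hs b h1.1 with rfl | rfl <;> rcases hs c h1.2 with rfl | rfl <;> simp [dg_one]
  · rintro (rfl | rfl | rfl | rfl)
    · exact one_mem _
    · exact ⟨(-1, -1), by simp [MonoidHom.mem_ker, Prod.ext_iff], rfl⟩
    · exact ⟨(1, -1), by simp [MonoidHom.mem_ker, Prod.ext_iff], rfl⟩
    · exact ⟨(-1, 1), by simp [MonoidHom.mem_ker, Prod.ext_iff], rfl⟩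

/-- The monomial matrices. -/
noncomputable def monom : Subgroup (GL (Fin 2) F) := dgHom.range ⊔ Subgroup.zpowers ww

theorem ww_mem_normalizer [Fintype F] :
    (ww : GL (Fin 2) F) ∈ Subgroup.normalizer ((dgHom (F := F)).range : Set (GL (Fin 2) F)) := by
  classical
  refine Subgroup.mem_normalizer_fintype fun x hx => ?_
  obtain ⟨⟨a, b⟩, rfl⟩ := hx
  exact ⟨(b, a), (ww_conj_dg a b).symm⟩

theorem signs_conj {m g : GL (Fin 2) F} (hm : m ∈ (monom : Subgroup (GL (Fin 2) F)))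
    (hg : g ∈ (signs : Subgroup (GL (Fin 2) F))) : m * g * m⁻¹ ∈ (signs : Subgroup (GL (Fin 2) F)) := by
  have h1 : monom ≤ Subgroup.normalizer ((signs : Subgroup (GL (Fin 2) F)) : Set (GL (Fin 2) F)) := by
    refine sup_le ?_ (Subgroup.zpowers_le.mpr ?_)
    · rintro _ ⟨⟨a, b⟩, rfl⟩
      refine Subgroup.mem_normalizer_iff.mpr fun x => ?_
      have hfix : ∀ y ∈ (signs : Subgroup (GL (Fin 2) F)), ∀ a b : Fˣ, dg a b * y * (dg a b)⁻¹ = y := by
        rintro _ ⟨⟨c, d⟩, -, rfl⟩ a b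
        show dg a b * dg c d * (dg a b)⁻¹ = dg c d
        rw [mul_inv_eq_iff_eq_mul, dg_mul, dg_mul, mul_comm a, mul_comm b]
      refine ⟨fun hx => by rw [show dgHom (a, b) = dg a b from rfl, hfix x hx]; exact hx, fun hx => ?_⟩
      have := hfix _ hx a⁻¹ b⁻¹
      rw [show dgHom (a, b) = dg a b from rfl] at hx this
      rw [← dg_inv, inv_inv] at this
      rw [show x = (dg a b)⁻¹ * (dg a b * x * (dg a b)⁻¹) * dg a b by group, this]
      exact hx
    · have hw : ∀ y ∈ (signs : Subgroup (GL (Fin 2) F)), ww * y * ww⁻¹ ∈ (signs : Subgroup (GL (Fin 2) F)) := by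
        rintro _ ⟨⟨c, d⟩, hcd, rfl⟩
        exact ⟨(d, c), Prod.ext (Prod.ext_iff.mp hcd).2 (Prod.ext_iff.mp hcd).1, (ww_conj_dg c d).symm⟩
      refine Subgroup.mem_normalizer_iff.mpr fun x => ⟨hw x, fun hx => ?_⟩
      have := hw _ hx
      rw [show (ww : GL (Fin 2) F)⁻¹ = ww from inv_eq_of_mul_eq_one_right ww_mul_self] at this
      rwa [show ww * (ww * x * ww) * ww = ww * ww * x * (ww * ww) by simp only [mul_assoc], ww_mul_self, one_mul,
        mul_one] at this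
  exact (Subgroup.mem_normalizer_iff.mp (h1 hm) g).mp hg

theorem card_monom [Fintype F] : Nat.card (monom : Subgroup (GL (Fin 2) F)) = 2 * (Fintype.card F - 1) ^ 2 := by
  have hinj : Function.Injective (dgHom : Fˣ × Fˣ →* GL (Fin 2) F) := dgHom_inj
  rw [monom, CfsgLib.GLTwoSylow.card_double _ (by rw [ww_mul_self]; exact one_mem _) ww_mem_normalizer ?_,
    ← Nat.card_congr (MonoidHom.ofInjective hinj).toEquiv, Nat.card_prod, Nat.card_units, Nat.card_eq_fintype_card,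
    pow_two]
  rintro ⟨⟨a, b⟩, e⟩
  exact a.ne_zero (by simpa [dgHom, dg, ww] using entry e 0 0)

namespace Hyp

variable {f : GL (Fin 2) F →* G} (hf : Hyp f) [Finite G] [IsSimpleGroup G] [Fintype F] (h2 : (2 : F) ≠ 0)
include hf h2

omit h2 in
theorem two_inj {P : Subgroup (GL (Fin 2) F)} (hP : IsPGroup 2 P) : Function.Injective (f.subgroupMap P) := by
  refine (injective_iff_map_eq_one _).mpr fun x hx => ?_
  have hx' : (x : GL (Fin 2) F) ∈ f.ker := f.mem_ker.mpr (congrArg Subtype.val hx)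
  obtain ⟨k, hk⟩ := IsPGroup.iff_orderOf.mp hP x
  have h1 : orderOf (x : GL (Fin 2) F) ∣ Nat.card f.ker := Subgroup.orderOf_dvd_natCard _ hx'
  rw [Subgroup.orderOf_coe, hk] at h1
  refine orderOf_eq_one_iff.mp (hk.trans ?_)
  exact Nat.eq_one_of_dvd_coprimes ((Nat.coprime_two_left.mpr hf.kero).pow_left k) dvd_rfl h1

/-- A Sylow subgroup of `GL(2, F)` gives one of the group. -/
theorem sylow_two (P : Sylow 2 (GL (Fin 2) F)) :
    ∃ S : Sylow 2 G, (S : Subgroup G) = (P : Subgroup (GL (Fin 2) F)).map f := by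
  haveI : Fact (Nat.Prime 2) := ⟨Nat.prime_two⟩
  set S0 := (P : Subgroup (GL (Fin 2) F)).map f with hS0
  obtain ⟨Q, hQ⟩ := (P.2.map f : IsPGroup 2 S0).exists_le_sylow
  refine ⟨Q, (Subgroup.eq_of_le_of_card_ge hQ ?_).symm⟩
  have htt : tt f ∈ (Q : Subgroup G) := by
    refine hQ ⟨dg (-1) (-1), ?_, rfl⟩
    have hord : (dg (-1 : Fˣ) (-1)) ^ 2 = (1 : GL (Fin 2) F) := by rw [pow_two, dg_mul]; simp [dg_one]
    obtain ⟨R, hR⟩ := (IsPGroup.of_card (n := 1) (by
      rw [Nat.card_zpowers, pow_one, orderOf_eq_prime hord fun e => hf.tt_ne h2 (by rw [tt, e, map_one])]) :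
      IsPGroup 2 (Subgroup.zpowers (dg (-1 : Fˣ) (-1)))).exists_le_sylow
    obtain ⟨g, rfl⟩ := MulAction.exists_smul_eq (GL (Fin 2) F) R P
    refine ⟨dg (-1) (-1), hR (Subgroup.mem_zpowers _), ?_⟩
    show g * dg (-1) (-1) * g⁻¹ = _
    rw [Subgroup.mem_center_iff.mp (scalar_central (-1 : Fˣ)) g, mul_inv_cancel_right]
  haveI : Nontrivial (Q : Subgroup G) :=
    ⟨⟨⟨_, htt⟩, 1, fun e => hf.tt_ne h2 (congrArg Subtype.val e)⟩⟩
  haveI := Q.2.center_nontrivial
  obtain ⟨z, hz⟩ := exists_prime_orderOf_dvd_card' (G := Subgroup.center (Q : Subgroup G)) 2 (by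
    obtain ⟨e, he⟩ := IsPGroup.iff_card.mp (Q.2.to_subgroup (Subgroup.center (Q : Subgroup G)))
    rw [he]
    refine dvd_pow_self 2 fun e0 => ?_
    rw [e0, pow_zero] at he
    exact not_subsingleton _ ((Nat.card_eq_one_iff_unique.mp he).1))
  set z' : G := ((z : (Q : Subgroup G)) : G)
  have hzc : ∀ s ∈ (Q : Subgroup G), s * z' = z' * s := fun s hs =>
    congrArg Subtype.val (Subgroup.mem_center_iff.mp z.2 ⟨s, hs⟩)
  have hzz : z' * z' = 1 := by
    have := pow_orderOf_eq_one z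
    rw [hz, pow_two] at this
    exact congrArg (fun y : Subgroup.center (Q : Subgroup G) => ((y : (Q : Subgroup G)) : G)) this
  have hz1 : z' ≠ 1 := fun e => by
    rw [show z = 1 from Subtype.ext (Subtype.ext e), orderOf_one] at hz
    omega
  obtain ⟨g, hg⟩ : ∃ g, g * z' * g⁻¹ = tt f := by
    rcases hf.inv_cases h2 (hzc _ htt).symm hzz with h | h | ⟨c, hc⟩
    · exact absurd h hz1
    · exact ⟨1, by rw [h]; group⟩
    · obtain ⟨k, hk⟩ := hf.conj_uu h2
      exact ⟨k * f c, by rw [← hk, ← hc]; group⟩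
  -- `Q` lies in a conjugate of the centraliser
  have hle : (Q : Subgroup G).map (MulAut.conj g).toMonoidHom ≤ f.range := by
    rintro _ ⟨s, hs, rfl⟩
    rw [hf.range, Subgroup.mem_centralizer_singleton_iff, ← hg]
    simp only [MulEquiv.toMonoidHom_eq_coe, MonoidHom.coe_coe, MulAut.conj_apply]
    calc g * s * g⁻¹ * (g * z' * g⁻¹) = g * (s * z') * g⁻¹ := by group
      _ = g * (z' * s) * g⁻¹ := by rw [hzc s hs]
      _ = _ := by group
  have hd := Subgroup.card_dvd_of_le hle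
  rw [Subgroup.card_map_of_injective (MulEquiv.injective _)] at hd
  have hd2 : Nat.card (Q : Subgroup G) ∣ Nat.card (GL (Fin 2) F) := by
    rw [← f.ker.card_mul_index, Subgroup.index_ker]
    exact hd.mul_left _
  obtain ⟨k, hk⟩ := IsPGroup.iff_card.mp Q.2
  rw [hk, ← Nat.card_congr (Equiv.ofBijective _ ⟨hf.two_inj P.2, f.subgroupMap_surjective _⟩),
    P.card_eq_multiplicity]
  rw [hk] at hd2
  exact Nat.pow_le_pow_right two_pos ((Nat.prime_two.pow_dvd_iff_le_factorization Nat.card_pos.ne').mp hd2)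

/-- All involutions are conjugate. -/
theorem conj_tt {x : G} (hx : x * x = 1) (hx1 : x ≠ 1) : ∃ g, g * x * g⁻¹ = tt f := by
  haveI : Fact (Nat.Prime 2) := ⟨Nat.prime_two⟩
  obtain ⟨P⟩ : Nonempty (Sylow 2 (GL (Fin 2) F)) := inferInstance
  obtain ⟨S, hS⟩ := hf.sylow_two h2 P
  obtain ⟨R, hR⟩ := (IsPGroup.of_card (n := 1) (by
    rw [Nat.card_zpowers, pow_one, orderOf_eq_prime (by rw [pow_two, hx]) hx1]) :
    IsPGroup 2 (Subgroup.zpowers x)).exists_le_sylow
  obtain ⟨g, hg⟩ := MulAction.exists_smul_eq G R S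
  have hm : g * x * g⁻¹ ∈ (S : Subgroup G) := by
    rw [← hg]; exact ⟨x, hR (Subgroup.mem_zpowers x), rfl⟩
  rw [hS] at hm
  obtain ⟨m, -, hm'⟩ := hm
  have hxx : g * x * g⁻¹ * (g * x * g⁻¹) = 1 := by
    rw [show g * x * g⁻¹ * (g * x * g⁻¹) = g * (x * x) * g⁻¹ by group, hx]; group
  rcases hf.inv_cases h2 (hf.mem_cent.mpr ⟨m, hm'⟩) hxx with h | h | ⟨c, hc⟩
  · exact absurd (conj_eq_one_iff.mp h) hx1
  · exact ⟨g, h⟩
  · obtain ⟨k, hk⟩ := hf.conj_uu h2
    exact ⟨k * f c * g, by rw [← hk, ← hc]; group⟩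

end Hyp

end CfsgLib.GL2Cent
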