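import Cfsg.Agent.Lib.GL2Cent.RGroup
import Cfsg.Agent.Lib.GL2Cent.OneClass
import Cfsg.Agent.Lib.AbelianTwoComplement.Main

/-!
The nonsplit torus of `GL(2, F)` for `|F| ≡ 3 (mod 4)` as the centraliser of a square root of `-1`, and its image in
the involution centraliser.
-/

set_option autoImplicit false
set_option linter.unusedSectionVars false
set_option linter.unusedSimpArgs false
set_option linter.style.haveILetI false

namespace CfsgLib.GL2Cent

open Matrix

variable {F : Type*} [Field F]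

/-- A square root of `-1`. -/
noncomputable def jj : GL (Fin 2) F := mk2 0 (-1) 1 0 (by simp)

/-- The nonsplit torus. -/
noncomputable def tor0 : Subgroup (GL (Fin 2) F) := Subgroup.centralizer {(jj : GL (Fin 2) F)}

theorem mem_tor0 {g : GL (Fin 2) F} :
    g ∈ (tor0 : Subgroup (GL (Fin 2) F)) ↔ g.1 0 0 = g.1 1 1 ∧ g.1 0 1 = -g.1 1 0 := by
  rw [tor0, Subgroup.mem_centralizer_singleton_iff]
  constructor
  · intro e
    have e00 := entry e 0 0
    have e01 := entry e 0 1
    simp [mul_apply', jj] at e00 e01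
    exact ⟨e01, e00⟩
  · rintro ⟨h1, h2⟩
    apply ext2 <;> simp [mul_apply', jj, h1, h2]

theorem tor0_comm {g h : GL (Fin 2) F} (hg : g ∈ (tor0 : Subgroup (GL (Fin 2) F)))
    (hh : h ∈ (tor0 : Subgroup (GL (Fin 2) F))) : g * h = h * g := by
  obtain ⟨g1, g2⟩ := mem_tor0.mp hg
  obtain ⟨h1, h2⟩ := mem_tor0.mp hh
  apply ext2 <;> simp [mul_apply', g1, g2, h1, h2] <;> ring

theorem dg_mem_tor0 (a : Fˣ) : dg a a ∈ (tor0 : Subgroup (GL (Fin 2) F)) := mem_tor0.mpr (by simp [dg])

theorem center_le_tor0 : Subgroup.center (GL (Fin 2) F) ≤ tor0 := fun g hg => by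
  obtain ⟨a, rfl⟩ := exists_scalar hg
  exact dg_mem_tor0 a

/-- Conjugation by the reflection inverts the torus up to the determinant. -/
theorem refl_tor0 {g : GL (Fin 2) F} (hg : g ∈ (tor0 : Subgroup (GL (Fin 2) F))) :
    dg 1 (-1) * g * dg 1 (-1) * g = dg (Matrix.GeneralLinearGroup.det g) (Matrix.GeneralLinearGroup.det g) := by
  obtain ⟨g1, g2⟩ := mem_tor0.mp hg
  apply ext2 <;> simp [mul_apply', dg, Matrix.det_fin_two, g1, g2] <;> ring

theorem refl_mem_tor0 {g : GL (Fin 2) F} (hg : g ∈ (tor0 : Subgroup (GL (Fin 2) F))) :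
    dg 1 (-1) * g * dg 1 (-1) ∈ (tor0 : Subgroup (GL (Fin 2) F)) := by
  obtain ⟨g1, g2⟩ := mem_tor0.mp hg
  rw [mem_tor0]
  simp [mul_apply', dg, g1, g2]

/-- A nonscalar element determines the torus. -/
theorem cent_tor0 {g y : GL (Fin 2) F} (hy : y ∈ (tor0 : Subgroup (GL (Fin 2) F)))
    (hyc : y ∉ Subgroup.center (GL (Fin 2) F)) (h : g * y = y * g) : g ∈ (tor0 : Subgroup (GL (Fin 2) F)) :=
  Subgroup.mem_centralizer_singleton_iff.mpr
    (cent_nonscalar hyc h (Subgroup.mem_centralizer_singleton_iff.mp hy).symm)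

section Three

variable (hns : ∀ x : F, x * x ≠ -1)
include hns

theorem tor0_sq_one {g : GL (Fin 2) F} (hg : g ∈ (tor0 : Subgroup (GL (Fin 2) F))) (h : g * g = 1) :
    g = 1 ∨ g = dg (-1) (-1) := by
  obtain ⟨g1, g2⟩ := mem_tor0.mp hg
  have e00 := entry h 0 0
  have e10 := entry h 1 0
  simp [mul_apply', g2, ← g1] at e00 e10
  rcases eq_or_ne (g.1 1 0) 0 with hb | hb
  · rcases mul_self_eq_one_iff.mp (show g.1 0 0 * g.1 0 0 = 1 by rw [hb] at e00; linear_combination e00) with ha | ha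
    · left; apply ext2 <;> simp [g2, ← g1, hb, ha]
    · right; apply ext2 <;> simp [dg, g2, ← g1, hb, ha]
  · exfalso
    by_cases h2 : (2 : F) = 0
    · exact hns 1 (by linear_combination h2)
    have ha : g.1 0 0 = 0 := (mul_eq_zero.mp
      (show g.1 0 0 * (2 * g.1 1 0) = 0 by linear_combination e10)).resolve_right (mul_ne_zero h2 hb)
    rw [ha] at e00
    exact hns (g.1 1 0) (by linear_combination -e00)

/-- The normaliser of the torus. -/
theorem norm_tor0 {g : GL (Fin 2) F} (h : g * jj * g⁻¹ ∈ (tor0 : Subgroup (GL (Fin 2) F))) :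
    g ∈ (tor0 : Subgroup (GL (Fin 2) F)) ∨ g * dg 1 (-1) ∈ (tor0 : Subgroup (GL (Fin 2) F)) := by
  set m := g * jj * g⁻¹ with hm
  have hjm : (jj : GL (Fin 2) F) * jj = dg (-1) (-1) := by apply ext2 <;> simp [mul_apply', jj, dg]
  have hmm : m * m = dg (-1) (-1) := by
    rw [hm, show g * jj * g⁻¹ * (g * jj * g⁻¹) = g * (jj * jj) * g⁻¹ by group, hjm,
      Subgroup.mem_center_iff.mp (scalar_central (-1 : Fˣ)) g, mul_inv_cancel_right]
  obtain ⟨m1, m2⟩ := mem_tor0.mp h
  have e00 := entry hmm 0 0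
  have e10 := entry hmm 1 0
  simp [mul_apply', dg, m2, ← m1] at e00 e10
  have hb : m.1 1 0 ≠ 0 := fun hb => hns (m.1 0 0) (by rw [hb] at e00; linear_combination e00)
  by_cases h2 : (2 : F) = 0
  · exact absurd (show (1 : F) * 1 = -1 by linear_combination h2) (hns 1)
  have ha : m.1 0 0 = 0 := (mul_eq_zero.mp
    (show m.1 0 0 * (2 * m.1 1 0) = 0 by linear_combination e10)).resolve_right (mul_ne_zero h2 hb)
  rw [ha] at e00
  have hmg : g * jj = m * g := by rw [hm, inv_mul_cancel_right]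
  rcases mul_self_eq_one_iff.mp (show m.1 1 0 * m.1 1 0 = 1 by linear_combination -e00) with hc | hc
  · left
    have hj : m = jj := by apply ext2 <;> simp [jj, ← m1, m2, ha, hc]
    exact Subgroup.mem_centralizer_singleton_iff.mpr (hj ▸ hmg)
  · right
    have hu : dg (1 : Fˣ) (-1) * dg 1 (-1) = 1 := by rw [dg_mul]; simp [dg_one]
    have hj : m * jj = 1 := by apply ext2 <;> simp [mul_apply', jj, ← m1, m2, ha, hc]
    have huj : dg (1 : Fˣ) (-1) * jj = m * dg 1 (-1) := by
      apply ext2 <;> simp [mul_apply', dg, jj, ← m1, m2, ha, hc]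
    have h4 : g * m = jj * g := by
      rw [eq_inv_of_mul_eq_one_left hj]
      refine mul_inv_eq_of_eq_mul ?_
      rw [mul_assoc, hmg, ← mul_assoc, mul_eq_one_comm.mp hj, one_mul]
    refine Subgroup.mem_centralizer_singleton_iff.mpr ?_
    rw [mul_assoc, huj, ← mul_assoc, h4, mul_assoc]

variable [Fintype F]

theorem card_tor0 : Nat.card (tor0 : Subgroup (GL (Fin 2) F)) = Fintype.card F ^ 2 - 1 := by
  classical
  have hd : ∀ v : F × F, v ≠ 0 → v.1 * v.1 - (-v.2) * v.2 ≠ 0 := by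
    intro v hv h
    rcases eq_or_ne v.2 0 with hb | hb
    · rw [hb] at h
      exact hv (Prod.ext (mul_self_eq_zero.mp (by linear_combination h)) hb)
    · exact hns (v.1 / v.2) (by field_simp; linear_combination h)
  have e : (tor0 : Subgroup (GL (Fin 2) F)) ≃ {v : F × F // v ≠ 0} :=
    { toFun := fun g => ⟨(g.1.1 0 0, g.1.1 1 0), fun e => by
        obtain ⟨h1, h2⟩ := mem_tor0.mp g.2
        have := det_ne g.1
        simp [Prod.ext_iff] at e
        rw [h2, ← h1, e.1, e.2] at this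
        simp at this⟩
      invFun := fun v => ⟨mk2 v.1.1 (-v.1.2) v.1.2 v.1.1 (hd _ v.2), mem_tor0.mpr (by simp)⟩
      left_inv := fun g => by
        obtain ⟨h1, h2⟩ := mem_tor0.mp g.2
        refine Subtype.ext ?_
        apply ext2 <;> simp [h1, h2]
      right_inv := fun v => by simp }
  rw [Nat.card_congr e, Nat.card_eq_fintype_card, Fintype.card_subtype_compl, Fintype.card_subtype_eq,
    Fintype.card_prod, pow_two]

theorem exists_det_neg_one : ∃ g ∈ (tor0 : Subgroup (GL (Fin 2) F)), Matrix.GeneralLinearGroup.det g = -1 := by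
  obtain ⟨p, hchar, n, hp, hc⟩ := FiniteField.card' F
  haveI : Fact p.Prime := ⟨hp⟩
  haveI := hchar
  obtain ⟨a, b, hab⟩ := CharP.sq_add_sq F p (-1)
  push_cast at hab
  have hne : (a : F) * a - (-(b : F)) * b ≠ 0 := fun h => neg_ne_zero.mpr one_ne_zero (by linear_combination h - hab)
  refine ⟨mk2 (a : F) (-(b : F)) (b : F) (a : F) hne, mem_tor0.mpr (by simp), Units.ext ?_⟩
  simp [Matrix.det_fin_two]
  linear_combination hab

theorem isCyclic_two {S : Subgroup (GL (Fin 2) F)} (hS : IsPGroup 2 S) (hle : S ≤ tor0) : IsCyclic S :=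
  CfsgLib.AbTwoCompl.isCyclic_of_unique_involution hS (fun _ ha _ hb => tor0_comm (hle ha) (hle hb))
    (z := dg (-1) (-1)) fun w hw ho => by
      obtain ⟨h1, h2⟩ := CfsgLib.Involutions.orderOf_eq_two_iff'.1 ho
      exact (tor0_sq_one hns (hle hw) h1).resolve_left h2

/-- A generator of the 2-part of the torus. -/
theorem exists_rho (h4 : Fintype.card F % 4 = 3) : ∃ g ∈ (tor0 : Subgroup (GL (Fin 2) F)),
    orderOf g = 2 ^ (Fintype.card F ^ 2 - 1).factorization 2 ∧ Matrix.GeneralLinearGroup.det g = -1 := by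
  classical
  haveI : Fact (Nat.Prime 2) := ⟨Nat.prime_two⟩
  obtain ⟨P⟩ : Nonempty (Sylow 2 (tor0 : Subgroup (GL (Fin 2) F))) := inferInstance
  set S := (P : Subgroup (tor0 : Subgroup (GL (Fin 2) F))).map (tor0 : Subgroup (GL (Fin 2) F)).subtype
  have hS : IsPGroup 2 S := P.2.map _
  haveI := isCyclic_two hns hS (Subgroup.map_subtype_le _)
  obtain ⟨⟨g, hgS⟩, hg⟩ := IsCyclic.exists_ofOrder_eq_natCard (α := S)
  have hord : orderOf g = 2 ^ (Fintype.card F ^ 2 - 1).factorization 2 := by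
    rw [← card_tor0 hns, ← P.card_eq_multiplicity, ← Subgroup.card_map_of_injective (Subgroup.subtype_injective _),
      ← hg, Subgroup.orderOf_mk]
  refine ⟨g, Subgroup.map_subtype_le _ hgS, hord, ?_⟩
  -- an element of determinant `-1` has its 2-part in the cyclic group
  obtain ⟨h, hh, hdet⟩ := exists_det_neg_one hns
  set N := Fintype.card F ^ 2 - 1 with hN
  set m := N / 2 ^ N.factorization 2 with hm
  have hN0 : N ≠ 0 := by
    have h1 : 1 < Fintype.card F := Fintype.one_lt_card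
    have : 1 < Fintype.card F ^ 2 := Nat.one_lt_pow two_ne_zero h1
    omega
  have hmN : 2 ^ N.factorization 2 * m = N := Nat.ordProj_mul_ordCompl_eq_self N 2
  have hmo : Odd m := Nat.not_even_iff_odd.mp fun he =>
    Nat.not_dvd_ordCompl Nat.prime_two hN0 (even_iff_two_dvd.mp he)
  have hhm : (h ^ m) ^ (2 ^ N.factorization 2) = 1 := by
    rw [← pow_mul, mul_comm, hmN, hN, ← card_tor0 hns]
    exact orderOf_dvd_iff_pow_eq_one.mp (Subgroup.orderOf_dvd_natCard _ hh)
  have hmS : h ^ m ∈ Subgroup.zpowers g := by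
    set w : (tor0 : Subgroup (GL (Fin 2) F)) := ⟨h ^ m, pow_mem hh m⟩
    have hw : w ^ (2 ^ N.factorization 2) = 1 := Subtype.ext hhm
    have hpw : IsPGroup 2 (Subgroup.zpowers w) := by
      obtain ⟨k, -, hk⟩ := (Nat.dvd_prime_pow Nat.prime_two).mp (orderOf_dvd_of_pow_eq_one hw)
      exact IsPGroup.of_card (n := k) (by rw [Nat.card_zpowers, hk])
    obtain ⟨Q, hQ⟩ := hpw.exists_le_sylow
    haveI : (Q : Subgroup (tor0 : Subgroup (GL (Fin 2) F))).Normal := ⟨fun x hx y => by
      rwa [show y * x = x * y from Subtype.ext (tor0_comm y.2 x.2), mul_inv_cancel_right]⟩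
    haveI := Sylow.unique_of_normal Q inferInstance
    have hQP : Q = P := Subsingleton.elim _ _
    have hwS : (⟨h ^ m, _⟩ : S) ∈ Subgroup.zpowers (⟨g, hgS⟩ : S) :=
      (Subgroup.eq_top_of_card_eq _ ((Nat.card_zpowers _).trans hg)).symm ▸
        Subgroup.mem_top (⟨h ^ m, ⟨w, hQP ▸ hQ (Subgroup.mem_zpowers w), rfl⟩⟩ : S)
    obtain ⟨i, hi⟩ := hwS
    exact ⟨i, congrArg Subtype.val hi⟩
  obtain ⟨i, hi⟩ := hmS
  have hd : Matrix.GeneralLinearGroup.det g ^ 2 = 1 := by
    have h1 : Matrix.GeneralLinearGroup.det g ^ (2 ^ N.factorization 2) = 1 := by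
      rw [← map_pow, ← hord, pow_orderOf_eq_one, map_one]
    have h2 : Matrix.GeneralLinearGroup.det g ^ (Fintype.card F - 1) = 1 :=
      Units.ext (by simpa using FiniteField.pow_card_sub_one_eq_one _ (Matrix.GeneralLinearGroup.det g).ne_zero)
    obtain ⟨j, hj, hj'⟩ := (Nat.dvd_prime_pow Nat.prime_two).mp (orderOf_dvd_of_pow_eq_one h1)
    have h3 : 2 ^ j ∣ Fintype.card F - 1 := hj' ▸ orderOf_dvd_of_pow_eq_one h2
    refine orderOf_dvd_iff_pow_eq_one.mp ?_
    rw [hj']
    rcases le_or_gt j 1 with h | h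
    · exact (pow_dvd_pow 2 h).trans (by norm_num)
    · have : 4 ∣ Fintype.card F - 1 := (pow_dvd_pow 2 h).trans h3
      omega
  have hd' : Matrix.GeneralLinearGroup.det g ^ i = -1 := by
    rw [← map_zpow, show g ^ i = h ^ m from hi, map_pow, hdet, hmo.neg_one_pow]
  have hsq : ∀ d : Fˣ, d ^ 2 = 1 → d = 1 ∨ d = -1 := fun d hd => (sq_eq_one_iff.mp
    (show (d : F) ^ 2 = 1 by rw [← Units.val_pow_eq_pow_val, hd, Units.val_one])).imp
      (fun e => Units.ext e) (fun e => Units.ext (by simpa using e))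
  refine (hsq _ hd).resolve_left fun e => ?_
  rw [e, _root_.one_zpow] at hd'
  exact hns 1 (by rw [one_mul]; simpa using congrArg Units.val hd')

end Three

end CfsgLib.GL2Cent
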