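import Cfsg.Agent.Lib.GL2Cent.Frame
import Cfsg.Agent.Lib.GL2Cent.OneClass
import Cfsg.Agent.Lib.CentrallyLarge

/-!
The product of two commuting root groups: its centraliser and normaliser.
-/

set_option autoImplicit false
set_option linter.unusedSectionVars false
set_option linter.style.haveILetI false

namespace CfsgLib.GL2Cent

open Matrix

variable {G : Type*} [Group G] {F : Type*} [Field F]

/-- The product of the two root groups. -/
noncomputable def qq (f f' : GL (Fin 2) F →* G) : Subgroup G := root f ⊔ root f'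

/-- The two root groups commute. -/
def Adj (f f' : GL (Fin 2) F →* G) : Prop := ∀ x ∈ root f, ∀ y ∈ root f', x * y = y * x

theorem Adj.symm {f f' : GL (Fin 2) F →* G} (h : Adj f f') : Adj f' f := fun x hx y hy => (h y hy x hx).symm

theorem qq_comm (f f' : GL (Fin 2) F →* G) : qq f' f = qq f f' := sup_comm _ _

theorem qq_mem {f f' : GL (Fin 2) F →* G} (hc : Adj f f') {x : G} :
    x ∈ qq f f' ↔ ∃ a ∈ root f, ∃ b ∈ root f', x = a * b := by
  constructor
  · intro hx
    have hn : root f ≤ Subgroup.normalizer (root f' : Set G) := fun a ha =>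
      Subgroup.mem_normalizer_iff.mpr fun b => by
        refine ⟨fun hb => by rw [hc a ha b hb, mul_inv_cancel_right]; exact hb, fun hb => ?_⟩
        have e := hc a⁻¹ (inv_mem ha) _ hb
        rw [show a⁻¹ * (a * b * a⁻¹) = b * a⁻¹ by group] at e
        rw [← mul_right_cancel e.symm]; exact hb
    have e := Subgroup.coe_mul_of_left_le_normalizer_right (root f) (root f') hn
    have hx' : x ∈ ((root f ⊔ root f' : Subgroup G) : Set G) := hx
    rw [e] at hx'
    obtain ⟨a, ha, b, hb, e'⟩ := Set.mem_mul.mp hx'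
    exact ⟨a, ha, b, hb, e'.symm⟩
  · rintro ⟨a, ha, b, hb, rfl⟩
    exact mul_mem (Subgroup.mem_sup_left ha) (Subgroup.mem_sup_right hb)

namespace Pair

variable {f f' : GL (Fin 2) F →* G} (h : Pair f f') (hc : Adj f f') [Finite G] [IsSimpleGroup G] [Fintype F]
  (h2 : (2 : F) ≠ 0)
include h hc h2

theorem qq_unique {a a' b b' : G} (ha : a ∈ root f) (ha' : a' ∈ root f) (hb : b ∈ root f') (hb' : b' ∈ root f')
    (e : a * b = a' * b') : a = a' ∧ b = b' := by
  have h1 : a'⁻¹ * a = b' * b⁻¹ := by rw [inv_mul_eq_iff_eq_mul, ← mul_assoc, eq_mul_inv_iff_mul_eq]; exact e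
  have h0 : a'⁻¹ * a = 1 := h.root_cent_eq_one h2 (mul_mem (inv_mem ha') ha) (by
    rw [h1]; exact root_tt_mem h.hf' (mul_mem hb' (inv_mem hb)))
  have ha0 := (inv_mul_eq_one.mp h0).symm
  exact ⟨ha0, mul_left_cancel (by rw [e, ha0] : a * b = a * b')⟩

theorem qq_card : Nat.card (qq f f') = Fintype.card F ^ 2 := by
  symm
  rw [pow_two]
  nth_rw 1 [← h.hf.card_root]
  rw [← h.hf'.card_root, ← Nat.card_prod]
  refine Nat.card_congr (Equiv.ofBijective
    (fun v => (⟨(v.1 : G) * v.2, (qq_mem hc).mpr ⟨_, v.1.2, _, v.2.2, rfl⟩⟩ : qq f f')) ⟨fun v w e => ?_, fun x => ?_⟩)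
  · obtain ⟨e1, e2⟩ := h.qq_unique hc h2 v.1.2 w.1.2 v.2.2 w.2.2 (congrArg Subtype.val e)
    exact Prod.ext (Subtype.ext e1) (Subtype.ext e2)
  · obtain ⟨a, ha, b, hb, e⟩ := (qq_mem hc).mp x.2
    exact ⟨(⟨a, ha⟩, ⟨b, hb⟩), Subtype.ext e.symm⟩

theorem qq_conj_tor {k : G} (hk : k ∈ tor f) {x : G} (hx : x ∈ qq f f') : k * x * k⁻¹ ∈ qq f f' := by
  obtain ⟨a, ha, b, hb, rfl⟩ := (qq_mem hc).mp hx
  exact (qq_mem hc).mpr ⟨_, h.hf.tor_conj_root h2 hk ha, _,
    h.hf'.tor_conj_root h2 (h.htor.symm ▸ hk) hb, by group⟩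

theorem qq_inv_third {x : G} (hx : x ∈ qq f f') : tt f * tt f' * x * (tt f * tt f')⁻¹ = x⁻¹ := by
  obtain ⟨a, ha, b, hb, rfl⟩ := (qq_mem hc).mp hx
  have ea : tt f * tt f' * a * (tt f * tt f')⁻¹ = a⁻¹ := by
    rw [show tt f * tt f' * a * (tt f * tt f')⁻¹ = tt f * (tt f' * a * (tt f')⁻¹) * (tt f)⁻¹ by group,
      h.inv_root h2 ha, ← root_tt_mem h.hf (inv_mem ha), mul_inv_cancel_right]
  have eb : tt f * tt f' * b * (tt f * tt f')⁻¹ = b⁻¹ := by
    rw [h.comm h2, show tt f' * tt f * b * (tt f' * tt f)⁻¹ = tt f' * (tt f * b * (tt f)⁻¹) * (tt f')⁻¹ by group,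
      h.symm.inv_root h2 hb, ← root_tt_mem h.hf' (inv_mem hb), mul_inv_cancel_right]
  rw [show tt f * tt f' * (a * b) * (tt f * tt f')⁻¹ =
    tt f * tt f' * a * (tt f * tt f')⁻¹ * (tt f * tt f' * b * (tt f * tt f')⁻¹) by group, ea, eb, _root_.mul_inv_rev]
  exact hc _ (inv_mem ha) _ (inv_mem hb)

theorem qq_cent {x : G} (hx : x ∈ qq f f') (hxc : x * tt f = tt f * x) : x ∈ root f := by
  obtain ⟨a, ha, b, hb, rfl⟩ := (qq_mem hc).mp hx
  have : b * tt f = tt f * b := by
    rw [mul_assoc, ← mul_assoc (tt f), ← root_tt_mem h.hf ha, mul_assoc] at hxc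
    exact mul_left_cancel hxc
  rw [h.symm.root_cent_eq_one h2 hb this, mul_one]
  exact ha

theorem cent_qq_le : Subgroup.centralizer (qq f f' : Set G) ≤ Subgroup.centralizer (root f : Set G) :=
  Subgroup.centralizer_le (SetLike.coe_subset_coe.mpr le_sup_left)

theorem qq_le_cent : qq f f' ≤ Subgroup.centralizer (qq f f' : Set G) := fun x hx => by
  refine Subgroup.mem_centralizer_iff.mpr fun y hy => ?_
  obtain ⟨a, ha, b, hb, rfl⟩ := (qq_mem hc).mp hx
  obtain ⟨c, hc', d, hd, rfl⟩ := (qq_mem hc).mp hy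
  have e1 : Commute c a := by
    obtain ⟨β, rfl⟩ := mem_root.mp hc'
    obtain ⟨γ, rfl⟩ := mem_root.mp ha
    show _ = _
    rw [← map_mul, ← map_mul, xr_add, xr_add, add_comm]
  have e2 : Commute d b := by
    obtain ⟨β, rfl⟩ := mem_root.mp hd
    obtain ⟨γ, rfl⟩ := mem_root.mp hb
    show _ = _
    rw [← map_mul, ← map_mul, xr_add, xr_add, add_comm]
  exact ((e1.mul_right (hc c hc' b hb)).mul_left ((hc a ha d hd).symm |> fun e => Commute.mul_right e e2)).eq

theorem cent_conj_tor {k : G} (hk : k ∈ tor f) {x : G} (hx : x ∈ Subgroup.centralizer (qq f f' : Set G)) :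
    k * x * k⁻¹ ∈ Subgroup.centralizer (qq f f' : Set G) := Subgroup.mem_centralizer_iff.mpr fun y hy => by
  have hy' := Subgroup.mem_centralizer_iff.mp hx (k⁻¹ * y * k) (by
    have := h.qq_conj_tor hc h2 (inv_mem hk) hy
    rwa [inv_inv] at this)
  calc y * (k * x * k⁻¹) = k * (k⁻¹ * y * k * x) * k⁻¹ := by group
    _ = k * (x * (k⁻¹ * y * k)) * k⁻¹ := by rw [hy']
    _ = _ := by group

variable {p : ℕ} [hp : Fact p.Prime] {n : ℕ} (hq : Fintype.card F = p ^ n) (hn : n ≠ 0)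
include hq hn

theorem qq_isPGroup : IsPGroup p (qq f f') :=
  IsPGroup.of_card (n := n * 2) (by rw [h.qq_card hc h2, hq, pow_mul])

theorem cent_odd : Odd (Nat.card (Subgroup.centralizer (qq f f' : Set G))) := by
  haveI : Fact (Nat.Prime 2) := ⟨Nat.prime_two⟩
  rw [← Nat.not_even_iff_odd, even_iff_two_dvd]
  intro hev
  obtain ⟨i, hi⟩ := exists_prime_orderOf_dvd_card' 2 hev
  have hi2 : (i : G) * i = 1 := by
    rw [← Subgroup.coe_mul, ← pow_two, ← hi, pow_orderOf_eq_one, Subgroup.coe_one]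
  have hi1 : (i : G) ≠ 1 := fun e => by
    rw [show i = 1 from Subtype.ext e, orderOf_one] at hi; omega
  obtain ⟨g, hg⟩ := h.hf.conj_tt h2 hi2 hi1
  have hle : (qq f f').map (MulAut.conj g).toMonoidHom ≤ f.range := by
    rintro _ ⟨x, hx, rfl⟩
    rw [h.hf.range, Subgroup.mem_centralizer_singleton_iff, ← hg]
    simp only [MulEquiv.toMonoidHom_eq_coe, MonoidHom.coe_coe, MulAut.conj_apply]
    have e := Subgroup.mem_centralizer_iff.mp i.2 x hx
    calc g * x * g⁻¹ * (g * i * g⁻¹) = g * (x * i) * g⁻¹ := by group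
      _ = g * (i * x) * g⁻¹ := by rw [e]
      _ = _ := by group
  have := h.hf.pgroup_card_le hq hn ((h.qq_isPGroup hc h2 hq hn).map _) hle
  rw [Subgroup.card_map_of_injective (MulEquiv.injective _), h.qq_card hc h2, pow_two] at this
  have h1 : 1 < Fintype.card F := Fintype.one_lt_card
  nlinarith

/-- Either a root group of the third centraliser commutes with both, or the centraliser is as small as possible. -/
theorem cent_cases :
    (∃ g : GL (Fin 2) F →* G, Pair f g ∧ Pair f' g ∧ tt g = tt f * tt f' ∧ Adj f g ∧ Adj f' g) ∨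
    (Nat.card (Subgroup.centralizer (qq f f' : Set G)) =
        Fintype.card F ^ 2 * Nat.card (Subgroup.centralizer (qq f f' : Set G) ⊓ tor f : Subgroup G) ∧
      Subgroup.centralizer (qq f f' : Set G) ⊓ Subgroup.centralizer {tt f * tt f'} =
        Subgroup.centralizer (qq f f' : Set G) ⊓ tor f) := by
  set D := Subgroup.centralizer (qq f f' : Set G) with hD
  have hodd := h.cent_odd hc h2 hq hn
  have hDn : ∀ k ∈ tor f, ∀ x ∈ D, k * x * k⁻¹ ∈ D := fun k hk x hx => h.cent_conj_tor hc h2 hk hx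
  obtain ⟨g, hg1, hg2, hgt⟩ := h.exists_third h2
  have mk : ∀ e : GL (Fin 2) F →* G, Pair f e → Pair f' e → tt e = tt f * tt f' → root e ≤ D →
      ∃ g : GL (Fin 2) F →* G, Pair f g ∧ Pair f' g ∧ tt g = tt f * tt f' ∧ Adj f g ∧ Adj f' g :=
    fun e a b c d => ⟨e, a, b, c,
      fun x hx y hy => Subgroup.mem_centralizer_iff.mp (d hy) x (Subgroup.mem_sup_left hx),
      fun x hx y hy => Subgroup.mem_centralizer_iff.mp (d hy) x (Subgroup.mem_sup_right hx)⟩
  rcases hg1.hf'.odd_normalised_cases h2 hodd (hg1.htor.symm ▸ hDn) with hcase | hcase | hcase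
  · right
    rw [hgt, hg1.htor] at hcase
    have e3 : D ⊓ Subgroup.centralizer {tt f * tt f'} = D ⊓ tor f := le_antisymm (le_inf inf_le_left hcase) fun x hx =>
      ⟨hx.1, Subgroup.mem_centralizer_singleton_iff.mpr (by
        obtain ⟨e1, e2⟩ := (h.tor_iff' h2).mp hx.2
        rw [← mul_assoc, e1, mul_assoc, e2, mul_assoc])⟩
    have hfour := h.four' h2 hodd hDn
    rw [e3, h.hf.card_split h2 hodd (le_sup_left.trans (h.qq_le_cent hc h2)),
      h.hf'.card_split h2 hodd (le_sup_right.trans (h.qq_le_cent hc h2)), h.htor] at hfour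
    refine ⟨Nat.eq_of_mul_eq_mul_right (pow_pos (Nat.card_pos (α := (D ⊓ tor f : Subgroup G))) 2) ?_, e3⟩
    rw [hfour]; ring
  · exact Or.inl (mk g hg1 hg2 hgt hcase)
  · refine Or.inl (mk (flip' g) ⟨hg1.hf, hg1.hf'.flip'_hyp, (tor_flip' g).trans hg1.htor, ?_⟩
      ⟨hg2.hf, hg1.hf'.flip'_hyp, (tor_flip' g).trans hg2.htor, ?_⟩ ((tt_flip' g).trans hgt) hcase)
    · rw [tt_flip']; exact hg1.ne
    · rw [tt_flip']; exact hg2.ne

/-- The normaliser, when no third root group commutes with both. -/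
theorem card_normalizer (hno : ¬ ∃ g : GL (Fin 2) F →* G, Pair f g ∧ Pair f' g ∧ tt g = tt f * tt f' ∧ Adj f g ∧ Adj f' g) :
    Nat.card (Subgroup.normalizer (qq f f' : Set G)) = Fintype.card F ^ 2 *
      Nat.card (Subgroup.normalizer (qq f f' : Set G) ⊓ Subgroup.centralizer {tt f * tt f'} : Subgroup G) := by
  obtain ⟨hcard, hinf⟩ := (h.cent_cases hc h2 hq hn).resolve_left hno
  have hodd := h.cent_odd hc h2 hq hn
  set D := Subgroup.centralizer (qq f f' : Set G) with hD
  set M := Subgroup.normalizer (qq f f' : Set G) with hM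
  set j := tt f * tt f'
  have hjj : j * j = 1 := by
    show tt f * tt f' * (tt f * tt f') = 1
    rw [Commute.mul_mul_mul_comm (show Commute (tt f') (tt f) from (h.comm h2).symm), Hyp.tt_sq, Hyp.tt_sq, one_mul]
  set L := M ⊓ Subgroup.centralizer {j} with hL
  have hDM : D ≤ M := Subgroup.centralizer_le_normalizer _
  have hMD : M ≤ Subgroup.normalizer (D : Set G) := by
    intro m hm
    refine Subgroup.mem_normalizer_fintype fun x hx => Subgroup.mem_centralizer_iff.mpr fun y hy => ?_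
    have hy' := Subgroup.mem_centralizer_iff.mp hx (m⁻¹ * y * m) ((Subgroup.mem_normalizer_iff''.mp hm y).mp hy)
    calc y * (m * x * m⁻¹) = m * (m⁻¹ * y * m * x) * m⁻¹ := by group
      _ = m * (x * (m⁻¹ * y * m)) * m⁻¹ := by rw [hy']
      _ = _ := by group
  have hsup : ∀ m ∈ M, ∃ d ∈ D, ∃ l ∈ L, m = d * l := by
    intro m hm
    set i := m * j * m⁻¹ with hi
    have hii : i * i = 1 := by rw [hi, show m * j * m⁻¹ * (m * j * m⁻¹) = m * (j * j) * m⁻¹ by group, hjj]; group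
    have hinv : ∀ x ∈ qq f f', i * x * i⁻¹ = x⁻¹ := fun x hx => by
      have hx' := h.qq_inv_third hc h2 ((Subgroup.mem_normalizer_iff''.mp hm x).mp hx)
      calc i * x * i⁻¹ = m * (j * (m⁻¹ * x * m) * j⁻¹) * m⁻¹ := by rw [hi]; group
        _ = m * (m⁻¹ * x * m)⁻¹ * m⁻¹ := by rw [hx']
        _ = _ := by group
    have hd : i * j ∈ D := Subgroup.mem_centralizer_iff.mpr fun x hx => by
      have e1 := hinv x⁻¹ (inv_mem hx)
      have e2 := h.qq_inv_third hc h2 hx
      rw [inv_inv, mul_inv_eq_iff_eq_mul] at e1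
      rw [mul_inv_eq_iff_eq_mul] at e2
      calc x * (i * j) = x * i * j := (mul_assoc _ _ _).symm
        _ = i * (x⁻¹ * j) := by rw [← e1]; group
        _ = i * j * x := by rw [← e2]; exact (mul_assoc _ _ _).symm
    obtain ⟨k, hk⟩ := hodd.of_dvd_nat (Subgroup.orderOf_dvd_natCard _ hd)
    have hp1 : (i * j) ^ (2 * k + 1) = 1 := by rw [← hk, pow_orderOf_eq_one]
    set c := (i * j) ^ (k + 1) with hc'
    have hjc : j * c⁻¹ = c * j := by
      have hji : j * (i * j)⁻¹ = i * j * j := by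
        rw [_root_.mul_inv_rev, inv_eq_of_mul_eq_one_right hjj, inv_eq_of_mul_eq_one_right hii, ← mul_assoc, hjj, one_mul,
          mul_assoc i j j, hjj, mul_one]
      rw [hc', ← inv_pow]
      exact ((show SemiconjBy j (i * j)⁻¹ (i * j) from hji).pow_right (k + 1)).eq
    have hci : c * j * c⁻¹ = i := by
      rw [mul_assoc, hjc, ← mul_assoc, hc', ← pow_add, show k + 1 + (k + 1) = 2 * k + 1 + 1 by ring, pow_succ, hp1,
        one_mul, mul_assoc, hjj, mul_one]
    have hcD : c ∈ D := pow_mem hd _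
    refine ⟨c, hcD, c⁻¹ * m, ⟨M.mul_mem (M.inv_mem (hDM hcD)) hm, Subgroup.mem_centralizer_singleton_iff.mpr ?_⟩, by group⟩
    calc c⁻¹ * m * j = c⁻¹ * (m * j * m⁻¹) * m := by group
      _ = c⁻¹ * (c * j * c⁻¹) * m := by rw [hci, hi]
      _ = j * (c⁻¹ * m) := by group
  -- the product formula
  have e : D ⊔ L = M := le_antisymm (sup_le hDM inf_le_left) fun m hm => by
    obtain ⟨d, hd, l, hl, rfl⟩ := hsup m hm
    exact mul_mem (Subgroup.mem_sup_left hd) (Subgroup.mem_sup_right hl)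
  have hDL : D ⊓ L = D ⊓ tor f := by
    rw [← hinf, hL, ← inf_assoc, inf_eq_left.mpr hDM]
  have hprod := CfsgLib.CentrallyLarge.card_sup_mul_card_inf (H := D) (K := L) (inf_le_left.trans hMD)
  rw [e, hDL, hcard] at hprod
  refine Nat.eq_of_mul_eq_mul_right (Nat.card_pos (α := (D ⊓ tor f : Subgroup G))) (hprod.trans ?_)
  ring

end Pair

end CfsgLib.GL2Cent
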