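import Cfsg.Agent.Lib.TwoTransPlane.BlockPlane

/-!
The recognition step of the centraliser characterisation of `PSL₃(q)`: the plane of cosets.
-/

set_option autoImplicit false
set_option linter.unusedVariables false

namespace CfsgLib.GL2Cent

open scoped Pointwise

universe u v

/-- A simple group doubly transitive on a plane of order `q` is `PSL₃(q)`. The order of the group is not needed. -/
theorem psl3_of_plane {G : Type u} [Group G] [Finite G] [IsSimpleGroup G] (hna : ¬ IsMulCommutative G)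
    {F : Type v} [Field F] [Fintype F] {Ω : Type u} [MulAction G Ω] [Finite Ω] (hΩ : Nat.card Ω = Fintype.card F ^ 2 + Fintype.card F + 1)
    (h2 : ∀ a b c d : Ω, a ≠ b → c ≠ d → ∃ g : G, g • a = c ∧ g • b = d)
    (ℓ : Set Ω) (hℓ : Nat.card ℓ = Fintype.card F + 1)
    (hline : ∀ (g : G) (a b : Ω), a ≠ b → a ∈ ℓ → b ∈ ℓ → g • a ∈ ℓ → g • b ∈ ℓ → g • ℓ = ℓ)
    {z : ℕ} (hz : z ∣ Fintype.card F - 1) (hzo : Odd z) (hodd : Odd (Fintype.card F))
    (hG : Nat.card G * z = Fintype.card F ^ 3 * (Fintype.card F ^ 2 - 1) * (Fintype.card F ^ 3 - 1)) :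
    Nonempty (G ≃* Matrix.ProjectiveSpecialLinearGroup (Fin 3) F) :=
  CfsgLib.TTP.psl3_of_block hΩ h2 ℓ (by rw [← Nat.card_coe_set_eq]; exact hℓ)
    fun g x hx y hy hxy h1 h2 => hline g x y hxy hx hy h1 h2

end CfsgLib.GL2Cent
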