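import Cfsg.Agent.Lib.GL2Cent.Top
import Cfsg.Agent.Lib.GU2Cent.SplitPrime
import Mathlib.Algebra.QuadraticAlgebra.Basic

/-!
Lemma L of the recognition by an involution centraliser `GL₂(q)/Z`, `q ≡ 3 mod 4`: an odd prime dividing `q + 1`
does not divide the index of the centraliser. The non-split torus is the set of the matrices `!![a, -b; b, a]`.
-/

set_option autoImplicit false
set_option linter.unusedSectionVars false
set_option linter.style.haveILetI false

namespace CfsgLib.GL2Cent

open Matrix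

universe u v

variable {F : Type v} [Field F]

/-- The non-split torus `!![a, -b; b, a]`. -/
def nsT (F : Type v) [Field F] : Subgroup (GL (Fin 2) F) where
  carrier := {g | g.1 0 0 = g.1 1 1 ∧ g.1 0 1 = -g.1 1 0}
  one_mem' := by simp
  mul_mem' {g k} hg hk := by
    obtain ⟨g1, g2⟩ := hg
    obtain ⟨k1, k2⟩ := hk
    simp only [Set.mem_setOf_eq, mul_apply', g1, g2, k1, k2]
    constructor <;> ring
  inv_mem' {g} hg := by
    obtain ⟨g1, g2⟩ := hg
    simp [Set.mem_setOf_eq, Matrix.coe_units_inv, Matrix.inv_def, Matrix.adjugate_fin_two, g1, g2]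

theorem mem_nsT {g : GL (Fin 2) F} : g ∈ nsT F ↔ g.1 0 0 = g.1 1 1 ∧ g.1 0 1 = -g.1 1 0 := Iff.rfl

theorem scalar_mem_nsT (a : Fˣ) : dg a a ∈ nsT F := by simp [mem_nsT, dg]

theorem nsT_comm {g k : GL (Fin 2) F} (hg : g ∈ nsT F) (hk : k ∈ nsT F) : g * k = k * g := by
  obtain ⟨g1, g2⟩ := hg
  obtain ⟨k1, k2⟩ := hk
  apply ext2 <;> simp only [mul_apply', g1, g2, k1, k2] <;> ring

variable [Fintype F]

/-- Minus one is not a square. -/
theorem not_sq_neg (h4 : Fintype.card F % 4 = 3) (r : F) : r ^ 2 ≠ -1 + 0 * r := fun e => by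
  have : IsSquare (-1 : F) := ⟨r, by linear_combination -e⟩
  exact FiniteField.isSquare_neg_one_iff.mp this h4

/-- The torus is cyclic of order `q² - 1`. -/
theorem nsT_cyclic (h4 : Fintype.card F % 4 = 3) :
    IsCyclic (nsT F) ∧ Nat.card (nsT F) = Fintype.card F ^ 2 - 1 := by
  classical
  haveI : Fact (∀ r : F, r ^ 2 ≠ -1 + 0 * r) := ⟨not_sq_neg h4⟩
  let φ : nsT F →* QuadraticAlgebra F (-1) 0 :=
    { toFun := fun g => ⟨g.1.1 0 0, g.1.1 1 0⟩
      map_one' := by ext <;> simp [QuadraticAlgebra.re_one, QuadraticAlgebra.im_one]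
      map_mul' := fun g k => by
        obtain ⟨g1, g2⟩ := g.2
        obtain ⟨k1, k2⟩ := k.2
        ext <;> simp [mul_apply', g1, g2, k1, k2] <;> ring }
  have hinj : Function.Injective φ := fun g k e => by
    obtain ⟨g1, g2⟩ := g.2
    obtain ⟨k1, k2⟩ := k.2
    have e0 : g.1.1 0 0 = k.1.1 0 0 := congrArg QuadraticAlgebra.re e
    have e1 : g.1.1 1 0 = k.1.1 1 0 := congrArg QuadraticAlgebra.im e
    exact Subtype.ext (ext2 e0 (by rw [g2, k2, e1]) e1 (by rw [← g1, ← k1, e0]))
  refine ⟨isCyclic_of_subgroup_isDomain φ hinj, ?_⟩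
  have hnz : ∀ x : {x : F × F // x ≠ (0, 0)}, x.1.1 * x.1.1 - (-x.1.2) * x.1.2 ≠ 0 := by
    rintro ⟨⟨a, b⟩, hab⟩ h
    by_cases hb : b = 0
    · subst hb
      simp at h
      exact hab (by rw [h])
    · exact not_sq_neg h4 (a / b) (by field_simp; linear_combination h)
  let e : nsT F ≃ {x : F × F // x ≠ (0, 0)} :=
    { toFun := fun g => ⟨(g.1.1 0 0, g.1.1 1 0), fun h => det_ne g.1 (by
        rw [(Prod.mk.inj h).1, (Prod.mk.inj h).2, zero_mul, mul_zero, sub_zero])⟩
      invFun := fun x => ⟨mk2 x.1.1 (-x.1.2) x.1.2 x.1.1 (hnz x), by simp [mem_nsT]⟩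
      left_inv := fun g => Subtype.ext (by
        obtain ⟨g1, g2⟩ := g.2
        apply ext2 <;> simp [g1, g2])
      right_inv := fun x => by simp }
  rw [Nat.card_congr e, Nat.card_eq_fintype_card, Fintype.card_subtype_compl, Fintype.card_subtype_eq,
    Fintype.card_prod, pow_two]

/-- Conjugation by the reflection. -/
theorem refl_nsT {g : GL (Fin 2) F} (hg : g ∈ nsT F) {d : Fˣ}
    (hd : g.1 0 0 * g.1 1 1 - g.1 0 1 * g.1 1 0 = d) : dg 1 (-1) * g * (dg 1 (-1))⁻¹ = g⁻¹ * dg d d := by
  rw [eq_inv_mul_iff_mul_eq]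
  obtain ⟨g1, g2⟩ := hg
  rw [dg_inv]
  apply ext2 <;> simp [mul_apply', dg]
  · linear_combination hd + g.1 0 0 * g1
  · linear_combination -g.1 0 1 * g1
  · linear_combination g.1 1 0 * g1
  · linear_combination hd - g.1 1 1 * g1

variable {G : Type u} [Group G]

namespace Hyp

variable {f : GL (Fin 2) F →* G} (hf : Hyp f) [Finite G] [IsSimpleGroup G] (h2 : (2 : F) ≠ 0)
include hf h2

/-- An odd prime dividing `q + 1` does not divide the index. -/
theorem r_not_dvd (h4 : Fintype.card F % 4 = 3) {r : ℕ} (hr : r.Prime) (hr2 : r ≠ 2)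
    (hrq : r ∣ Fintype.card F + 1) : ¬ r ∣ (Subgroup.centralizer ({tt f} : Set G)).index := by
  classical
  haveI : Fact r.Prime := ⟨hr⟩
  haveI : Fact (Nat.Prime 2) := ⟨Nat.prime_two⟩
  obtain ⟨hcyc, hcard⟩ := nsT_cyclic (F := F) h4
  set q := Fintype.card F with hq
  obtain ⟨g, hg⟩ := IsCyclic.exists_ofOrder_eq_natCard (α := nsT F)
  rw [hcard] at hg
  obtain ⟨s, m', hm', hsm⟩ : ∃ s m, Odd m ∧ q + 1 = 2 ^ s * m := by
    obtain ⟨s, m, hm, hsm⟩ := Nat.exists_eq_pow_mul_and_not_dvd (show q + 1 ≠ 0 by omega) 2 (by norm_num)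
    exact ⟨s, m, Nat.odd_iff.mpr (Nat.two_dvd_ne_zero.mp hm), hsm⟩
  have hs2 : 2 ≤ s := by
    by_contra hlt
    obtain ⟨k, rfl⟩ := hm'
    interval_cases s <;> omega
  obtain ⟨m, hm, hqm⟩ : ∃ m, Odd m ∧ q - 1 = 2 * m :=
    ⟨(q - 1) / 2, Nat.odd_iff.mpr (by omega), by omega⟩
  have hN : q ^ 2 - 1 = 2 ^ (s + 1) * (m' * m) := by
    rw [show q ^ 2 - 1 = (q + 1) * (q - 1) by rw [← Nat.sq_sub_sq, one_pow], hsm, hqm, pow_succ]; ring
  have hM' : Odd (m' * m) := hm'.mul hm
  set ε := g ^ (m' * m) with hε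
  have hεo : orderOf ε = 2 ^ (s + 1) := by
    rw [hε, orderOf_pow_of_dvd hM'.pos.ne' (hg ▸ hN ▸ dvd_mul_left _ _), hg, hN, Nat.mul_div_cancel _ hM'.pos]
  let det' : GL (Fin 2) F →* Fˣ := Matrix.GeneralLinearGroup.det
  have hdetv : ∀ x : GL (Fin 2) F, x.1 0 0 * x.1 1 1 - x.1 0 1 * x.1 1 0 = (det' x : F) := fun x => by
    simp [det', Matrix.det_fin_two]
  -- the involution of the torus
  have hεneg : ((ε ^ 2 ^ s : nsT F) : GL (Fin 2) F) = dg (-1) (-1) := by
    set z : nsT F := ⟨dg (-1) (-1), scalar_mem_nsT _⟩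
    have hz : orderOf z = 2 := orderOf_eq_prime (Subtype.ext (by simp [pow_two, z, dg_mul, dg_one])) fun e => by
      have := entry (congrArg Subtype.val e) 0 0
      simp [z, dg] at this
      exact h2 (by linear_combination -this)
    have ho : orderOf (ε ^ 2 ^ s) = 2 := by
      rw [orderOf_pow_of_dvd (by positivity) (hεo ▸ pow_dvd_pow 2 (by omega)), hεo,
        Nat.pow_div (by omega) two_pos, Nat.add_sub_cancel_left, pow_one]
    obtain ⟨i, hi⟩ := Subgroup.mem_zpowers_iff.mp (GU2Cent.mem_zpowers_of_cyclic (P := (⊤ : Subgroup (nsT F)))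
      inferInstance (x := ε ^ 2 ^ s) trivial trivial hz (orderOf_dvd_iff_pow_eq_one.mp ho.dvd))
    have hsq : z ^ (2 : ℤ) = 1 := by
      rw [zpow_two]; exact Subtype.ext (by simp [z, dg_mul, dg_one])
    rcases Int.even_or_odd i with ⟨j, rfl⟩ | ⟨j, rfl⟩
    · rw [← two_mul, _root_.zpow_mul, hsq, _root_.one_zpow] at hi
      rw [← hi, orderOf_one] at ho
      omega
    · rw [_root_.zpow_add, _root_.zpow_mul, hsq, _root_.one_zpow, one_mul, zpow_one] at hi
      rw [← hi]
  have hdε : det' (ε : GL (Fin 2) F) = -1 := by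
    set d := det' (ε : GL (Fin 2) F) with hd
    have hd2 : (d : F) * d = 1 := by
      have h1 : d ^ 2 ^ (s + 1) = 1 := by
        rw [hd, ← map_pow, ← Subgroup.coe_pow, ← hεo, pow_orderOf_eq_one, OneMemClass.coe_one, map_one]
      have hcF : Nat.card Fˣ = 2 * m := by rw [Nat.card_units, Nat.card_eq_fintype_card, ← hq, hqm]
      have h2' : orderOf d ∣ 2 := ((Nat.coprime_two_left.mpr hm).pow_left (s + 1)).coprime_dvd_left
        (orderOf_dvd_of_pow_eq_one h1) |>.dvd_of_dvd_mul_right (hcF ▸ orderOf_dvd_natCard d)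
      rw [← Units.val_mul, ← pow_two, orderOf_dvd_iff_pow_eq_one.mp h2', Units.val_one]
    rcases mul_self_eq_one_iff.mp hd2 with h1 | h1
    swap
    · exact Units.ext (by rw [h1, Units.val_neg, Units.val_one])
    exfalso
    -- otherwise all determinants are squares
    have hgm : det' ((g : nsT F) : GL (Fin 2) F) ^ (m' * m) = 1 := by
      rw [← map_pow, ← Subgroup.coe_pow, ← hε, ← hd]; exact Units.ext h1
    obtain ⟨a, b, hab⟩ := FiniteField.exists_root_sum_quadratic (R := F)
      (f := (Polynomial.X : Polynomial F) ^ 2) (g := Polynomial.X ^ 2 - Polynomial.C (-1))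
      (Polynomial.degree_X_pow 2) (Polynomial.degree_X_pow_sub_C (by norm_num) _) (by omega)
    simp at hab
    have hne : a * a - (-b) * b ≠ 0 := fun h => by
      have : (1 : F) = 0 := by linear_combination hab - h
      exact one_ne_zero this
    have hx : mk2 a (-b) b a hne ∈ nsT F := by simp [mem_nsT]
    obtain ⟨i, hi⟩ := (Submonoid.mem_powers_iff _ _).mp (mem_powers_iff_mem_zpowers.mpr
      ((Subgroup.eq_top_of_card_eq (Subgroup.zpowers g) (by rw [Nat.card_zpowers, hg, hcard])).symm ▸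
        Subgroup.mem_top (⟨_, hx⟩ : nsT F)))
    have hdx : det' (mk2 a (-b) b a hne) = -1 := Units.ext (by
      rw [← hdetv, Units.val_neg, Units.val_one]; simp; linear_combination hab)
    have h3 : (-1 : Fˣ) ^ (m' * m) = 1 := by
      rw [← hdx, show mk2 a (-b) b a hne = ((g ^ i : nsT F) : GL (Fin 2) F) by rw [hi], Subgroup.coe_pow, map_pow,
        ← pow_mul, mul_comm, pow_mul, hgm, one_pow]
    rw [hM'.neg_one_pow] at h3
    exact h2 (by have := congrArg Units.val h3; rw [Units.val_neg, Units.val_one] at this; linear_combination -this)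
  -- the element of order `r`
  obtain ⟨k', hk'⟩ : r ∣ q ^ 2 - 1 := by
    rw [show q ^ 2 - 1 = (q + 1) * (q - 1) by rw [← Nat.sq_sub_sq, one_pow]]
    exact hrq.mul_right _
  have hrq1 : ¬ r ∣ q - 1 := fun h => by
    have := Nat.dvd_sub hrq h
    rw [show q + 1 - (q - 1) = 2 by omega, Nat.prime_dvd_prime_iff_eq hr Nat.prime_two] at this
    exact hr2 this
  have hk0 : k' ≠ 0 := fun e => by
    rw [e, mul_zero, hN] at hk'
    exact absurd hk' (Nat.mul_pos (Nat.two_pow_pos _) hM'.pos).ne'
  set a := g ^ k' with ha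
  have hao : orderOf a = r := by
    rw [ha, orderOf_pow_of_dvd hk0 (hg ▸ hk' ▸ dvd_mul_left _ _), hg, hk',
      Nat.mul_div_cancel _ (Nat.pos_of_ne_zero hk0)]
  have hda : det' (a : GL (Fin 2) F) = 1 := by
    refine orderOf_eq_one_iff.mp (Nat.eq_one_of_dvd_coprimes ((Nat.Prime.coprime_iff_not_dvd hr).mpr hrq1) ?_ ?_)
    · exact orderOf_dvd_of_pow_eq_one (by
        rw [← map_pow, ← Subgroup.coe_pow, ← hao, pow_orderOf_eq_one, OneMemClass.coe_one, map_one])
    · rw [show q - 1 = Nat.card Fˣ by rw [Nat.card_units, Nat.card_eq_fintype_card]]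
      exact orderOf_dvd_natCard _
  have hns : (a : GL (Fin 2) F) ∉ Subgroup.center (GL (Fin 2) F) := fun h => by
    obtain ⟨d, hd⟩ := exists_scalar h
    refine hr.ne_one (Nat.eq_one_of_dvd_coprimes ((Nat.Prime.coprime_iff_not_dvd hr).mpr hrq1) dvd_rfl ?_)
    rw [← hao, show q - 1 = Nat.card Fˣ by rw [Nat.card_units, Nat.card_eq_fintype_card]]
    refine orderOf_dvd_of_pow_eq_one (Subtype.ext ?_)
    rw [Subgroup.coe_pow, hd, show dg d d ^ Nat.card Fˣ = dg (d ^ Nat.card Fˣ) (d ^ Nat.card Fˣ) from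
      (map_pow dgHom (d, d) _).symm, pow_card_eq_one', dg_one, OneMemClass.coe_one]
  have ha10 : (a : GL (Fin 2) F).1 1 0 ≠ 0 := fun e => hns (by
    obtain ⟨a1, a2⟩ := a.2
    obtain ⟨x, y, hxy⟩ := eq_dg (g := (a : GL (Fin 2) F)) ⟨by rw [a2, e, neg_zero], e⟩
    rw [hxy] at a1 ⊢
    simp [dg] at a1
    rw [show y = x from Units.ext a1.symm]
    exact scalar_central x)
  let fT : nsT F →* G := f.comp (nsT F).subtype
  set T := fT.range with hT
  have hkerT : f.ker ≤ nsT F := fun x hx => by
    obtain ⟨d, rfl⟩ := exists_scalar (hf.kerc hx)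
    exact scalar_mem_nsT d
  have hcomm_t : ∀ x : GL (Fin 2) F, f x * tt f = tt f * f x := fun x => hf.mem_cent.mpr ⟨x, rfl⟩
  have hrk : ¬ r ∣ Nat.card f.ker := fun h => hrq1 (h.trans hf.ker_dvd)
  have hord : orderOf (fT a) = r := by
    refine orderOf_eq_prime (by rw [← map_pow, ← hao, pow_orderOf_eq_one, map_one]) fun h => hrk ?_
    rw [← hao, ← Subgroup.orderOf_coe]
    exact Subgroup.orderOf_dvd_natCard _ (f.mem_ker.mpr h)
  have hinj2 : ∀ x : nsT F, ∀ n : ℕ, x ^ 2 ^ n = 1 → fT x = 1 → x = 1 := fun x n hn h => by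
    refine orderOf_eq_one_iff.mp (Nat.eq_one_of_dvd_coprimes ((Nat.coprime_two_left.mpr hf.kero).pow_left n)
      (orderOf_dvd_of_pow_eq_one hn) ?_)
    rw [← Subgroup.orderOf_coe]
    exact Subgroup.orderOf_dvd_natCard _ (f.mem_ker.mpr h)
  have huv : ∀ x : nsT F, uu f * fT x * (uu f)⁻¹ = (fT x)⁻¹ * f (dg (det' x) (det' x)) := fun x => by
    show f _ * f x * (f _)⁻¹ = (f x)⁻¹ * f _
    rw [← map_mul, ← map_inv, ← map_inv, ← map_mul, ← map_mul, refl_nsT x.2 (hdetv x)]
  let H : GU2Cent.Axis G r :=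
    { t := tt f
      v := uu f
      h := fT a
      τ := fT ε
      T := T
      c := s + 1
      hc := by omega
      tt := tt_sq
      t_ne := hf.tt_ne h2
      vv := uu_sq
      tv := hf.uu_comm.symm
      hord := hord
      ht := hcomm_t _
      vh := by rw [huv, hda, dg_one, map_one, mul_one]
      memT := fun x => by
        constructor
        · rintro ⟨y, rfl⟩
          exact ⟨hcomm_t _, by rw [← map_mul, ← map_mul]; exact congrArg fT (Subtype.ext (nsT_comm y.2 a.2))⟩
        · rintro ⟨h1, h2'⟩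
          obtain ⟨y, rfl⟩ := hf.mem_cent.mp h1
          have e : y * (a : GL (Fin 2) F) = a * y := hf.comm_iff.mp h2'
          obtain ⟨a1, a2⟩ := a.2
          have e00 := entry e 0 0
          have e10 := entry e 1 0
          simp only [mul_apply', a2, ← a1] at e00 e10
          refine ⟨⟨y, ?_, ?_⟩, rfl⟩
          · exact mul_right_cancel₀ ha10 (by linear_combination -e10)
          · exact mul_right_cancel₀ ha10 (by linear_combination e00)
      Tcomm := by
        rintro _ ⟨x, rfl⟩ _ ⟨y, rfl⟩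
        rw [← map_mul, ← map_mul]
        exact congrArg fT (Subtype.ext (nsT_comm x.2 y.2))
      τT := ⟨ε, rfl⟩
      τord := orderOf_eq_prime_pow
        (fun h => by
          rw [← map_pow] at h
          have h1 : ε ^ 2 ^ s = 1 := hinj2 _ 1 (by
            rw [← pow_mul, ← pow_add, ← hεo, pow_orderOf_eq_one]) h
          have := Nat.le_of_dvd (Nat.two_pow_pos _) (orderOf_dvd_of_pow_eq_one h1)
          rw [hεo, pow_succ] at this
          have := Nat.two_pow_pos s
          omega)
        (by rw [← map_pow, ← hεo, pow_orderOf_eq_one, map_one])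
      τt := by rw [← map_pow]; exact congrArg f hεneg
      vτ := by rw [huv, hdε]; rfl
      Tdec := by
        rintro _ ⟨b, rfl⟩
        have hεM : orderOf (ε ^ (m' * m)) = 2 ^ (s + 1) := by
          rw [Nat.Coprime.orderOf_pow (by rw [hεo]; exact (Nat.coprime_two_left.mpr hM').pow_left _), hεo]
        have hb : (b ^ (m' * m))⁻¹ ∈ Subgroup.zpowers (ε ^ (m' * m)) :=
          GU2Cent.mem_zpowers_of_cyclic (P := (⊤ : Subgroup (nsT F))) inferInstance trivial trivial hεM (by
            rw [inv_pow, ← pow_mul, mul_comm, ← hN, ← hcard, pow_card_eq_one', inv_one])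
        obtain ⟨i, hi⟩ := (Submonoid.mem_powers_iff _ _).mp (mem_powers_iff_mem_zpowers.mpr hb)
        refine ⟨i, ?_⟩
        rw [← map_pow, ← map_mul]
        refine hM'.of_dvd_nat ((orderOf_map_dvd fT _).trans (orderOf_dvd_of_pow_eq_one ?_))
        rw [(show Commute (ε ^ i) b from Subtype.ext (nsT_comm (ε ^ i).2 b.2)).mul_pow, ← pow_mul, mul_comm i, pow_mul,
          hi, inv_mul_cancel]
      norm := fun x h1 hx => by
        obtain ⟨y, rfl⟩ := hf.mem_cent.mp h1
        obtain ⟨i, hi⟩ := Subgroup.mem_zpowers_iff.mp hx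
        have hker : y * a * y⁻¹ * ((a : GL (Fin 2) F) ^ i)⁻¹ ∈ f.ker := f.mem_ker.mpr (by
          rw [map_mul, map_mul, map_mul, map_inv, map_inv, map_zpow]
          show f y * fT a * (f y)⁻¹ * ((fT a) ^ i)⁻¹ = 1
          rw [hi]; group)
        set b := y * (a : GL (Fin 2) F) * y⁻¹ with hb
        have hbT : b ∈ nsT F := by
          have := mul_mem (hkerT hker) (zpow_mem a.2 i)
          rwa [inv_mul_cancel_right] at this
        have e : y * (a : GL (Fin 2) F) = b * y := by rw [hb]; group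
        obtain ⟨a1, a2⟩ := a.2
        obtain ⟨b1, b2⟩ := hbT
        have hdet : det' b = 1 := by rw [hb, map_mul, map_mul, map_inv, hda]; group
        have htr : b.1 0 0 + b.1 1 1 = (a : GL (Fin 2) F).1 0 0 + (a : GL (Fin 2) F).1 1 1 := by
          rw [hb, ← Matrix.trace_fin_two, ← Matrix.trace_fin_two, Units.val_mul, Units.val_mul,
            Matrix.trace_units_conj]
        have hb00 : b.1 0 0 = (a : GL (Fin 2) F).1 0 0 :=
          mul_left_cancel₀ h2 (by linear_combination htr + b1 - a1)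
        have hd1 := hdetv b
        have hd2 := hdetv (a : GL (Fin 2) F)
        rw [hdet, b2, ← b1, hb00] at hd1
        rw [hda, a2, ← a1] at hd2
        have e00 := entry e 0 0
        have e10 := entry e 1 0
        simp only [mul_apply', a2, ← a1, b2, ← b1, hb00] at e00 e10
        rcases mul_self_eq_mul_self_iff.mp
          (show b.1 1 0 * b.1 1 0 = (a : GL (Fin 2) F).1 1 0 * (a : GL (Fin 2) F).1 1 0 by
            linear_combination hd1 - hd2) with h | h
        · rw [h] at e00 e10
          exact Or.inl ⟨⟨y, mul_right_cancel₀ ha10 (by linear_combination -e10),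
            mul_right_cancel₀ ha10 (by linear_combination e00)⟩, rfl⟩
        · rw [h] at e00 e10
          refine Or.inr ⟨⟨y * dg 1 (-1), ?_, ?_⟩, by show f (y * _) = _; rw [map_mul]; rfl⟩
          · simp [mul_apply', dg]
            exact mul_right_cancel₀ ha10 (by linear_combination e10)
          · simp [mul_apply', dg]
            exact mul_right_cancel₀ ha10 (by linear_combination e00)
      cyc := fun P hP hPt => by
        set C := Subgroup.centralizer ({tt f} : Set G) with hC
        have hTC : T ≤ C := by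
          rintro _ ⟨y, rfl⟩
          exact Subgroup.mem_centralizer_singleton_iff.mpr (hcomm_t _)
        haveI : IsCyclic T := isCyclic_of_surjective _ fT.rangeRestrict_surjective
        haveI : IsCyclic (T.subgroupOf C) :=
          isCyclic_of_surjective _ (Subgroup.subgroupOfEquivOfLe hTC).symm.surjective
        have hTc : Nat.card T * Nat.card f.ker = q ^ 2 - 1 := by
          rw [hT, card_range_comp f (nsT F).subtype Subtype.val_injective (by simpa using hkerT), hcard]
        have h1 := (T.subgroupOf C).card_mul_index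
        rw [Nat.card_congr (Subgroup.subgroupOfEquivOfLe hTC).toEquiv] at h1
        have h3 := hf.card_cent
        rw [hf.range, ← hC, ← h1, mul_right_comm, hTc, ← hq,
          show q ^ 2 - 1 = (q + 1) * (q - 1) by rw [← Nat.sq_sub_sq, one_pow]] at h3
        have hidx : (T.subgroupOf C).index = q * (q - 1) :=
          Nat.eq_of_mul_eq_mul_left (Nat.mul_pos (by omega : 0 < q + 1) (by omega : 0 < q - 1)) (by rw [h3]; ring)
        have hnd : ¬ r ∣ (T.subgroupOf C).index := by
          rw [hidx]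
          intro h
          rcases hr.dvd_mul.mp h with h | h
          · have := Nat.dvd_sub hrq h
            rw [show q + 1 - q = 1 by omega, Nat.dvd_one] at this
            exact hr.ne_one this
          · exact hrq1 h
        obtain ⟨R⟩ : Nonempty (Sylow r (T.subgroupOf C)) := inferInstance
        let R' : Sylow r C := Sylow.ofCard ((R : Subgroup _).map (T.subgroupOf C).subtype) (by
          rw [Subgroup.card_map_of_injective (Subgroup.subtype_injective _), R.card_eq_multiplicity,
            ← (T.subgroupOf C).card_mul_index, Nat.factorization_mul Nat.card_pos.ne' Subgroup.index_ne_zero_of_finite,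
            Finsupp.add_apply, Nat.factorization_eq_zero_of_not_dvd hnd, add_zero])
        haveI : IsCyclic ↥(R' : Subgroup C) :=
          Subgroup.isCyclic_of_le (Subgroup.map_subtype_le (R : Subgroup (T.subgroupOf C)) :
            (R' : Subgroup C) ≤ T.subgroupOf C)
        have hPC : P ≤ C := fun x hx => Subgroup.mem_centralizer_singleton_iff.mpr (hPt x hx)
        obtain ⟨S, hS⟩ := (hP.comap_subtype (K := C)).exists_le_sylow
        obtain ⟨y, hy⟩ := MulAction.exists_smul_eq C R' S
        haveI : IsCyclic ↥(S : Subgroup C) := by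
          rw [← hy]
          exact isCyclic_of_surjective _ (R'.equivSMul y).surjective
        haveI : IsCyclic ↥(P.subgroupOf C) := Subgroup.isCyclic_of_le hS
        exact isCyclic_of_surjective _ (Subgroup.subgroupOfEquivOfLe hPC).surjective
      exact2 := fun h => by
        have h1 : 2 ^ (s + 3) ∣ Nat.card (Subgroup.centralizer ({tt f} : Set G)) *
            (Subgroup.centralizer ({tt f} : Set G)).index := by rw [Subgroup.card_mul_index]; exact h
        have h3 := (((Nat.coprime_two_left.mpr (hf.index_odd h2)).pow_left _).dvd_of_dvd_mul_right h1).mul_right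
          (Nat.card f.ker)
        rw [← hf.range, hf.card_cent, ← hq, hqm, hsm,
          show q * (2 * m) ^ 2 * (2 ^ s * m') = 2 ^ (s + 2) * (q * (m * m) * m') by ring,
          pow_succ 2 (s + 2), Nat.mul_dvd_mul_iff_left (Nat.two_pow_pos _)] at h3
        exact Nat.not_even_iff_odd.mpr (((Nat.odd_iff.mpr (by omega) : Odd q).mul (hm.mul hm)).mul hm')
          (even_iff_two_dvd.mpr h3)
      swap := hf.exists_swap h2 }
  exact H.not_dvd_index hr2

/-- The bound at the odd primes dividing `q + 1`. -/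
theorem r_bound (h4 : Fintype.card F % 4 = 3) {r : ℕ} (hr : r.Prime) (hr2 : r ≠ 2)
    (hrq : r ∣ Fintype.card F + 1) :
    padicValNat r (Nat.card G) ≤ 3 * padicValNat r (Fintype.card F + 1) := by
  haveI : Fact r.Prime := ⟨hr⟩
  have hM := hf.r_not_dvd h2 h4 hr hr2 hrq
  have hq0 : 0 < Fintype.card F := Fintype.card_pos
  have hrq1 : ¬ r ∣ Fintype.card F - 1 := fun h => by
    have := Nat.dvd_sub hrq h
    rw [show Fintype.card F + 1 - (Fintype.card F - 1) = 2 by omega, Nat.prime_dvd_prime_iff_eq hr Nat.prime_two] at this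
    exact hr2 this
  have hrq0 : ¬ r ∣ Fintype.card F := fun h => by
    have := Nat.dvd_sub hrq h
    rw [Nat.add_sub_cancel_left, Nat.dvd_one] at this
    exact hr.ne_one this
  have h1 := hf.card_cent
  rw [hf.range] at h1
  have h2' := congrArg (padicValNat r) h1
  rw [padicValNat.mul Nat.card_pos.ne' Nat.card_pos.ne',
    padicValNat.mul (mul_ne_zero hq0.ne' (pow_ne_zero _ (by omega))) (by omega),
    padicValNat.mul hq0.ne' (pow_ne_zero _ (by omega)),
    padicValNat.eq_zero_of_not_dvd hrq0, padicValNat.eq_zero_of_not_dvd fun h => hrq1 (hr.dvd_of_dvd_pow h)] at h2'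
  rw [← Subgroup.card_mul_index (Subgroup.centralizer ({tt f} : Set G)),
    padicValNat.mul Nat.card_pos.ne' Subgroup.index_ne_zero_of_finite, padicValNat.eq_zero_of_not_dvd hM]
  omega

end Hyp

/-- Lemma L in terms of the centraliser isomorphism. -/
theorem r_part_bound {G : Type u} [Group G] [Finite G] [IsSimpleGroup G] {F : Type v} [Field F] [Fintype F]
    (Z : Subgroup (GL (Fin 2) F)) [Z.Normal] (hZc : Z ≤ Subgroup.center (GL (Fin 2) F)) (hZo : Odd (Nat.card Z))
    {t : G} (ht : orderOf t = 2) (e : Subgroup.centralizer ({t} : Set G) ≃* (GL (Fin 2) F ⧸ Z))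
    (_hconj : ∀ x y : G, orderOf x = 2 → orderOf y = 2 → IsConj x y) (h4 : Fintype.card F % 4 = 3)
    {r : ℕ} (hr : r.Prime) (hr2 : r ≠ 2) (hrq : r ∣ Fintype.card F + 1) :
    padicValNat r (Nat.card G) ≤ 3 * padicValNat r (Fintype.card F + 1) := by
  obtain ⟨f, hf, -, -⟩ := exists_hyp Z hZc hZo ht e
  refine hf.r_bound (fun h => ?_) h4 hr hr2 hrq
  haveI : CharP F 2 := CharTwo.of_one_ne_zero_of_two_eq_zero one_ne_zero h
  obtain ⟨n, -, hn⟩ := FiniteField.card F 2
  have : 2 ∣ Fintype.card F := hn ▸ dvd_pow_self 2 n.ne_zero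
  omega

end CfsgLib.GL2Cent
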