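import Cfsg.Agent.Lib.GL2Cent.RLocalCore
import Cfsg.Agent.Lib.GL2Cent.NoFusion
import Cfsg.Agent.Lib.Basic
import Mathlib.Algebra.Module.ZMod

/-!
The bound on the `r`-part of the group order: the normaliser of the invariant `r`-subgroup has no fusion of `t` to
`s`, by the linear configuration, and then Glauberman's theorem makes the subgroup a Sylow subgroup.
-/

set_option autoImplicit false
set_option linter.unusedSectionVars false
set_option linter.unusedSimpArgs false
set_option linter.style.haveILetI false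

namespace CfsgLib.GL2Cent

open Matrix

universe u

/-- A representation of degree three from an abelian group of exponent `r` with two diagonal automorphisms. -/
theorem exists_rep {N : Type*} [Group N] {W : Type*} [CommGroup W] {r : ℕ} [Fact r.Prime] (hr2 : r ≠ 2)
    (hexp : ∀ w : W, w ^ r = 1) (hcard : Nat.card W = r * r * r) (act : N →* MulAut W) (v : Fin 3 → W)
    (hv : ∀ i, v i ≠ 1) {τ σ : N} (hτ : act τ (v 0) = v 0 ∧ act τ (v 1) = (v 1)⁻¹ ∧ act τ (v 2) = (v 2)⁻¹)
    (hσ : act σ (v 0) = (v 0)⁻¹ ∧ act σ (v 1) = v 1 ∧ act σ (v 2) = (v 2)⁻¹) :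
    ∃ ψ : N →* GL (Fin 3) (ZMod r), (ψ τ).1 = Matrix.diagonal ![1, -1, -1] ∧
      (ψ σ).1 = Matrix.diagonal ![-1, 1, -1] ∧ ∀ g, act g (v 0) = v 0 → (ψ g).1 0 0 = 1 := by
  have hr : r.Prime := Fact.out
  haveI : NeZero r := ⟨hr.ne_zero⟩
  obtain ⟨_inst⟩ : Nonempty (Module (ZMod r) (Additive W)) :=
    ⟨AddCommGroup.zmodModule fun w => Additive.toMul.injective (by rw [toMul_nsmul, hexp]; rfl)⟩
  haveI : Finite W := Nat.finite_of_card_ne_zero (by
    rw [hcard]; exact Nat.mul_ne_zero (Nat.mul_ne_zero hr.ne_zero hr.ne_zero) hr.ne_zero)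
  let α : N → (Additive W →ₗ[ZMod r] Additive W) := fun g =>
    AddMonoidHom.toZModLinearMap r (MonoidHom.toAdditive (act g).toMonoidHom)
  have hα : ∀ g w, α g (Additive.ofMul w) = Additive.ofMul (act g w) := fun _ _ => rfl
  let vv : Fin 3 → Additive W := fun i => Additive.ofMul (v i)
  set e0 : (Fin 3 → ZMod r) →ₗ[ZMod r] Additive W := Fintype.linearCombination (ZMod r) vv with he0
  have hτ' : α τ (vv 0) = vv 0 ∧ α τ (vv 1) = -vv 1 ∧ α τ (vv 2) = -vv 2 := by
    simp only [vv, hα, hτ.1, hτ.2.1, hτ.2.2, ofMul_inv, and_self]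
  have hσ' : α σ (vv 0) = -vv 0 ∧ α σ (vv 1) = vv 1 ∧ α σ (vv 2) = -vv 2 := by
    simp only [vv, hα, hσ.1, hσ.2.1, hσ.2.2, ofMul_inv, and_self]
  have hne : ∀ i, vv i ≠ 0 := fun i e => hv i (Additive.ofMul.injective e)
  have h2z : (2 : ZMod r) ≠ 0 := by
    intro e
    have := (ZMod.natCast_eq_zero_iff 2 r).mp (by exact_mod_cast e)
    exact hr2 ((Nat.prime_dvd_prime_iff_eq hr Nat.prime_two).mp this)
  have hinj : Function.Injective e0 := by
    refine (injective_iff_map_eq_zero e0).mpr fun f hf => ?_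
    simp only [he0, Fintype.linearCombination_apply, Fin.sum_univ_three] at hf
    have h1 := congrArg (α τ) hf
    have h2 := congrArg (α σ) hf
    simp only [map_add, map_smul, hτ'.1, hτ'.2.1, hτ'.2.2, hσ'.1, hσ'.2.1, hσ'.2.2, map_zero, smul_neg] at h1 h2
    have a0 : (2 : ZMod r) • (f 0 • vv 0) = 0 := by
      rw [two_smul]
      calc f 0 • vv 0 + f 0 • vv 0 = (f 0 • vv 0 + f 1 • vv 1 + f 2 • vv 2) +
          (f 0 • vv 0 + -(f 1 • vv 1) + -(f 2 • vv 2)) := by abel
        _ = 0 := by rw [hf, h1, add_zero]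
    have a1 : (2 : ZMod r) • (f 1 • vv 1) = 0 := by
      rw [two_smul]
      calc f 1 • vv 1 + f 1 • vv 1 = (f 0 • vv 0 + f 1 • vv 1 + f 2 • vv 2) +
          (-(f 0 • vv 0) + f 1 • vv 1 + -(f 2 • vv 2)) := by abel
        _ = 0 := by rw [hf, h2, add_zero]
    have b0 := ((smul_eq_zero.mp a0).resolve_left h2z)
    have b1 := ((smul_eq_zero.mp a1).resolve_left h2z)
    rw [b0, b1, zero_add, zero_add] at hf
    funext i
    fin_cases i
    · exact (smul_eq_zero.mp b0).resolve_right (hne 0)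
    · exact (smul_eq_zero.mp b1).resolve_right (hne 1)
    · exact (smul_eq_zero.mp hf).resolve_right (hne 2)
  have hbij : Function.Bijective e0 := (Nat.bijective_iff_injective_and_card e0).mpr ⟨hinj, by
    show Nat.card (Fin 3 → ZMod r) = Nat.card W
    rw [hcard, Nat.card_fun, Nat.card_zmod, Nat.card_fin]; ring⟩
  set e := LinearEquiv.ofBijective e0 hbij
  let ψ : N →* GL (Fin 3) (ZMod r) := MonoidHom.toHomUnits
    { toFun := fun g => LinearMap.toMatrix' ((e.symm.toLinearMap).comp ((α g).comp e.toLinearMap))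
      map_one' := by
        rw [← LinearMap.toMatrix'_id]
        congr 1
        refine LinearMap.ext fun w => ?_
        simp [α]
      map_mul' := fun g h => by
        rw [← LinearMap.toMatrix'_comp]
        congr 1
        refine LinearMap.ext fun w => ?_
        simp [α] }
  have hcol : ∀ (g : N) (i j : Fin 3), (ψ g).1 i j = e.symm (α g (vv j)) i := by
    intro g i j
    show LinearMap.toMatrix' ((e.symm.toLinearMap).comp ((α g).comp e.toLinearMap)) i j = _
    rw [LinearMap.toMatrix'_apply]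
    show e.symm (α g (e0 _)) i = _
    congr 3
    rw [he0, Fintype.linearCombination_apply_single, one_smul]
  have hsymm : ∀ j, e.symm (vv j) = Pi.single j 1 := fun j => by
    rw [LinearEquiv.symm_apply_eq]
    show vv j = e0 _
    rw [he0, Fintype.linearCombination_apply_single, one_smul]
  refine ⟨ψ, ?_, ?_, fun g hg => ?_⟩
  · ext i j
    rw [hcol]
    fin_cases j <;> simp [hτ'.1, hτ'.2.1, hτ'.2.2, hsymm] <;> fin_cases i <;> simp
  · ext i j
    rw [hcol]
    fin_cases j <;> simp [hσ'.1, hσ'.2.1, hσ'.2.2, hsymm] <;> fin_cases i <;> simp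
  · rw [hcol, show α g (vv 0) = vv 0 from (hα g (v 0)).trans (congrArg Additive.ofMul hg), hsymm]
    simp

namespace RCtx

variable {G : Type u} [Group G] [Finite G] {r a : ℕ} (C : RCtx G r a)

include C in
theorem odd_elt {X : Subgroup G} (hX : IsPGroup r X) {x : G} (hx : x ∈ X) : Odd (orderOf x) := by
  haveI : Fact r.Prime := ⟨C.hr⟩
  obtain ⟨k, hk⟩ := IsPGroup.iff_orderOf.mp hX ⟨x, hx⟩
  rw [Subgroup.orderOf_mk] at hk
  rw [hk]
  exact (C.hr.odd_of_ne_two C.hr2).pow

theorem R_le {X : Subgroup G} (hR : C.R ≤ Subgroup.normalizer (X : Set G)) :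
    C.s ∈ Subgroup.normalizer (X : Set G) ∧ C.t ∈ Subgroup.normalizer (X : Set G) ∧
      C.ρ ^ 2 ^ (C.c - 2) ∈ Subgroup.normalizer (X : Set G) := by
  refine ⟨hR (Subgroup.mem_sup_right (Subgroup.mem_zpowers _)), hR (Subgroup.mem_sup_left ?_),
    hR (Subgroup.mem_sup_left (pow_mem (Subgroup.mem_zpowers _) _))⟩
  rw [← C.ρt]; exact pow_mem (Subgroup.mem_zpowers _) _

/-- The elements centralising `t` which normalise `X`. -/
theorem cent_norm {X : Subgroup G} (hXK : X ≤ C.K) (hy : C.y ∈ X) {g : G}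
    (hg : g ∈ Subgroup.normalizer (X : Set G)) (hgt : g * C.t = C.t * g) : g ∈ C.T ∨ g * C.s ∈ C.T := by
  refine C.norm g hgt ((C.Tiff _).mpr ⟨?_, C.mem_K.mp (hXK ((Subgroup.mem_normalizer_iff.mp hg _).mp hy))⟩)
  calc g * C.y * g⁻¹ * C.t = g * (C.y * (g⁻¹ * C.t)) := by group
    _ = g * (C.y * (C.t * g⁻¹)) := by rw [(show Commute g C.t from hgt).inv_left.eq]
    _ = g * (C.y * C.t) * g⁻¹ := by group
    _ = g * (C.t * C.y) * g⁻¹ := by rw [C.yt]
    _ = C.t * (g * C.y * g⁻¹) := by rw [← mul_assoc, hgt]; group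

/-- Without fusion of `t` and `s` in its normaliser, `X` is a Sylow subgroup. -/
theorem sylow_of_not_fused {X : Subgroup G} (hX : IsPGroup r X) (hXK : X ≤ C.K)
    (hR : C.R ≤ Subgroup.normalizer (X : Set G)) (hy : C.y ∈ X)
    (hbound : ∀ D : Subgroup G, IsPGroup r D → D ≤ C.K → Nat.card D ≤ Nat.card X)
    (hmax : ∀ D : Subgroup G, IsPGroup r D → D ≤ C.K → X ≤ D → D = X)
    (hnf : ¬ ∃ n ∈ Subgroup.normalizer (X : Set G), n * C.t * n⁻¹ = C.s) :
    ∀ D : Subgroup G, IsPGroup r D → X ≤ D → D = X := by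
  haveI : Fact r.Prime := ⟨C.hr⟩
  set N := Subgroup.normalizer (X : Set G) with hN
  obtain ⟨hsN, htN, -⟩ := C.R_le hR
  set τ : N := ⟨C.t, htN⟩
  have hτ : orderOf τ = 2 := by
    rw [Subgroup.orderOf_mk]; exact CfsgLib.Involutions.orderOf_eq_two_iff'.2 ⟨C.t_sq, C.t_ne⟩
  have hiso : Cfsg.IsIsolated τ := by
    intro g hg
    refine Subtype.ext ?_
    set x : G := (g : G) * C.t * (g : G)⁻¹ with hx
    show x = C.t
    have hcx : C.t * x = x * C.t := congrArg Subtype.val hg.eq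
    have hx2 : x * x = 1 := by
      rw [hx, show (g : G) * C.t * (g : G)⁻¹ * ((g : G) * C.t * (g : G)⁻¹) = (g : G) * (C.t * C.t) * (g : G)⁻¹ by group,
        C.t_sq]
      group
    have hx1 : x ≠ 1 := fun e => C.t_ne (conj_eq_one_iff.mp e)
    have hxN : x ∈ N := mul_mem (mul_mem g.2 htN) (inv_mem g.2)
    set M := N ⊓ Subgroup.centralizer ({C.t} : Set G)
    have hRM : C.R ≤ M := le_inf hR (sup_le (Subgroup.zpowers_le.mpr (Subgroup.mem_centralizer_singleton_iff.mpr
      ((C.Tiff _).mp C.ρT).1)) (Subgroup.zpowers_le.mpr (Subgroup.mem_centralizer_singleton_iff.mpr C.ts)))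
    obtain ⟨m, hm, e | e⟩ := C.invol_in hRM (x := x)
      ⟨hxN, Subgroup.mem_centralizer_singleton_iff.mpr hcx.symm⟩ hx2 hx1
    · have hmt : m * C.t = C.t * m := Subgroup.mem_centralizer_singleton_iff.mp hm.2
      calc x = m⁻¹ * (m * x * m⁻¹) * m := by group
        _ = C.t := by rw [e, mul_assoc, ← hmt, inv_mul_cancel_left]
    · exact absurd ⟨m * g, mul_mem hm.1 g.2, by rw [← e, hx]; group⟩ hnf
  set O := (Cfsg.pPrimeCore 2 N).map N.subtype with hO
  have hOodd : ∀ k ∈ O, Odd (orderOf k) := by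
    rintro _ ⟨k, hk, rfl⟩
    rw [Subgroup.coe_subtype, Subgroup.orderOf_coe]
    exact (Nat.coprime_two_right.mp (CfsgLib.card_pPrimeCore_coprime 2)).of_dvd_nat
      (Subgroup.orderOf_dvd_natCard _ hk)
  have hdec : ∀ g ∈ N, ∃ j ∈ O, j⁻¹ * g * C.t = C.t * (j⁻¹ * g) := by
    intro g hg
    refine C.lift_cent hOodd ?_
    have h := CfsgLib.ZStar.commutator_mem hτ hiso (⟨g, hg⟩ : N)
    refine ⟨(τ * ⟨g, hg⟩ * τ⁻¹ * (⟨g, hg⟩ : N)⁻¹)⁻¹, inv_mem h, ?_⟩
    simp [τ, C.t_inv, mul_assoc, _root_.mul_inv_rev]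
  have hXO : X ≤ O := by
    intro x hx
    have hXN : X ≤ N := Subgroup.le_normalizer
    haveI : (X.subgroupOf N).Normal := Subgroup.normal_in_normalizer
    refine ⟨⟨x, hXN hx⟩, CfsgLib.le_pPrimeCore (N := X.subgroupOf N) ?_ hx, rfl⟩
    rw [Nat.card_congr (Subgroup.subgroupOfEquivOfLe hXN).toEquiv, Nat.coprime_two_right]
    obtain ⟨k, hk⟩ := IsPGroup.iff_card.mp hX
    rw [hk]; exact (C.hr.odd_of_ne_two C.hr2).pow
  -- `X` is a Sylow subgroup of `O`
  have hOn : ∀ g ∈ N, g ∈ Subgroup.normalizer (O : Set G) := fun g hg => Subgroup.mem_normalizer_fintype fun x hx => by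
    obtain ⟨k, hk, rfl⟩ := hx
    exact ⟨⟨g, hg⟩ * k * (⟨g, hg⟩ : N)⁻¹, Subgroup.Normal.conj_mem inferInstance _ hk _, rfl⟩
  set U := Subgroup.zpowers C.t ⊔ Subgroup.zpowers C.s
  have hUR : U ≤ C.R := sup_le (Subgroup.zpowers_le.mpr (Subgroup.mem_sup_left (by
    rw [← C.ρt]; exact pow_mem (Subgroup.mem_zpowers _) _))) le_sup_right
  have hUO : U ≤ Subgroup.normalizer (O : Set G) := fun g hg => hOn g (hR (hUR hg))
  have hcop : (Nat.card U).Coprime (Nat.card O) := by
    obtain ⟨k, hk⟩ := IsPGroup.iff_card.mp (C.R_isPGroup.to_le hUR)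
    rw [hk, hO, Subgroup.card_map_of_injective N.subtype_injective]
    exact (CfsgLib.card_pPrimeCore_coprime 2).symm.pow_left k
  haveI := (C.R_isPGroup.to_le hUR).isNilpotent
  obtain ⟨P0, hXP, hPU⟩ := CfsgLib.coprime_le_invariant_sylow hUO hcop (Or.inl inferInstance) (p := r) hXO hX
    (fun g hg => hR (hUR hg))
  set P := (P0 : Subgroup O).map O.subtype
  have hPX : P = X := by
    refine (Subgroup.eq_of_le_of_card_ge hXP ?_).symm
    refine C.card_invariant_le hbound (P0.2.map _) (fun x hx => ?_) (fun x hx => ?_)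
    · exact (Subgroup.mem_normalizer_iff.mp (hPU (Subgroup.mem_sup_left (Subgroup.mem_zpowers _))) x).mp hx
    · exact (Subgroup.mem_normalizer_iff.mp (hPU (Subgroup.mem_sup_right (Subgroup.mem_zpowers _))) x).mp hx
  -- every `r`-element of `N` lies in `X`
  have hrin : ∀ g ∈ N, ∀ k : ℕ, g ^ r ^ k = 1 → g * C.t = C.t * g → g ∈ X := by
    intro g hg k hk hgt
    have hgT : g ∈ C.T := by
      refine (C.cent_norm hXK hy hg hgt).elim id fun h => ?_
      obtain ⟨m, hm⟩ : Odd (r ^ k) := (C.hr.odd_of_ne_two C.hr2).pow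
      have h2 : g * g ∈ C.T := by
        have hs' : C.s * (g * C.s) * C.s⁻¹ ∈ C.T := by
          refine (C.cent_norm hXK hy (g := C.s * (g * C.s) * C.s⁻¹)
            (mul_mem (mul_mem hsN (mul_mem hg hsN)) (inv_mem hsN)) ?_).elim id fun h' => ?_
          · have hgs : g * C.s * C.t = C.t * (g * C.s) := ((C.Tiff _).mp h).1
            calc C.s * (g * C.s) * C.s⁻¹ * C.t = C.s * (g * C.s) * (C.s⁻¹ * C.t) := by group
              _ = C.s * (g * C.s) * (C.t * C.s⁻¹) := by rw [(show Commute C.s C.t from C.ts).inv_left.eq]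
              _ = C.s * (g * C.s * C.t) * C.s⁻¹ := by group
              _ = C.s * C.t * (g * C.s) * C.s⁻¹ := by rw [hgs]; group
              _ = _ := by rw [C.ts]; group
          · exfalso
            rw [inv_mul_cancel_right] at h'
            have := mul_mem h' (inv_mem h)
            rw [mul_inv_cancel_right] at this
            exact C.s_not this
        have e : g * g = g * C.s * (C.s * (g * C.s) * C.s⁻¹) := by
          rw [show g * C.s * (C.s * (g * C.s) * C.s⁻¹) = g * (C.s * C.s) * g by group, C.s_sq, mul_one]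
        rw [e]; exact mul_mem h hs'
      have : g = (g * g) ^ (m + 1) := by
        rw [← pow_two, ← pow_mul, show 2 * (m + 1) = 2 * m + 1 + 1 by ring, pow_succ, ← hm, hk, one_mul]
      rw [this]
      exact pow_mem h2 _
    have hgp : IsPGroup r (Subgroup.zpowers g) := by
      obtain ⟨i, -, hi⟩ := (Nat.dvd_prime_pow C.hr).mp (orderOf_dvd_of_pow_eq_one hk)
      exact IsPGroup.of_card (n := i) (by rw [Nat.card_zpowers, hi])
    have := hmax (X ⊔ Subgroup.zpowers g) (IsPGroup.to_sup_of_normal_left' hX hgp (Subgroup.zpowers_le.mpr hg))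
      (sup_le hXK (Subgroup.zpowers_le.mpr (C.mem_K.mpr ((C.Tiff _).mp hgT).2))) le_sup_left
    exact this ▸ Subgroup.mem_sup_right (Subgroup.mem_zpowers _)
  intro D hD hXD
  by_contra hne
  have hlt : X.subgroupOf D < ⊤ :=
    lt_top_iff_ne_top.mpr fun e => hne (le_antisymm (Subgroup.subgroupOf_eq_top.mp e) hXD)
  obtain ⟨g, hg, hgX⟩ := SetLike.exists_of_lt (normalizerCondition_of_isNilpotent (h := hD.isNilpotent) _ hlt)
  have hgX' : (g : G) ∉ X := hgX
  have hgN : (g : G) ∈ N := Subgroup.mem_normalizer_fintype fun x hx => by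
    have := (Subgroup.mem_normalizer_iff.mp hg ⟨x, hXD hx⟩).mp hx
    exact this
  obtain ⟨k, hk⟩ := hD g
  have hk' : (g : G) ^ r ^ k = 1 := congrArg Subtype.val hk
  obtain ⟨j, hj, hjt⟩ := hdec _ hgN
  set h0 : G := j⁻¹ * g
  have hjN : j ∈ N := Subgroup.map_subtype_le _ hj
  have hh0N : h0 ∈ N := mul_mem (inv_mem hjN) hgN
  set m := orderOf h0 / r ^ (orderOf h0).factorization r
  have hm : r ^ (orderOf h0).factorization r * m = orderOf h0 := Nat.ordProj_mul_ordCompl_eq_self _ _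
  have hmc : Nat.Coprime m (r ^ k) := Nat.Coprime.pow_right _
    (((Nat.Prime.coprime_iff_not_dvd C.hr).mpr (Nat.not_dvd_ordCompl C.hr (orderOf_pos h0).ne')).symm)
  have hwX : h0 ^ m ∈ X := hrin _ (pow_mem hh0N m) ((orderOf h0).factorization r) (by
    rw [← pow_mul, mul_comm, hm, pow_orderOf_eq_one]) ((show Commute h0 C.t from hjt).pow_left m).eq
  have hgm : (g : G) ^ m ∈ O := by
    have key : ∀ i : ℕ, ∃ o ∈ O, (g : G) ^ i = o * h0 ^ i := by
      intro i
      induction i with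
      | zero => exact ⟨1, one_mem _, by simp⟩
      | succ i ih =>
        obtain ⟨o, ho, e⟩ := ih
        refine ⟨o * (h0 ^ i * j * (h0 ^ i)⁻¹), mul_mem ho ((Subgroup.mem_normalizer_iff.mp (hOn _ (pow_mem hh0N i)) j).mp hj), ?_⟩
        rw [pow_succ, e, pow_succ]
        simp only [h0]
        group
    obtain ⟨o, ho, e⟩ := key m
    rw [e]; exact mul_mem ho (hXO hwX)
  have hgO : (g : G) ∈ O := by
    have hd : Nat.gcd m (r ^ k) = 1 := hmc
    have hb := Nat.gcd_eq_gcd_ab m (r ^ k)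
    rw [hd] at hb
    have : (g : G) = ((g : G) ^ m) ^ Nat.gcdA m (r ^ k) * (((g : G) ^ (r ^ k)) ^ Nat.gcdB m (r ^ k)) := by
      rw [← zpow_natCast, ← _root_.zpow_mul, ← zpow_natCast (g : G) (r ^ k), ← _root_.zpow_mul, ← _root_.zpow_add,
        ← hb, Nat.cast_one, zpow_one]
    rw [this, hk', _root_.one_zpow, mul_one]
    exact zpow_mem hgm _
  set Y := X ⊔ Subgroup.zpowers (g : G)
  have hYO : Y ≤ O := sup_le hXO (Subgroup.zpowers_le.mpr hgO)
  have hYD : Y ≤ D := sup_le hXD (Subgroup.zpowers_le.mpr g.2)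
  obtain ⟨Q, hQ⟩ := ((hD.to_le hYD).comap_subtype (K := O)).exists_le_sylow
  have h1 := Nat.le_of_dvd Nat.card_pos (Subgroup.card_dvd_of_le hQ)
  rw [show Y.comap O.subtype = Y.subgroupOf O from rfl,
    Nat.card_congr (Subgroup.subgroupOfEquivOfLe hYO).toEquiv, Q.card_eq_multiplicity, ← P0.card_eq_multiplicity,
    ← Subgroup.card_map_of_injective (K := (P0 : Subgroup O)) (f := O.subtype) O.subtype_injective] at h1
  change Nat.card Y ≤ Nat.card P at h1
  rw [hPX] at h1
  exact hgX' ((Subgroup.eq_of_le_of_card_ge (le_sup_left : X ≤ Y) h1).symm ▸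
    Subgroup.mem_sup_right (Subgroup.mem_zpowers _))

/-- There is no fusion of `t` and `s` in the normaliser of `X`. -/
theorem not_fused {X : Subgroup G} (hX : IsPGroup r X) (hXK : X ≤ C.K)
    (hR : C.R ≤ Subgroup.normalizer (X : Set G)) (hy : C.y ∈ X) :
    ¬ ∃ n ∈ Subgroup.normalizer (X : Set G), n * C.t * n⁻¹ = C.s := by
  rintro ⟨n0, hn0, hn0s⟩
  haveI : Fact r.Prime := ⟨C.hr⟩
  haveI : NeZero r := ⟨C.hr.ne_zero⟩
  set N := Subgroup.normalizer (X : Set G) with hN
  obtain ⟨hsN, htN, hkN⟩ := C.R_le hR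
  set k0 := C.ρ ^ 2 ^ (C.c - 2)
  have hk0 : k0 * C.s * k0⁻¹ = C.t * C.s := C.ρk_s
  -- the central elements of exponent `r`
  let V : Subgroup G :=
    { carrier := {v | v ∈ X ∧ v ^ r = 1 ∧ ∀ x ∈ X, x * v = v * x}
      one_mem' := ⟨one_mem _, one_pow _, fun x _ => by simp⟩
      mul_mem' := fun {v w} hv hw => ⟨mul_mem hv.1 hw.1, by
        rw [(show Commute v w from hw.2.2 v hv.1).mul_pow, hv.2.1, hw.2.1, mul_one], fun x hx => by
        rw [← mul_assoc, hv.2.2 x hx, mul_assoc, hw.2.2 x hx, ← mul_assoc]⟩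
      inv_mem' := fun {v} hv => ⟨inv_mem hv.1, by rw [inv_pow, hv.2.1, inv_one], fun x hx =>
        ((show Commute x v from hv.2.2 x hx).inv_right).eq⟩ }
  have hVN : ∀ g ∈ N, ∀ v ∈ V, g * v * g⁻¹ ∈ V := by
    intro g hg v hv
    refine ⟨(Subgroup.mem_normalizer_iff.mp hg v).mp hv.1, by rw [conj_pow, hv.2.1, mul_one, mul_inv_cancel],
      fun x hx => ?_⟩
    have hx' : g⁻¹ * x * g ∈ X := by
      have := (Subgroup.mem_normalizer_iff.mp (inv_mem hg) x).mp hx
      rwa [inv_inv] at this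
    calc x * (g * v * g⁻¹) = g * (g⁻¹ * x * g * v) * g⁻¹ := by group
      _ = g * (v * (g⁻¹ * x * g)) * g⁻¹ := by rw [hv.2.2 _ hx']
      _ = g * v * g⁻¹ * x := by group
  have hVp : IsPGroup r V := hX.to_le fun v hv => hv.1
  have hVt : ∀ v ∈ V, v * C.t = C.t * v → v ∈ Subgroup.zpowers C.y := fun v hv ht =>
    C.Tr v ((C.Tiff v).mpr ⟨ht, C.mem_K.mp (hXK hv.1)⟩) hv.2.1
  set Cs : G → Subgroup G := fun u => V ⊓ Subgroup.centralizer ({u} : Set G)
  have hconj : ∀ g ∈ N, ∀ u w : G, g * u * g⁻¹ = w → Nat.card (Cs w) = Nat.card (Cs u) := by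
    intro g hg u w e
    rw [← Subgroup.card_map_of_injective (K := Cs u) (f := (MulAut.conj g).toMonoidHom) (MulAut.conj g).injective]
    congr 2
    ext x
    constructor
    · rintro ⟨hxV, hxw⟩
      refine ⟨g⁻¹ * x * g, ⟨?_, Subgroup.mem_centralizer_singleton_iff.mpr ?_⟩, by simp [mul_assoc]⟩
      · have := hVN _ (inv_mem hg) x hxV
        rwa [inv_inv] at this
      · have e' := Subgroup.mem_centralizer_singleton_iff.mp hxw
        rw [← e] at e'
        calc g⁻¹ * x * g * u = g⁻¹ * (x * (g * u * g⁻¹)) * g := by group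
          _ = u * (g⁻¹ * x * g) := by rw [e']; group
    · rintro ⟨v, ⟨hvV, hvu⟩, rfl⟩
      refine ⟨hVN g hg v hvV, Subgroup.mem_centralizer_singleton_iff.mpr ?_⟩
      have e' := Subgroup.mem_centralizer_singleton_iff.mp hvu
      rw [← e]
      show g * v * g⁻¹ * (g * u * g⁻¹) = g * u * g⁻¹ * (g * v * g⁻¹)
      calc g * v * g⁻¹ * (g * u * g⁻¹) = g * (v * u) * g⁻¹ := by group
        _ = g * (u * v) * g⁻¹ := by rw [e']
        _ = _ := by group
  have hs_t : Nat.card (Cs C.s) = Nat.card (Cs C.t) := hconj n0 hn0 _ _ hn0s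
  have hts_t : Nat.card (Cs (C.t * C.s)) = Nat.card (Cs C.t) := (hconj k0 hkN _ _ hk0).trans hs_t
  have hfour : Nat.card V = Nat.card (Cs C.t) * Nat.card (Cs C.s) * Nat.card (Cs (C.t * C.s)) :=
    C.four hVp (hVN _ htN) (hVN _ hsN)
  rw [hs_t, hts_t] at hfour
  have hV1 : V ≠ ⊥ := by
    intro e
    haveI : Nontrivial X := ⟨⟨⟨C.y, hy⟩, 1, fun e' => by
      have := C.yord
      rw [show C.y = 1 from congrArg Subtype.val e', orderOf_one] at this
      exact C.hr.one_lt.ne this⟩⟩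
    haveI := hX.center_nontrivial
    obtain ⟨z, hz⟩ := exists_prime_orderOf_dvd_card' r (G := Subgroup.center X) (by
      obtain ⟨i, hi⟩ := IsPGroup.iff_card.mp (hX.to_subgroup (Subgroup.center X))
      have := Finite.one_lt_card (α := Subgroup.center X)
      rw [hi] at this ⊢
      exact dvd_pow_self r fun e0 => by rw [e0, pow_zero] at this; omega)
    have hzV : ((z : X) : G) ∈ V := ⟨(z : X).2, by
      rw [← hz]; exact congrArg (fun w : Subgroup.center X => ((w : X) : G)) (pow_orderOf_eq_one z),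
      fun x hx => congrArg Subtype.val (Subgroup.mem_center_iff.mp z.2 ⟨x, hx⟩)⟩
    rw [e, Subgroup.mem_bot] at hzV
    rw [show z = 1 from Subtype.ext (Subtype.ext hzV), orderOf_one] at hz
    exact C.hr.one_lt.ne hz
  have hCt_le : Cs C.t ≤ Subgroup.zpowers C.y := fun v hv => hVt v hv.1 (Subgroup.mem_centralizer_singleton_iff.mp hv.2)
  have hcy : Nat.card (Subgroup.zpowers C.y) = r := (Nat.card_zpowers _).trans C.yord
  have hCt : Cs C.t = Subgroup.zpowers C.y := by
    rcases (Nat.dvd_prime C.hr).mp (hcy ▸ Subgroup.card_dvd_of_le hCt_le) with h | h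
    · refine absurd (Subgroup.card_eq_one.mp ?_) hV1
      rw [hfour, h]
    · exact Subgroup.eq_of_le_of_card_ge hCt_le (by rw [h, hcy])
  have hVcard : Nat.card V = r * r * r := by rw [hfour, hCt, hcy]
  have hyV : C.y ∈ V := ((hCt.symm ▸ Subgroup.mem_zpowers C.y : C.y ∈ Cs C.t)).1
  set v2 := n0 * C.y * n0⁻¹ with hv2
  set v3 := k0 * v2 * k0⁻¹ with hv3
  have hv2V : v2 ∈ V := hVN _ hn0 _ hyV
  have hv3V : v3 ∈ V := hVN _ hkN _ hv2V
  have hfixC : ∀ {g u v : G}, v * u = u * v → g * v * g⁻¹ * (g * u * g⁻¹) = g * u * g⁻¹ * (g * v * g⁻¹) :=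
    fun {g u v} e => by
      rw [show g * v * g⁻¹ * (g * u * g⁻¹) = g * (v * u) * g⁻¹ by group, e]; group
  have hfix2 : v2 * C.s = C.s * v2 := by rw [← hn0s]; exact hfixC C.yt
  have hfix3 : v3 * (C.t * C.s) = C.t * C.s * v3 := by rw [← hk0]; exact hfixC hfix2
  have hfree : ∀ w ∈ V, w * C.t = C.t * w → w * C.s = C.s * w → w = 1 := fun w hw h1 h2 =>
    C.Ufree w 1 h1 h2 (by rw [pow_one]; exact hw.2.1)
  have hVc : ∀ v ∈ V, ∀ w ∈ V, v * w = w * v := fun v hv w hw => hw.2.2 v hv.1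
  have hyinv : C.s * C.y * C.s = C.y⁻¹ := by have := C.sy; rwa [C.s_inv] at this
  have hinvert : ∀ {u u' v : G}, u * u = 1 → u' * u' = 1 → u * u' = u' * u → v * u' = u' * v → v ∈ V →
      (∀ w ∈ V, u * w * u ∈ V) → (∀ w ∈ V, w * u = u * w → w * u' = u' * w → w = 1) → u * v * u = v⁻¹ := by
    intro u u' v hu hu' huu hv hvV huV hfr
    set v' := u * v * u with hv'
    have h1 : v * v' * u = u * (v * v') := by
      have e : v' * u = u * v := by rw [hv', mul_assoc, hu, mul_one]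
      rw [mul_assoc, e, ← mul_assoc, hVc v hvV v' (huV v hvV), hv', ← mul_assoc, ← mul_assoc]
      simp only [mul_assoc]
      rw [← mul_assoc u u, hu, one_mul]
    have h2 : v' * u' = u' * v' := by
      rw [hv', mul_assoc, huu, ← mul_assoc, mul_assoc u v u', hv, ← mul_assoc u u' v, huu]
      simp only [mul_assoc]
    have := hfr (v * v') (mul_mem hvV (huV v hvV)) h1 (by rw [mul_assoc, h2, ← mul_assoc, hv, mul_assoc])
    exact eq_inv_of_mul_eq_one_right this
  have hUt : ∀ w ∈ V, C.t * w * C.t ∈ V := fun w hw => by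
    have := hVN _ htN w hw; rwa [C.t_inv] at this
  have hUs : ∀ w ∈ V, C.s * w * C.s ∈ V := fun w hw => by
    have := hVN _ hsN w hw; rwa [C.s_inv] at this
  have hy_t : C.t * C.y * C.t = C.y := by rw [← C.yt, mul_assoc, C.t_sq, mul_one]
  have hv2_s : C.s * v2 * C.s = v2 := by rw [← hfix2, mul_assoc, C.s_sq, mul_one]
  have hv2_t : C.t * v2 * C.t = v2⁻¹ := hinvert C.t_sq C.s_sq C.ts.symm hfix2 hv2V hUt hfree
  have hts2 : C.t * C.s * (C.t * C.s) = 1 := by
    rw [mul_assoc, ← mul_assoc C.s, C.ts, mul_assoc, C.s_sq, mul_one, C.t_sq]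
  have hv3_t : C.t * v3 * C.t = v3⁻¹ := hinvert C.t_sq hts2 (by rw [← mul_assoc, C.t_sq, one_mul, mul_assoc, C.ts,
      ← mul_assoc, C.t_sq, one_mul]) hfix3 hv3V hUt fun w hw h1 h2 => hfree w hw h1 (by
      calc w * C.s = w * C.t * (C.t * C.s) * 1 := by rw [mul_one, mul_assoc w, ← mul_assoc C.t C.t, C.t_sq, one_mul]
        _ = C.t * (C.t * C.s) * w := by rw [mul_one, h1, mul_assoc, h2, ← mul_assoc]
        _ = C.s * w := by rw [← mul_assoc C.t C.t, C.t_sq, one_mul])
  have hv3_s : C.s * v3 * C.s = v3⁻¹ := hinvert C.s_sq hts2 (by rw [← mul_assoc, C.ts])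
      hfix3 hv3V hUs fun w hw h1 h2 => hfree w hw (by
      calc w * C.t = w * (C.t * C.s) * C.s := by rw [mul_assoc, mul_assoc, C.s_sq, mul_one]
        _ = C.t * C.s * (w * C.s) := by rw [h2, mul_assoc]
        _ = C.t * C.s * (C.s * w) := by rw [h1]
        _ = C.t * w := by rw [← mul_assoc, mul_assoc C.t, C.s_sq, mul_one]) h1
  -- coordinates
  letI : CommGroup V :=
    { (inferInstance : Group V) with mul_comm := fun v w => Subtype.ext (hVc v v.2 w w.2) }
  have hstab : ∀ g : N, ∀ v ∈ V, (g : G) * v * (g : G)⁻¹ ∈ V := fun g => hVN _ g.2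
  let act : N →* MulAut V :=
    { toFun := fun g =>
        { toFun := fun v => ⟨(g : G) * v * (g : G)⁻¹, hstab g v v.2⟩
          invFun := fun v => ⟨(g : G)⁻¹ * v * (g : G), by simpa using hstab g⁻¹ v v.2⟩
          left_inv := fun v => Subtype.ext (by simp [mul_assoc])
          right_inv := fun v => Subtype.ext (by simp [mul_assoc])
          map_mul' := fun v w => Subtype.ext (by simp [mul_assoc]) }
      map_one' := MulEquiv.ext fun v => Subtype.ext (by simp)
      map_mul' := fun g h => MulEquiv.ext fun v => Subtype.ext (by simp [mul_assoc]) }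
  have hy1 : C.y ≠ 1 := fun e' => by
    have := C.yord; rw [e', orderOf_one] at this; exact C.hr.one_lt.ne this
  have h2' : v2 ≠ 1 := fun e' => hy1 (conj_eq_one_iff.mp e')
  have h3' : v3 ≠ 1 := fun e' => h2' (conj_eq_one_iff.mp e')
  have h2z : (2 : ZMod r) ≠ 0 := by
    intro e'
    have := (ZMod.natCast_eq_zero_iff 2 r).mp (by exact_mod_cast e')
    exact C.hr2 ((Nat.prime_dvd_prime_iff_eq C.hr Nat.prime_two).mp this)
  set τ : N := ⟨C.t, htN⟩
  set σ : N := ⟨C.s, hsN⟩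
  obtain ⟨ψ, hψτ, hψσ, hψ0⟩ := exists_rep C.hr2 (fun v : V => Subtype.ext v.2.2.1) hVcard act
    ![⟨C.y, hyV⟩, ⟨v2, hv2V⟩, ⟨v3, hv3V⟩]
    (fun i e' => by
      fin_cases i
      · exact hy1 (congrArg Subtype.val e')
      · exact h2' (congrArg Subtype.val e')
      · exact h3' (congrArg Subtype.val e'))
    (τ := τ) (σ := σ)
    (by refine ⟨?_, ?_, ?_⟩ <;> refine Subtype.ext ?_ <;> simp [act, τ, C.t_inv, hy_t, hv2_t, hv3_t])
    (by refine ⟨?_, ?_, ?_⟩ <;> refine Subtype.ext ?_ <;> simp [act, σ, C.s_inv, hyinv, hv2_s, hv3_s])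
  -- the image
  set L := ψ.range
  let π : N →* L := ψ.rangeRestrict
  have hπ : Function.Surjective π := MonoidHom.rangeRestrict_surjective _
  have hne1 : ∀ {g : N}, π g = 1 → (ψ g).1 = 1 := fun {g} h => by
    rw [show ψ g = ((π g : L) : GL (Fin 3) (ZMod r)) from rfl, h]; rfl
  have hneg : (-1 : ZMod r) ≠ 1 := fun e' => h2z (by linear_combination -e')
  have hπτ : π τ ≠ 1 := fun h => hneg (by
    have := congrArg (fun M : Matrix (Fin 3) (Fin 3) (ZMod r) => M 1 1) (hψτ.symm.trans (hne1 h))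
    simpa using this)
  have hπσ : π σ ≠ 1 := fun h => hneg (by
    have := congrArg (fun M : Matrix (Fin 3) (Fin 3) (ZMod r) => M 0 0) (hψσ.symm.trans (hne1 h))
    simpa using this)
  have hkodd : ∀ k ∈ π.ker.map N.subtype, Odd (orderOf k) := by
    rintro _ ⟨k, hk, rfl⟩
    rw [Subgroup.coe_subtype]
    refine Nat.not_even_iff_odd.mp fun hev => ?_
    obtain ⟨m, hm⟩ := hev
    have hm0 : 0 < m := by have := orderOf_pos (k : G); omega
    set z := k ^ m
    have hz2 : (z : G) * z = 1 := by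
      rw [Subgroup.coe_pow, ← pow_add, ← hm, pow_orderOf_eq_one]
    have hz1 : (z : G) ≠ 1 := by
      rw [Subgroup.coe_pow]
      exact pow_ne_one_of_lt_orderOf hm0.ne' (by omega)
    obtain ⟨g, hg, e1 | e1⟩ := C.invol_in hR z.2 hz2 hz1
    · refine hπτ ?_
      rw [show τ = (⟨g, hg⟩ : N) * z * (⟨g, hg⟩ : N)⁻¹ from Subtype.ext e1.symm, map_mul, map_mul,
        show π z = 1 from by rw [map_pow, show π k = 1 from hk, one_pow], mul_one, ← map_mul, mul_inv_cancel, map_one]
    · refine hπσ ?_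
      rw [show σ = (⟨g, hg⟩ : N) * z * (⟨g, hg⟩ : N)⁻¹ from Subtype.ext e1.symm, map_mul, map_mul,
        show π z = 1 from by rw [map_pow, show π k = 1 from hk, one_pow], mul_one, ← map_mul, mul_inv_cancel, map_one]
  have hρN : C.ρ ∈ N := hR (Subgroup.mem_sup_left (Subgroup.mem_zpowers _))
  have hπts : π σ * π ⟨C.ρ, hρN⟩ * (π σ)⁻¹ = (π ⟨C.ρ, hρN⟩)⁻¹ * π τ := by
    rw [← map_inv, ← map_inv, ← map_mul, ← map_mul, ← map_mul]
    exact congrArg π (Subtype.ext C.sρ)
  have hfix0 : ∀ g : N, (g : G) ∈ C.T → (ψ g).1 0 0 = 1 := fun g hg => by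
    refine hψ0 g (Subtype.ext ?_)
    show (g : G) * C.y * (g : G)⁻¹ = C.y
    rw [((C.Tiff _).mp hg).2, mul_inv_cancel_right]
  refine Lin3.false_of_fused (K := ZMod r) (L := L)
    { φ := L.subtype
      inj := L.subtype_injective
      two := h2z
      t := π τ
      s := π σ
      ρ := π ⟨C.ρ, hρN⟩
      T := (C.T.subgroupOf N).map π
      c := C.c
      hc := C.hc
      ht := hψτ
      hs := hψσ
      comm := by
        rintro _ ⟨x, hx, rfl⟩ _ ⟨z, hz, rfl⟩
        rw [← map_mul, ← map_mul]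
        exact congrArg π (Subtype.ext (C.Tcomm _ hx _ hz))
      cent := by
        rintro _ ⟨x, hx, rfl⟩
        rw [← map_mul, ← map_mul]
        exact congrArg π (Subtype.ext ((C.Tiff _).mp hx).1)
      fix0 := by
        rintro _ ⟨x, hx, rfl⟩
        exact hfix0 x hx
      mem := fun x hx => by
        obtain ⟨g, rfl⟩ := hπ x
        have hk : (g : G) * C.t * (g : G)⁻¹ * C.t ∈ π.ker.map N.subtype := by
          refine ⟨g * τ * g⁻¹ * τ, MonoidHom.mem_ker.mpr ?_, rfl⟩
          rw [map_mul, map_mul, map_mul, map_inv, hx, mul_inv_cancel_right, ← map_mul,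
            show τ * τ = 1 from Subtype.ext C.t_sq, map_one]
        obtain ⟨j, ⟨j', hj', rfl⟩, hjt⟩ := C.lift_cent hkodd hk
        have hπg : π (j'⁻¹ * g) = π g := by rw [map_mul, map_inv, MonoidHom.mem_ker.mp hj', inv_one, one_mul]
        rcases C.cent_norm hXK hy (g := ((j'⁻¹ * g : N) : G)) (j'⁻¹ * g).2 hjt with h | h
        · exact Or.inl ⟨_, h, hπg⟩
        · exact Or.inr ⟨(j'⁻¹ * g) * σ, h, by rw [map_mul, hπg]⟩
      ρT := ⟨_, C.ρT, rfl⟩
      sρ := hπts
      ρord := by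
        refine orderOf_eq_prime_pow (p := 2) ?_ ?_ |>.trans (congrArg (2 ^ ·) (Nat.sub_add_cancel (by linarith [C.hc]) : C.c - 1 + 1 = C.c))
        · rw [← map_pow, show (⟨C.ρ, hρN⟩ : N) ^ 2 ^ (C.c - 1) = τ from Subtype.ext C.ρt]
          exact hπτ
        · rw [← map_pow, show (⟨C.ρ, hρN⟩ : N) ^ 2 ^ (C.c - 1 + 1) = 1 from Subtype.ext (by
            rw [Subgroup.coe_pow, Nat.sub_add_cancel (by linarith [C.hc]), ← C.ρord]; exact pow_orderOf_eq_one _),
            map_one]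
      exact2 := fun h => C.exact2 ((h.trans (Subgroup.card_range_dvd ψ)).trans (Subgroup.card_subgroup_dvd_card N))
      fused := isConj_iff.mpr ⟨π ⟨n0, hn0⟩, by
        rw [← map_inv, ← map_mul, ← map_mul]; exact congrArg π (Subtype.ext hn0s)⟩ }

include C in
/-- The bound on the `r`-part. -/
theorem bound : padicValNat r (Nat.card G) ≤ 3 * a := by
  haveI : Fact r.Prime := ⟨C.hr⟩
  obtain ⟨X, hX, hXK, hR, hy, hbound, hmax⟩ := C.exists_X
  have hsyl := C.sylow_of_not_fused hX hXK hR hy hbound hmax (C.not_fused hX hXK hR hy)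
  let S : Sylow r G :=
    { toSubgroup := X, isPGroup' := hX, is_maximal' := fun {D} hD hle => hsyl D hD hle }
  obtain ⟨hsN, htN, -⟩ := C.R_le hR
  have h1 : Nat.card (S : Subgroup G) ∣ r ^ (3 * a) := C.card_invariant_dvd hX
    (fun x hx => (Subgroup.mem_normalizer_iff.mp htN x).mp hx)
    (fun x hx => (Subgroup.mem_normalizer_iff.mp hsN x).mp hx)
  rw [S.card_eq_multiplicity] at h1
  rw [← Nat.factorization_def _ C.hr]
  exact (Nat.pow_dvd_pow_iff_le_right C.hr.one_lt).mp h1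

end RCtx

end CfsgLib.GL2Cent
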