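import Cfsg.Agent.Lib.GL2Cent.Nonsplit
import Cfsg.Agent.Lib.GL2Cent.RLocalBound

/-!
The `r`-part of the group order for an odd prime `r` dividing `q + 1`, when `q ≡ 3 (mod 4)`.
-/

set_option autoImplicit false
set_option linter.unusedSectionVars false
set_option linter.unusedSimpArgs false
set_option linter.style.haveILetI false

namespace CfsgLib.GL2Cent

open Matrix

universe u v

variable {G : Type u} [Group G] [Finite G] [IsSimpleGroup G] {F : Type v} [Field F] [Fintype F]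

namespace Hyp

variable {f : GL (Fin 2) F →* G} (hf : Hyp f) (h2 : (2 : F) ≠ 0)
include hf h2

/-- The `r`-part of the group order. -/
theorem r_part_bound (h4 : Fintype.card F % 4 = 3) {r : ℕ} (hr : r.Prime) (hr2 : r ≠ 2)
    (hrq : r ∣ Fintype.card F + 1) :
    padicValNat r (Nat.card G) ≤ 3 * padicValNat r (Fintype.card F + 1) := by
  classical
  haveI : Fact r.Prime := ⟨hr⟩
  haveI : Fact (Nat.Prime 2) := ⟨Nat.prime_two⟩
  set q := Fintype.card F with hq
  have hq1 : 1 < q := Fintype.one_lt_card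
  have hns : ∀ x : F, x * x ≠ -1 := fun x e =>
    FiniteField.isSquare_neg_one_iff.mp ⟨x, e.symm⟩ h4
  have hrF : (r : F) ≠ 0 := by
    intro e
    obtain ⟨k, hk⟩ := hrq
    have h1 := congrArg (fun n : ℕ => (n : F)) hk
    simp [hq, e] at h1
  have hrq0 : ¬ r ∣ q := fun h => by
    have := Nat.dvd_sub hrq h
    rw [Nat.add_sub_cancel_left] at this
    exact hr.one_lt.ne' (Nat.dvd_one.mp this)
  have hrq1 : ¬ r ∣ q - 1 := fun h => by
    have := Nat.dvd_sub hrq h
    rw [show q + 1 - (q - 1) = 2 by omega] at this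
    exact hr2 ((Nat.prime_dvd_prime_iff_eq hr Nat.prime_two).mp this)
  have hrk : ¬ r ∣ Nat.card f.ker := fun h => hrq1 (h.trans hf.ker_dvd)
  have hkc : (Nat.card f.ker).Coprime r := Nat.coprime_comm.mp ((Nat.Prime.coprime_iff_not_dvd hr).mpr hrk)
  have hsq : q ^ 2 - 1 = (q - 1) * (q + 1) := by
    obtain ⟨d, hd⟩ := Nat.exists_eq_add_of_le hq1.le
    rw [hd, show 1 + d - 1 = d by omega, show (1 + d) ^ 2 = d * (1 + d + 1) + 1 by ring, Nat.add_sub_cancel]
  -- the torus and its order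
  set T : Subgroup G := (tor0 : Subgroup (GL (Fin 2) F)).map f with hT
  have hle0 : f.ker ≤ (tor0 : Subgroup (GL (Fin 2) F)) := hf.kerc.trans center_le_tor0
  have hTcard : Nat.card T * Nat.card f.ker = (q - 1) * (q + 1) := by
    have h := card_range_comp f (tor0 : Subgroup (GL (Fin 2) F)).subtype (Subgroup.subtype_injective _)
      (by rw [Subgroup.range_subtype]; exact hle0)
    rw [card_tor0 hns, ← hsq] at *
    rw [← h]
    congr 2
    rw [hT, MonoidHom.range_comp, Subgroup.range_subtype]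
  have hTr : r ∣ Nat.card T := (hkc.symm.dvd_of_dvd_mul_right (hTcard ▸ dvd_mul_of_dvd_right hrq _))
  have hTle : T ≤ f.range := Subgroup.map_le_range _ _
  have hTt : ∀ x ∈ T, x * tt f = tt f * x := fun x hx => hf.mem_cent.mpr (MonoidHom.mem_range.mp (hTle hx))
  have hTcomm : ∀ x ∈ T, ∀ z ∈ T, x * z = z * x := by
    rintro _ ⟨g, hg, rfl⟩ _ ⟨h, hh, rfl⟩
    rw [← map_mul, ← map_mul, tor0_comm hg hh]
  have hu1 : uu f * uu f = 1 := uu_sq
  have hui : (uu f)⁻¹ = uu f := inv_eq_of_mul_eq_one_left hu1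
  -- elements of order `r` in the torus are inverted
  have hrinv : ∀ x ∈ T, x ^ r = 1 → uu f * x * uu f = x⁻¹ := by
    rintro _ ⟨g, hg, rfl⟩ hxr
    set d := Matrix.GeneralLinearGroup.det g
    set z : G := f (dg d d) with hz
    have e : uu f * f g * uu f * f g = z := by
      rw [hz, uu, ← map_mul, ← map_mul, ← map_mul, refl_tor0 hg]
    have hmem : uu f * f g * uu f ∈ T := ⟨_, refl_mem_tor0 hg, by rw [uu, map_mul, map_mul]⟩
    have h1 : z ^ r = 1 := by
      rw [← e, (show Commute (uu f * f g * uu f) (f g) from hTcomm _ hmem _ ⟨g, hg, rfl⟩).mul_pow, hxr, mul_one]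
      have : uu f * f g * uu f = uu f * f g * (uu f)⁻¹ := by rw [hui]
      rw [this, conj_pow, hxr, mul_one, mul_inv_cancel]
    have h3 : z ^ (q - 1) = 1 := by
      have hd : d ^ (q - 1) = 1 := Units.ext (by simpa using FiniteField.pow_card_sub_one_eq_one _ d.ne_zero)
      have hp : ∀ n : ℕ, dg d d ^ n = dg (d ^ n) (d ^ n) := fun n => by
        induction n with
        | zero => simp [dg_one]
        | succ n ih => rw [pow_succ, ih, dg_mul, ← pow_succ]
      rw [hz, ← map_pow, hp, hd, dg_one, map_one]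
    have hz1 : z = 1 := orderOf_eq_one_iff.mp (Nat.eq_one_of_dvd_coprimes
      ((Nat.Prime.coprime_iff_not_dvd hr).mpr hrq1) (orderOf_dvd_of_pow_eq_one h1) (orderOf_dvd_of_pow_eq_one h3))
    exact eq_inv_of_mul_eq_one_left (e.trans hz1)
  obtain ⟨⟨y, hyT⟩, hy⟩ := exists_prime_orderOf_dvd_card' r hTr
  rw [Subgroup.orderOf_mk] at hy
  have hy1 : y ≠ 1 := fun e => by rw [e, orderOf_one] at hy; exact hr.one_lt.ne hy
  have hyr : y ^ r = 1 := by rw [← hy, pow_orderOf_eq_one]
  obtain ⟨y0, hy0, hfy⟩ := id hyT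
  have hyn : y0 ∉ Subgroup.center (GL (Fin 2) F) := fun hc => by
    obtain ⟨a, rfl⟩ := exists_scalar hc
    have : orderOf y ∣ Nat.card (scal f) := Subgroup.orderOf_dvd_natCard _ (mem_scal.mpr ⟨a, hfy⟩)
    rw [hy] at this
    exact hrq1 (this.trans ⟨_, hf.card_scal.symm⟩)
  have hTiff : ∀ x, x ∈ T ↔ x * tt f = tt f * x ∧ x * y = y * x := by
    intro x
    refine ⟨fun hx => ⟨hTt x hx, hTcomm x hx y hyT⟩, fun ⟨h1, h2⟩ => ?_⟩
    obtain ⟨g, rfl⟩ := hf.mem_cent.mp h1
    rw [← hfy] at h2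
    exact ⟨g, cent_tor0 hy0 hyn (hf.comm_iff.mp h2), rfl⟩
  have hTrel : ∀ x ∈ T, x ^ r = 1 → x ∈ Subgroup.zpowers y := by
    intro x hx hxr
    let D : Subgroup G :=
      { carrier := {w | w ∈ T ∧ w ^ r = 1}
        one_mem' := ⟨one_mem _, one_pow _⟩
        mul_mem' := fun {v w} hv hw => ⟨mul_mem hv.1 hw.1, by
          rw [(show Commute v w from hTcomm v hv.1 w hw.1).mul_pow, hv.2, hw.2, mul_one]⟩
        inv_mem' := fun {v} hv => ⟨inv_mem hv.1, by rw [inv_pow, hv.2, inv_one]⟩ }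
    have hD : IsPGroup r D := fun w => ⟨1, Subtype.ext (by rw [Subgroup.coe_pow, pow_one]; exact w.2.2)⟩
    exact hf.inverted_eq hr2 hrF hD (fun w hw => hTle hw.1) (x := y) ⟨hyT, hyr⟩ ⟨hx, hxr⟩ hyr hxr hy1
      (hrinv y hyT hyr) (hrinv x hx hxr)
  -- the two-part
  obtain ⟨g0, hg0, hg0o, hg0d⟩ := exists_rho hns h4
  set c := (q ^ 2 - 1).factorization 2 with hc
  have h8 : 8 ∣ q ^ 2 - 1 := by
    obtain ⟨k, hk⟩ : ∃ k, q = 4 * k + 3 := ⟨q / 4, by omega⟩
    refine ⟨2 * k * k + 3 * k + 1, ?_⟩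
    rw [hk, show (4 * k + 3) ^ 2 = 8 * (2 * k * k + 3 * k + 1) + 1 by ring, Nat.add_sub_cancel]
  have hq0 : q ^ 2 - 1 ≠ 0 := by
    rw [hsq]; exact Nat.mul_ne_zero (by omega) (by omega)
  have hc3 : 3 ≤ c := (Nat.prime_two.pow_dvd_iff_le_factorization hq0).mp h8
  have hkodd : ∀ g : GL (Fin 2) F, g ∈ f.ker → ∀ k : ℕ, g ^ 2 ^ k = 1 → g = 1 := fun g hg k h => by
    have h1 : orderOf g ∣ Nat.card f.ker := Subgroup.orderOf_dvd_natCard _ hg
    exact orderOf_eq_one_iff.mp (Nat.eq_one_of_dvd_coprimes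
      ((Nat.coprime_two_left.mpr hf.kero).pow_left k) (orderOf_dvd_of_pow_eq_one h) h1)
  have hg0c : g0 ^ 2 ^ c = 1 := by rw [← hg0o, pow_orderOf_eq_one]
  set ρ := f g0 with hρ
  have hρo : orderOf ρ = 2 ^ c := by
    refine orderOf_eq_prime_pow (p := 2) (n := c - 1) (fun e => ?_) ?_ |>.trans (by congr 1; omega)
    · rw [hρ, ← map_pow] at e
      have := hkodd _ (f.mem_ker.mpr e) 1 (by
        rw [← pow_mul, pow_one, ← pow_succ, show c - 1 + 1 = c by omega, hg0c])
      exact pow_ne_one_of_lt_orderOf (by positivity) (by rw [hg0o]; exact Nat.pow_lt_pow_right (by norm_num) (by omega))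
        this
    · rw [hρ, ← map_pow, show c - 1 + 1 = c by omega, hg0c, map_one]
  have hsρ : uu f * ρ * (uu f)⁻¹ = ρ⁻¹ * tt f := by
    have e : uu f * ρ * uu f * ρ = tt f := by
      rw [hρ, uu, tt, ← map_mul, ← map_mul, ← map_mul, refl_tor0 hg0, hg0d]
    rw [hui, ← e]
    have hc : ρ⁻¹ * (uu f * ρ * uu f) = uu f * ρ * uu f * ρ⁻¹ :=
      hTcomm _ (inv_mem ⟨g0, hg0, rfl⟩) _ ⟨_, refl_mem_tor0 hg0, by rw [hρ, uu, map_mul, map_mul]⟩
    rw [← mul_assoc, hc, inv_mul_cancel_right]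
  have hρt : ρ ^ 2 ^ (c - 1) = tt f := by
    have h1 : g0 ^ 2 ^ (c - 1) * g0 ^ 2 ^ (c - 1) = 1 := by
      rw [← pow_add, ← two_mul, ← pow_succ', show c - 1 + 1 = c by omega, hg0c]
    have h3 := (tor0_sq_one hns (pow_mem hg0 _) h1).resolve_left
      (pow_ne_one_of_lt_orderOf (by positivity) (by rw [hg0o]; exact Nat.pow_lt_pow_right (by norm_num) (by omega)))
    rw [hρ, ← map_pow, h3]
    rfl
  have hTtwo : ∀ x ∈ T, ∀ k : ℕ, x ^ 2 ^ k = 1 → x ∈ Subgroup.zpowers ρ := by
    intro x hx k hk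
    let E : Subgroup G :=
      { carrier := {w | w ∈ T ∧ ∃ k : ℕ, w ^ 2 ^ k = 1}
        one_mem' := ⟨one_mem _, 0, one_pow _⟩
        mul_mem' := fun {v w} hv hw => ⟨mul_mem hv.1 hw.1, by
          obtain ⟨i, hi⟩ := hv.2
          obtain ⟨j, hj⟩ := hw.2
          refine ⟨i + j, ?_⟩
          rw [(show Commute v w from hTcomm v hv.1 w hw.1).mul_pow, pow_add, pow_mul v, hi, one_pow, one_mul,
            mul_comm, pow_mul, hj, one_pow]⟩
        inv_mem' := fun {v} hv => ⟨inv_mem hv.1, hv.2.imp fun i hi => by rw [inv_pow, hi, inv_one]⟩ }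
    have hE : IsPGroup 2 E := fun w => w.2.2.imp fun i hi => Subtype.ext (by rw [Subgroup.coe_pow]; exact hi)
    have hρE : Subgroup.zpowers ρ ≤ E :=
      Subgroup.zpowers_le.mpr ⟨⟨g0, hg0, rfl⟩, c, by rw [← hρo, pow_orderOf_eq_one]⟩
    have hle : Nat.card E ≤ Nat.card (Subgroup.zpowers ρ) := by
      obtain ⟨m, hm⟩ := IsPGroup.iff_card.mp hE
      have hd : 2 ^ m ∣ q ^ 2 - 1 := by
        rw [← hm, hsq, ← hTcard]
        exact dvd_mul_of_dvd_left (Subgroup.card_dvd_of_le fun w (hw : w ∈ E) => hw.1) _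
      rw [hm, Nat.card_zpowers, hρo]
      exact Nat.pow_le_pow_right two_pos ((Nat.prime_two.pow_dvd_iff_le_factorization hq0).mp hd)
    rw [Subgroup.eq_of_le_of_card_ge hρE hle]
    exact ⟨hx, k, hk⟩
  -- orders
  have hrange : Nat.card f.range * Nat.card f.ker = q * (q - 1) ^ 2 * (q + 1) := hf.card_cent
  have hrfac : (Nat.card f.range).factorization r = (q + 1).factorization r := by
    have h0 : Nat.card f.range ≠ 0 := Nat.card_pos.ne'
    have e := congrArg (fun n => n.factorization r) hrange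
    simp only [Nat.factorization_mul h0 Nat.card_pos.ne',
      Nat.factorization_mul (Nat.mul_ne_zero (by omega : q ≠ 0) (pow_ne_zero 2 (by omega : q - 1 ≠ 0))) (by omega : q + 1 ≠ 0),
      Nat.factorization_mul (by omega : q ≠ 0) (pow_ne_zero 2 (by omega : q - 1 ≠ 0)), Finsupp.add_apply,
      Nat.factorization_eq_zero_of_not_dvd hrk, Nat.factorization_eq_zero_of_not_dvd hrq0, Nat.factorization_pow,
      Finsupp.smul_apply, Nat.factorization_eq_zero_of_not_dvd hrq1] at e
    simpa using e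
  have hexact : ¬ 2 ^ (c + 2) ∣ Nat.card G := by
    intro hdiv
    obtain ⟨P⟩ : Nonempty (Sylow 2 (GL (Fin 2) F)) := inferInstance
    obtain ⟨S, hS⟩ := hf.sylow_two h2 P
    have h1 : Nat.card (S : Subgroup G) ∣ Nat.card f.range := Subgroup.card_dvd_of_le (hS ▸ Subgroup.map_le_range _ _)
    rw [S.card_eq_multiplicity] at h1
    have h2' : 2 ^ (c + 2) ∣ q * (q - 1) * (q ^ 2 - 1) := by
      rw [hsq, show q * (q - 1) * ((q - 1) * (q + 1)) = q * (q - 1) ^ 2 * (q + 1) by ring, ← hrange]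
      exact (((pow_dvd_pow 2 ((Nat.prime_two.pow_dvd_iff_le_factorization Nat.card_pos.ne').mp hdiv)).trans h1)).mul_right _
    have hne : q * (q - 1) ≠ 0 := Nat.mul_ne_zero (by omega) (by omega)
    have h3 := (Nat.prime_two.pow_dvd_iff_le_factorization (Nat.mul_ne_zero hne hq0)).mp h2'
    rw [Nat.factorization_mul hne hq0, Nat.factorization_mul (by omega : q ≠ 0) (by omega : q - 1 ≠ 0),
      Finsupp.add_apply, Finsupp.add_apply, Nat.factorization_eq_zero_of_not_dvd (by omega : ¬ 2 ∣ q), ← hc] at h3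
    have hv : (q - 1).factorization 2 ≤ 1 := by
      by_contra hcon
      have := (Nat.prime_two.pow_dvd_iff_le_factorization (k := 2) (by omega : q - 1 ≠ 0)).mpr (by omega)
      omega
    omega
  have hUfree : ∀ x : G, ∀ k : ℕ, x * tt f = tt f * x → x * uu f = uu f * x → x ^ r ^ k = 1 → x = 1 := by
    intro x k h1 h1' hk
    have hx : x ∈ tor f := (hf.tor_iff h2).mpr ⟨h1, h1'⟩
    have hd : orderOf x ∣ (q - 1) ^ 2 := (Subgroup.orderOf_dvd_natCard _ hx).trans ⟨_, hf.card_tor.symm⟩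
    exact orderOf_eq_one_iff.mp (Nat.eq_one_of_dvd_coprimes
      (((Nat.Prime.coprime_iff_not_dvd hr).mpr hrq1).pow k 2) (orderOf_dvd_of_pow_eq_one hk) hd)
  have hbound : ∀ D : Subgroup G, IsPGroup r D → D ≤ Subgroup.centralizer ({tt f} : Set G) →
      Nat.card D ∣ r ^ ((q + 1).factorization r) := by
    intro D hD hle
    obtain ⟨k, hk⟩ := IsPGroup.iff_card.mp hD
    rw [← hf.range] at hle
    rw [hk, ← hrfac]
    exact pow_dvd_pow r ((hr.pow_dvd_iff_le_factorization Nat.card_pos.ne').mp (hk ▸ Subgroup.card_dvd_of_le hle))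
  have htoY : ∀ w : G, w * tt f = tt f * w → w ^ r = 1 →
      ∃ h : G, h * tt f = tt f * h ∧ h * w * h⁻¹ ∈ Subgroup.zpowers y := by
    intro w hw hwr
    have hwC : w ∈ f.range := MonoidHom.mem_range.mpr (hf.mem_cent.mp hw)
    obtain ⟨P⟩ : Nonempty (Sylow r T) := inferInstance
    have hT' : ((P : Subgroup T).map T.subtype) ≤ f.range := (Subgroup.map_subtype_le _).trans hTle
    have hTfac : (Nat.card T).factorization r = (q + 1).factorization r := by
      have e := congrArg (fun n => n.factorization r) hTcard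
      simp only [Nat.factorization_mul Nat.card_pos.ne' Nat.card_pos.ne',
        Nat.factorization_mul (by omega : q - 1 ≠ 0) (by omega : q + 1 ≠ 0), Finsupp.add_apply,
        Nat.factorization_eq_zero_of_not_dvd hrk, Nat.factorization_eq_zero_of_not_dvd hrq1] at e
      simpa using e
    let S0 : Sylow r f.range := Sylow.ofCard (((P : Subgroup T).map T.subtype).subgroupOf f.range) (by
      rw [Nat.card_congr (Subgroup.subgroupOfEquivOfLe hT').toEquiv,
        Subgroup.card_map_of_injective T.subtype_injective, P.card_eq_multiplicity, hTfac, hrfac])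
    obtain ⟨Q, hQ⟩ := (show IsPGroup r (Subgroup.zpowers (⟨w, hwC⟩ : f.range)) by
      rcases (Nat.dvd_prime hr).mp (orderOf_dvd_of_pow_eq_one
        (show (⟨w, hwC⟩ : f.range) ^ r = 1 from Subtype.ext hwr)) with hi | hi
      · exact IsPGroup.of_card (n := 0) (by rw [Nat.card_zpowers, hi, pow_zero])
      · exact IsPGroup.of_card (n := 1) (by rw [Nat.card_zpowers, hi, pow_one])).exists_le_sylow
    obtain ⟨h, hh⟩ := MulAction.exists_smul_eq f.range Q S0
    refine ⟨h, hf.mem_cent.mpr (MonoidHom.mem_range.mp h.2), hTrel _ ?_ (by rw [conj_pow, hwr, mul_one, mul_inv_cancel])⟩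
    have : (MulAut.conj h) ⟨w, hwC⟩ ∈ (S0 : Subgroup f.range) := by
      rw [← hh]
      exact Subgroup.smul_mem_pointwise_smul _ (MulAut.conj h) _ (hQ (Subgroup.mem_zpowers _))
    have h3 : ((MulAut.conj h) ⟨w, hwC⟩ : f.range).1 ∈ (P : Subgroup T).map T.subtype := this
    exact Subgroup.map_subtype_le _ h3
  let C : RCtx G r ((q + 1).factorization r) :=
    { t := tt f
      s := uu f
      y := y
      ρ := ρ
      T := T
      c := c
      hr := hr
      hr2 := hr2
      hc := hc3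
      t_sq := tt_sq
      s_sq := hu1
      t_ne := hf.tt_ne h2
      s_ne := hf.uu_ne h2
      st_ne := (hf.uu_ne_tt h2).symm
      ts := hf.uu_comm
      oneClass := fun x hx hx1 => hf.conj_tt h2 hx hx1
      Tcomm := hTcomm
      Tiff := hTiff
      yord := hy
      yt := hTt y hyT
      Tr := hTrel
      sy := by rw [hui]; exact hrinv y hyT hyr
      ρT := ⟨g0, hg0, rfl⟩
      ρord := hρo
      ρt := hρt
      sρ := hsρ
      Ttwo := hTtwo
      norm := fun g hg hgy => by
        obtain ⟨g', rfl⟩ := hf.mem_cent.mp hg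
        have h1 := hTcomm _ hgy _ hyT
        rw [← hfy, ← map_inv, ← map_mul, ← map_mul] at h1
        have hc' : g' * y0 * g'⁻¹ ∈ (tor0 : Subgroup (GL (Fin 2) F)) := cent_tor0 hy0 hyn (hf.comm_iff.mp h1)
        have hnc : g' * y0 * g'⁻¹ ∉ Subgroup.center (GL (Fin 2) F) := fun hcen => hyn (by
          have := Subgroup.Normal.conj_mem inferInstance _ hcen g'⁻¹
          rwa [show g'⁻¹ * (g' * y0 * g'⁻¹) * g'⁻¹⁻¹ = y0 by group] at this)
        have hj : g' * jj * g'⁻¹ ∈ (tor0 : Subgroup (GL (Fin 2) F)) := cent_tor0 hc' hnc (by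
          rw [show g' * jj * g'⁻¹ * (g' * y0 * g'⁻¹) = g' * (jj * y0) * g'⁻¹ by group,
            (Subgroup.mem_centralizer_singleton_iff.mp hy0).symm]
          group)
        exact (norm_tor0 hns hj).imp (fun h => ⟨g', h, rfl⟩) (fun h => ⟨_, h, by rw [map_mul]; rfl⟩)
      exact2 := hexact
      Ufree := hUfree
      centBound := hbound
      toY := htoY }
  have := C.bound
  rwa [← Nat.factorization_def (q + 1) hr]

end Hyp

end CfsgLib.GL2Cent
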