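import Cfsg.Agent.Lib.GL2Cent.CentX
import Cfsg.Agent.Lib.Coprime
import Cfsg.Agent.Lib.ZStar.Main
import Cfsg.Agent.Lib.Involutions
import Cfsg.Agent.Lib.Fusion.GLTwoSylow

/-!
A prime `r` whose elements in the centraliser of an involution `t` lie in a torus with a semidihedral normaliser:
the invariant maximal `r`-subgroup and the consequences of the absence of fusion in its normaliser.
-/

set_option autoImplicit false
set_option linter.unusedSectionVars false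
set_option linter.unusedSimpArgs false
set_option linter.style.haveILetI false

namespace CfsgLib.GL2Cent

universe u

/-- The local data at the prime `r`. -/
structure RCtx (G : Type u) [Group G] (r a : ℕ) where
  t : G
  s : G
  y : G
  ρ : G
  T : Subgroup G
  c : ℕ
  hr : r.Prime
  hr2 : r ≠ 2
  hc : 3 ≤ c
  t_sq : t * t = 1
  s_sq : s * s = 1
  t_ne : t ≠ 1
  s_ne : s ≠ 1
  st_ne : t ≠ s
  ts : s * t = t * s
  oneClass : ∀ x : G, x * x = 1 → x ≠ 1 → ∃ g, g * x * g⁻¹ = t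
  Tcomm : ∀ x ∈ T, ∀ z ∈ T, x * z = z * x
  Tiff : ∀ x, x ∈ T ↔ x * t = t * x ∧ x * y = y * x
  yord : orderOf y = r
  yt : y * t = t * y
  Tr : ∀ x ∈ T, x ^ r = 1 → x ∈ Subgroup.zpowers y
  sy : s * y * s⁻¹ = y⁻¹
  ρT : ρ ∈ T
  ρord : orderOf ρ = 2 ^ c
  ρt : ρ ^ 2 ^ (c - 1) = t
  sρ : s * ρ * s⁻¹ = ρ⁻¹ * t
  Ttwo : ∀ x ∈ T, ∀ k : ℕ, x ^ 2 ^ k = 1 → x ∈ Subgroup.zpowers ρ
  norm : ∀ g : G, g * t = t * g → g * y * g⁻¹ ∈ T → g ∈ T ∨ g * s ∈ T
  exact2 : ¬ 2 ^ (c + 2) ∣ Nat.card G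
  Ufree : ∀ x : G, ∀ k : ℕ, x * t = t * x → x * s = s * x → x ^ r ^ k = 1 → x = 1
  centBound : ∀ D : Subgroup G, IsPGroup r D → D ≤ Subgroup.centralizer ({t} : Set G) → Nat.card D ∣ r ^ a
  toY : ∀ w : G, w * t = t * w → w ^ r = 1 → ∃ h : G, h * t = t * h ∧ h * w * h⁻¹ ∈ Subgroup.zpowers y

namespace RCtx

variable {G : Type u} [Group G] {r a : ℕ} (C : RCtx G r a)

theorem tT : C.t ∈ C.T := (C.Tiff _).mpr ⟨rfl, C.yt.symm⟩

theorem yT : C.y ∈ C.T := (C.Tiff _).mpr ⟨C.yt, rfl⟩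

theorem t_inv : C.t⁻¹ = C.t := inv_eq_of_mul_eq_one_left C.t_sq

theorem s_inv : C.s⁻¹ = C.s := inv_eq_of_mul_eq_one_left C.s_sq

theorem s_not : C.s ∉ C.T := fun h => by
  have e := C.sρ
  rw [C.Tcomm _ h _ C.ρT, mul_inv_cancel_right] at e
  have h2 : C.ρ * C.ρ = C.t := by
    calc C.ρ * C.ρ = C.ρ * (C.ρ⁻¹ * C.t) := by rw [← e]
      _ = C.t := by group
  have h4 : orderOf C.ρ ∣ 4 := orderOf_dvd_of_pow_eq_one (by
    rw [show (4 : ℕ) = 2 + 2 from rfl, pow_add, pow_two, h2, C.t_sq])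
  rw [C.ρord] at h4
  have := Nat.le_of_dvd (by norm_num) h4
  have : 2 ^ 3 ≤ 2 ^ C.c := Nat.pow_le_pow_right (by norm_num) C.hc
  omega

/-- The four-group acts without common fixed points. -/
theorem ts_ne : C.t * C.s ≠ 1 := fun e => C.st_ne (by
  rw [← mul_one C.t, ← C.s_sq, ← mul_assoc, e, one_mul])

theorem ρk_s : C.ρ ^ 2 ^ (C.c - 2) * C.s * (C.ρ ^ 2 ^ (C.c - 2))⁻¹ = C.t * C.s := by
  set k := 2 ^ (C.c - 2) with hk
  have hc := C.hc
  have hcomm : Commute C.ρ⁻¹ C.t := C.Tcomm _ (inv_mem C.ρT) _ C.tT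
  have h1 : C.s * (C.ρ ^ k) * C.s⁻¹ = (C.ρ ^ k)⁻¹ := by
    rw [← conj_pow, C.sρ, hcomm.mul_pow, inv_pow]
    have hev : C.t ^ k = 1 := by
      obtain ⟨j, hj⟩ : Even k := Nat.even_pow.mpr ⟨even_two, by omega⟩
      rw [hj, ← two_mul, pow_mul, pow_two, C.t_sq, one_pow]
    rw [hev, mul_one]
  have h2 : C.s * (C.ρ ^ k)⁻¹ * C.s⁻¹ = C.ρ ^ k := by
    rw [show C.s * (C.ρ ^ k)⁻¹ * C.s⁻¹ = (C.s * C.ρ ^ k * C.s⁻¹)⁻¹ by group, h1, inv_inv]
  calc C.ρ ^ k * C.s * (C.ρ ^ k)⁻¹ = C.ρ ^ k * (C.s * (C.ρ ^ k)⁻¹ * C.s⁻¹) * C.s := by group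
    _ = C.ρ ^ (2 ^ (C.c - 1)) * C.s := by
      rw [h2, ← pow_add, hk, ← two_mul, ← pow_succ']
      congr 3
      omega
    _ = _ := by rw [C.ρt]

/-- The Sylow 2-subgroup. -/
def R : Subgroup G := Subgroup.zpowers C.ρ ⊔ Subgroup.zpowers C.s

variable [Finite G]

theorem s_norm_ρ : C.s ∈ Subgroup.normalizer ((Subgroup.zpowers C.ρ : Subgroup G) : Set G) :=
  Subgroup.mem_normalizer_fintype fun x hx => by
    obtain ⟨i, rfl⟩ := Subgroup.mem_zpowers_iff.mp hx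
    show C.s * C.ρ ^ i * C.s⁻¹ ∈ _
    rw [← conj_zpow, C.sρ]
    refine zpow_mem (mul_mem (inv_mem (Subgroup.mem_zpowers _)) ?_) i
    rw [← C.ρt]
    exact pow_mem (Subgroup.mem_zpowers _) _

theorem card_R : Nat.card C.R = 2 ^ (C.c + 1) := by
  rw [R, CfsgLib.GLTwoSylow.card_double _ (by rw [C.s_sq]; exact one_mem _) C.s_norm_ρ
    (fun h => C.s_not (Subgroup.zpowers_le.mpr C.ρT h)), Nat.card_zpowers, C.ρord, pow_succ']

theorem R_isPGroup : IsPGroup 2 C.R := IsPGroup.of_card C.card_R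

theorem R_cases {x : G} (hx : x ∈ C.R) : ∃ i : ℕ, x = C.ρ ^ i ∨ x = C.ρ ^ i * C.s := by
  rw [R, ← SetLike.mem_coe, Subgroup.coe_mul_of_right_le_normalizer_left _ _
    (Subgroup.zpowers_le.mpr C.s_norm_ρ), Set.mem_mul] at hx
  obtain ⟨u, hu, v, hv, rfl⟩ := hx
  obtain ⟨i, rfl⟩ := (Submonoid.mem_powers_iff _ _).mp (mem_powers_iff_mem_zpowers.mpr hu)
  obtain ⟨j, rfl⟩ := (Submonoid.mem_powers_iff _ _).mp (mem_powers_iff_mem_zpowers.mpr hv)
  refine ⟨i, ?_⟩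
  rcases Nat.even_or_odd' j with ⟨m, rfl | rfl⟩
  · left; rw [pow_mul, pow_two, C.s_sq, one_pow, mul_one]
  · right; rw [pow_succ, pow_mul, pow_two, C.s_sq, one_pow, one_mul]

/-- The involutions of `R`. -/
theorem R_invol {x : G} (hx : x ∈ C.R) (h2 : x * x = 1) (h1 : x ≠ 1) :
    x = C.t ∨ ∃ g ∈ C.R, g * x * g⁻¹ = C.s := by
  have hc := C.hc
  have hρR : ∀ n : ℕ, C.ρ ^ n ∈ C.R := fun n => Subgroup.mem_sup_left (pow_mem (Subgroup.mem_zpowers _) n)
  have htne : ∀ i, C.t ^ i = 1 → Even i := fun i hti => by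
    rw [← Nat.not_odd_iff_even]
    rintro ⟨j, rfl⟩
    rw [pow_succ, pow_mul, pow_two, C.t_sq, one_pow, one_mul] at hti
    exact C.t_ne hti
  have hcomm : Commute C.ρ⁻¹ C.t := C.Tcomm _ (inv_mem C.ρT) _ C.tT
  have hs : ∀ n : ℕ, C.s * C.ρ ^ n * C.s⁻¹ = (C.ρ ^ n)⁻¹ * C.t ^ n := fun n => by
    rw [← conj_pow, C.sρ, hcomm.mul_pow, inv_pow]
  obtain ⟨i, rfl | rfl⟩ := C.R_cases hx
  · left
    have hdvd : orderOf C.ρ ∣ i + i := orderOf_dvd_of_pow_eq_one (by rw [pow_add]; exact h2)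
    rw [C.ρord, ← two_mul, show 2 ^ C.c = 2 * 2 ^ (C.c - 1) by rw [← pow_succ']; congr 1; omega] at hdvd
    obtain ⟨j, rfl⟩ := Nat.dvd_of_mul_dvd_mul_left two_pos hdvd
    rw [pow_mul, C.ρt] at h1 ⊢
    rcases Nat.even_or_odd' j with ⟨m, rfl | rfl⟩
    · exact absurd (by rw [pow_mul, pow_two, C.t_sq, one_pow]) h1
    · rw [pow_succ, pow_mul, pow_two, C.t_sq, one_pow, one_mul]
  · right
    have hti : C.t ^ i = 1 := by
      rw [← h2]
      have := hs i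
      rw [C.s_inv] at this
      rw [show C.ρ ^ i * C.s * (C.ρ ^ i * C.s) = C.ρ ^ i * (C.s * C.ρ ^ i * C.s) by group, this, mul_inv_cancel_left]
    obtain ⟨j, rfl⟩ := htne i hti
    have key : ∀ n : ℕ, C.ρ ^ n * C.s * (C.ρ ^ n)⁻¹ = C.ρ ^ (n + n) * C.t ^ n * C.s := fun n => by
      have h3 : C.s * (C.ρ ^ n)⁻¹ * C.s⁻¹ = C.t ^ n * C.ρ ^ n := by
        rw [show C.s * (C.ρ ^ n)⁻¹ * C.s⁻¹ = (C.s * C.ρ ^ n * C.s⁻¹)⁻¹ by group, hs, _root_.mul_inv_rev, inv_inv,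
          ← inv_pow, C.t_inv]
      calc C.ρ ^ n * C.s * (C.ρ ^ n)⁻¹ = C.ρ ^ n * (C.s * (C.ρ ^ n)⁻¹ * C.s⁻¹) * C.s := by group
        _ = _ := by rw [h3, C.Tcomm _ (pow_mem C.tT n) _ (pow_mem C.ρT n), ← mul_assoc, ← pow_add]
    rcases Nat.even_or_odd' j with ⟨m, rfl | rfl⟩
    · refine ⟨(C.ρ ^ (2 * m))⁻¹, inv_mem (hρR _), ?_⟩
      have := key (2 * m)
      rw [pow_mul C.t, pow_two, C.t_sq, one_pow, mul_one] at this
      rw [← this]; group
    · set n := 2 * m + 1 + 2 ^ (C.c - 2) with hn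
      refine ⟨(C.ρ ^ n)⁻¹, inv_mem (hρR _), ?_⟩
      have ht : C.t ^ n = C.t := by
        obtain ⟨j', hj'⟩ : Odd n := (odd_two_mul_add_one m).add_even (Nat.even_pow.mpr ⟨even_two, by omega⟩)
        rw [hj', pow_succ, pow_mul, pow_two, C.t_sq, one_pow, one_mul]
      have := key n
      have e2 : 2 ^ (C.c - 2) + 2 ^ (C.c - 2) = 2 ^ (C.c - 1) := by
        rw [← two_mul, ← pow_succ']; congr 1; omega
      rw [ht, show n + n = 2 * m + 1 + (2 * m + 1) + 2 ^ (C.c - 1) by omega,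
        pow_add C.ρ (2 * m + 1 + (2 * m + 1)), C.ρt, mul_assoc (C.ρ ^ (2 * m + 1 + (2 * m + 1))), C.t_sq, mul_one] at this
      rw [← this]; group

/-- An involution of a subgroup containing `R` is conjugate there to `t` or to `s`. -/
theorem invol_in {M : Subgroup G} (hRM : C.R ≤ M) {x : G} (hx : x ∈ M) (h2 : x * x = 1) (h1 : x ≠ 1) :
    ∃ g ∈ M, g * x * g⁻¹ = C.t ∨ g * x * g⁻¹ = C.s := by
  haveI : Fact (Nat.Prime 2) := ⟨Nat.prime_two⟩
  let P0 : Sylow 2 M := Sylow.ofCard (C.R.subgroupOf M) (by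
    rw [Nat.card_congr (Subgroup.subgroupOfEquivOfLe hRM).toEquiv, C.card_R]
    have hd : 2 ^ (C.c + 1) ∣ Nat.card M := C.card_R ▸ Subgroup.card_dvd_of_le hRM
    have hnd : ¬ 2 ^ (C.c + 2) ∣ Nat.card M := fun h => C.exact2 (h.trans (Subgroup.card_subgroup_dvd_card _))
    have hne : Nat.card M ≠ 0 := Nat.card_pos.ne'
    have e1 := (Nat.prime_two.pow_dvd_iff_le_factorization hne).mp hd
    have e2 : ¬ C.c + 2 ≤ (Nat.card M).factorization 2 := fun h =>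
      hnd ((Nat.prime_two.pow_dvd_iff_le_factorization hne).mpr h)
    congr 1; omega)
  obtain ⟨P, hP⟩ := (IsPGroup.of_card (G := Subgroup.zpowers (⟨x, hx⟩ : M)) (p := 2) (n := 1)
    (by rw [Nat.card_zpowers, Subgroup.orderOf_mk, pow_one,
      CfsgLib.Involutions.orderOf_eq_two_iff'.2 ⟨h2, h1⟩])).exists_le_sylow
  obtain ⟨g, hg⟩ := MulAction.exists_smul_eq M P P0
  have hgx : (g : G) * x * (g : G)⁻¹ ∈ C.R := by
    have : (MulAut.conj g) ⟨x, hx⟩ ∈ (P0 : Subgroup M) := by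
      rw [← hg]
      exact Subgroup.smul_mem_pointwise_smul _ (MulAut.conj g) _ (hP (Subgroup.mem_zpowers _))
    simpa [Sylow.ofCard, Subgroup.mem_subgroupOf, P0] using this
  have hy2 : (g : G) * x * (g : G)⁻¹ * ((g : G) * x * (g : G)⁻¹) = 1 := by
    rw [show (g : G) * x * (g : G)⁻¹ * ((g : G) * x * (g : G)⁻¹) = (g : G) * (x * x) * (g : G)⁻¹ by group, h2]
    group
  rcases C.R_invol hgx hy2 (fun e => h1 (conj_eq_one_iff.mp e)) with e | ⟨k, hk, hks⟩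
  · exact ⟨g, g.2, Or.inl e⟩
  · refine ⟨k * g, mul_mem (hRM hk) g.2, Or.inr ?_⟩
    rw [← hks]; group

/-- The centraliser of `y`. -/
def K : Subgroup G := Subgroup.centralizer ({C.y} : Set G)

theorem mem_K {x : G} : x ∈ C.K ↔ x * C.y = C.y * x := Subgroup.mem_centralizer_singleton_iff

theorem R_norm_K : C.R ≤ Subgroup.normalizer (C.K : Set G) := by
  refine sup_le (Subgroup.zpowers_le.mpr ?_) (Subgroup.zpowers_le.mpr ?_)
  · exact Subgroup.le_normalizer (C.mem_K.mpr ((C.Tiff _).mp C.ρT).2)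
  · refine Subgroup.mem_normalizer_fintype fun x hx => C.mem_K.mpr ?_
    have hx' : x * C.y⁻¹ = C.y⁻¹ * x := (Commute.inv_right (C.mem_K.mp hx)).eq
    rw [← C.sy] at hx'
    have hs : C.s * C.y * C.s⁻¹ = C.y⁻¹ := C.sy
    have hs' : C.y = C.s⁻¹ * C.y⁻¹ * C.s := by rw [← hs]; group
    calc C.s * x * C.s⁻¹ * C.y = C.s * (x * (C.s⁻¹ * C.y * C.s)) * C.s⁻¹ := by group
      _ = C.s * (x * C.y⁻¹) * C.s⁻¹ := by
        rw [show C.s⁻¹ * C.y * C.s = C.y⁻¹ by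
          rw [C.s_inv]; have := C.sy; rw [C.s_inv] at this; exact this]
      _ = C.s * (C.y⁻¹ * x) * C.s⁻¹ := by rw [(Commute.inv_right (C.mem_K.mp hx)).eq]
      _ = (C.s * C.y⁻¹ * C.s⁻¹) * (C.s * x * C.s⁻¹) := by group
      _ = C.y * (C.s * x * C.s⁻¹) := by
        rw [show C.s * C.y⁻¹ * C.s⁻¹ = (C.s * C.y * C.s⁻¹)⁻¹ by group, hs, inv_inv]

/-- The elements of odd order centralising `y` form a subgroup with a 2-group as complement. -/
theorem exists_K0 : ∃ K0 : Subgroup G, Odd (Nat.card K0) ∧ ∀ x, x ∈ K0 ↔ x ∈ C.K ∧ Odd (orderOf x) := by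
  haveI : Fact (Nat.Prime 2) := ⟨Nat.prime_two⟩
  have hρK : C.ρ ∈ C.K := C.mem_K.mpr ((C.Tiff _).mp C.ρT).2
  set ρ' : C.K := ⟨C.ρ, hρK⟩
  have hp : IsPGroup 2 (Subgroup.zpowers ρ') :=
    IsPGroup.of_card (n := C.c) (by rw [Nat.card_zpowers, Subgroup.orderOf_mk, C.ρord])
  obtain ⟨P, hP⟩ := hp.exists_le_sylow
  have hPeq : (P : Subgroup C.K) = Subgroup.zpowers ρ' := by
    by_contra hne
    have hlt : (Subgroup.zpowers ρ').subgroupOf (P : Subgroup C.K) < ⊤ := by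
      refine lt_top_iff_ne_top.mpr fun e => hne (le_antisymm (fun x hx => ?_) hP)
      have := Subgroup.subgroupOf_eq_top.mp e hx
      exact this
    obtain ⟨u, hu, hu'⟩ := SetLike.exists_of_lt (normalizerCondition_of_isNilpotent (h := P.2.isNilpotent) _ hlt)
    have htρ : (⟨⟨C.t, C.mem_K.mpr C.yt.symm⟩, hP (by
        rw [show (⟨C.t, C.mem_K.mpr C.yt.symm⟩ : C.K) = ρ' ^ 2 ^ (C.c - 1) from Subtype.ext C.ρt.symm]
        exact pow_mem (Subgroup.mem_zpowers _) _)⟩ : (P : Subgroup C.K)) ∈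
        (Subgroup.zpowers ρ').subgroupOf (P : Subgroup C.K) := by
      show (⟨C.t, _⟩ : C.K) ∈ Subgroup.zpowers ρ'
      rw [show (⟨C.t, C.mem_K.mpr C.yt.symm⟩ : C.K) = ρ' ^ 2 ^ (C.c - 1) from Subtype.ext C.ρt.symm]
      exact pow_mem (Subgroup.mem_zpowers _) _
    have hm := (Subgroup.mem_normalizer_iff.mp hu _).mp htρ
    obtain ⟨j, hj⟩ := Subgroup.mem_zpowers_iff.mp (Subgroup.mem_subgroupOf.mp hm)
    set g : G := ((u : C.K) : G)
    have hx : g * C.t * g⁻¹ ∈ Subgroup.zpowers C.ρ := ⟨j, congrArg Subtype.val hj⟩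
    have hxR : g * C.t * g⁻¹ ∈ C.R := Subgroup.mem_sup_left hx
    have hx2 : g * C.t * g⁻¹ * (g * C.t * g⁻¹) = 1 := by
      rw [show g * C.t * g⁻¹ * (g * C.t * g⁻¹) = g * (C.t * C.t) * g⁻¹ by group, C.t_sq]; group
    have hx1 : g * C.t * g⁻¹ ≠ 1 := fun e => C.t_ne (conj_eq_one_iff.mp e)
    rcases C.R_invol hxR hx2 hx1 with e | ⟨k, hk, e⟩
    · have hgT : g ∈ C.T := (C.Tiff g).mpr ⟨mul_inv_eq_iff_eq_mul.mp e, C.mem_K.mp (u : C.K).2⟩
      obtain ⟨k, hk⟩ := IsPGroup.iff_orderOf.mp P.2 u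
      have := C.Ttwo g hgT k (by
        rw [← hk]; exact congrArg (fun z : (P : Subgroup C.K) => ((z : C.K) : G)) (pow_orderOf_eq_one u))
      obtain ⟨i, hi⟩ := this
      exact hu' ⟨i, Subtype.ext hi⟩
    · refine C.s_not ?_
      rw [← e]
      have hxT : g * C.t * g⁻¹ ∈ C.T := Subgroup.zpowers_le.mpr C.ρT hx
      obtain ⟨i, rfl | rfl⟩ := C.R_cases hk
      · rwa [C.Tcomm _ (pow_mem C.ρT i) _ hxT, mul_inv_cancel_right]
      · exfalso
        refine C.s_not ?_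
        have e' : C.s * (g * C.t * g⁻¹) * C.s⁻¹ = (C.ρ ^ i)⁻¹ * C.s * C.ρ ^ i := by
          conv_rhs => rw [← e]
          group
        obtain ⟨i', hi'⟩ := Subgroup.mem_zpowers_iff.mp hx
        have h1 : C.s * (g * C.t * g⁻¹) * C.s⁻¹ ∈ C.T := by
          rw [← hi', ← conj_zpow, C.sρ]
          exact zpow_mem (mul_mem (inv_mem C.ρT) C.tT) _
        rw [e'] at h1
        have := mul_mem (mul_mem (pow_mem C.ρT i) h1) (inv_mem (pow_mem C.ρT i))
        rwa [show C.ρ ^ i * ((C.ρ ^ i)⁻¹ * C.s * C.ρ ^ i) * (C.ρ ^ i)⁻¹ = C.s by group] at this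
  obtain ⟨K0, h1, h2, -⟩ := exists_odd_part C.K P (hPeq ▸ inferInstance)
  exact ⟨K0, h1, h2⟩

/-- The invariant maximal `r`-subgroup centralising `y`. -/
theorem exists_X : ∃ X : Subgroup G, IsPGroup r X ∧ X ≤ C.K ∧ C.R ≤ Subgroup.normalizer (X : Set G) ∧ C.y ∈ X ∧
    (∀ D : Subgroup G, IsPGroup r D → D ≤ C.K → Nat.card D ≤ Nat.card X) ∧
    ∀ D : Subgroup G, IsPGroup r D → D ≤ C.K → X ≤ D → D = X := by
  haveI : Fact r.Prime := ⟨C.hr⟩
  obtain ⟨K0, hodd, hK0⟩ := C.exists_K0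
  have hRK0 : C.R ≤ Subgroup.normalizer (K0 : Set G) := fun g hg => Subgroup.mem_normalizer_fintype fun x hx => by
    refine (hK0 _).mpr ⟨(Subgroup.mem_normalizer_iff.mp (C.R_norm_K hg) x).mp ((hK0 x).mp hx).1, ?_⟩
    rw [CfsgLib.Involutions.orderOf_conj]
    exact ((hK0 x).mp hx).2
  have hcop : (Nat.card C.R).Coprime (Nat.card K0) := by
    rw [C.card_R]; exact (Nat.coprime_two_left.mpr hodd).pow_left _
  haveI := C.R_isPGroup.isNilpotent
  obtain ⟨P, hP⟩ := CfsgLib.coprime_exists_invariant_sylow hRK0 hcop (Or.inl inferInstance) r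
  have hin : ∀ D : Subgroup G, IsPGroup r D → D ≤ C.K → D ≤ K0 := fun D hD hle x hx => by
    refine (hK0 x).mpr ⟨hle hx, ?_⟩
    obtain ⟨k, hk⟩ := IsPGroup.iff_orderOf.mp hD ⟨x, hx⟩
    rw [Subgroup.orderOf_mk] at hk
    rw [hk]; exact (C.hr.odd_of_ne_two C.hr2).pow
  set X := (P : Subgroup K0).map K0.subtype
  have hXK : X ≤ C.K := fun x hx => ((hK0 x).mp (Subgroup.map_subtype_le _ hx)).1
  have hX : IsPGroup r X := P.2.map _
  have hbound : ∀ D : Subgroup G, IsPGroup r D → D ≤ C.K → Nat.card D ≤ Nat.card X := fun D hD hle => by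
    obtain ⟨Q, hQ⟩ := (hD.comap_subtype (K := K0)).exists_le_sylow
    have h1 := Nat.le_of_dvd Nat.card_pos (Subgroup.card_dvd_of_le hQ)
    rw [show D.comap K0.subtype = D.subgroupOf K0 from rfl,
      Nat.card_congr (Subgroup.subgroupOfEquivOfLe (hin D hD hle)).toEquiv, Q.card_eq_multiplicity,
      ← P.card_eq_multiplicity] at h1
    rwa [Subgroup.card_map_of_injective (Subgroup.subtype_injective _)]
  have hmax : ∀ D : Subgroup G, IsPGroup r D → D ≤ C.K → X ≤ D → D = X := fun D hD hle hXD =>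
    (Subgroup.eq_of_le_of_card_ge hXD (hbound D hD hle)).symm
  refine ⟨X, hX, hXK, hP, ?_, hbound, hmax⟩
  have hyp : IsPGroup r (Subgroup.zpowers C.y) :=
    IsPGroup.of_card (n := 1) (by rw [Nat.card_zpowers, C.yord, pow_one])
  have hnorm : X ≤ Subgroup.normalizer ((Subgroup.zpowers C.y : Subgroup G) : Set G) := fun x hx =>
    Subgroup.mem_normalizer_fintype fun z hz => by
      obtain ⟨i, rfl⟩ := Subgroup.mem_zpowers_iff.mp hz
      show x * C.y ^ i * x⁻¹ ∈ _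
      rw [← conj_zpow, C.mem_K.mp (hXK hx), mul_inv_cancel_right]
      exact zpow_mem (Subgroup.mem_zpowers _) _
  have := hmax (X ⊔ Subgroup.zpowers C.y) (IsPGroup.to_sup_of_normal_right' hX hyp hnorm)
    (sup_le hXK (Subgroup.zpowers_le.mpr (C.mem_K.mpr rfl))) le_sup_left
  exact this ▸ Subgroup.mem_sup_right (Subgroup.mem_zpowers _)

/-- The orders of the fixed point subgroups of the four-group. -/
theorem four {P : Subgroup G} (hP : IsPGroup r P) (ht : ∀ x ∈ P, C.t * x * C.t⁻¹ ∈ P)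
    (hs : ∀ x ∈ P, C.s * x * C.s⁻¹ ∈ P) :
    Nat.card P = Nat.card (P ⊓ Subgroup.centralizer ({C.t} : Set G) : Subgroup G) *
      Nat.card (P ⊓ Subgroup.centralizer ({C.s} : Set G) : Subgroup G) *
      Nat.card (P ⊓ Subgroup.centralizer ({C.t * C.s} : Set G) : Subgroup G) := by
  haveI : Fact r.Prime := ⟨C.hr⟩
  have hodd : Odd (Nat.card P) := by
    obtain ⟨k, hk⟩ := IsPGroup.iff_card.mp hP
    rw [hk]; exact (C.hr.odd_of_ne_two C.hr2).pow
  set V := Subgroup.zpowers C.t ⊔ Subgroup.zpowers C.s with hV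
  have hn : C.s ∈ Subgroup.normalizer ((Subgroup.zpowers C.t : Subgroup G) : Set G) :=
    Subgroup.mem_normalizer_fintype fun x hx => by
      obtain ⟨i, rfl⟩ := Subgroup.mem_zpowers_iff.mp hx
      show C.s * C.t ^ i * C.s⁻¹ ∈ _
      rw [← conj_zpow, C.ts, mul_inv_cancel_right]
      exact zpow_mem (Subgroup.mem_zpowers _) _
  have hpow : ∀ {g : G}, g * g = 1 → ∀ u ∈ Subgroup.zpowers g, u = 1 ∨ u = g := fun {g} hg u hu => by
    obtain ⟨j, rfl⟩ := (Submonoid.mem_powers_iff _ _).mp (mem_powers_iff_mem_zpowers.mpr hu)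
    rcases Nat.even_or_odd' j with ⟨m, rfl | rfl⟩
    · left; rw [pow_mul, pow_two, hg, one_pow]
    · right; rw [pow_succ, pow_mul, pow_two, hg, one_pow, one_mul]
  have hmem : ∀ x, x ∈ V ↔ x = 1 ∨ x = C.t ∨ x = C.s ∨ x = C.t * C.s := by
    intro x
    constructor
    · intro hx
      rw [hV, ← SetLike.mem_coe, Subgroup.coe_mul_of_right_le_normalizer_left _ _
        (Subgroup.zpowers_le.mpr hn), Set.mem_mul] at hx
      obtain ⟨u, hu, v, hv, rfl⟩ := hx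
      rcases hpow C.t_sq u hu with rfl | rfl <;> rcases hpow C.s_sq v hv with rfl | rfl <;> simp
    · rintro (rfl | rfl | rfl | rfl)
      · exact one_mem _
      · exact Subgroup.mem_sup_left (Subgroup.mem_zpowers _)
      · exact Subgroup.mem_sup_right (Subgroup.mem_zpowers _)
      · exact mul_mem (Subgroup.mem_sup_left (Subgroup.mem_zpowers _)) (Subgroup.mem_sup_right (Subgroup.mem_zpowers _))
  have h := CfsgLib.StabAlt5.four_formula hodd C.t_sq C.s_sq C.ts.symm C.t_ne C.s_ne C.st_ne ht hs hmem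
  have h1 : P ⊓ Subgroup.centralizer (V : Set G) = ⊥ := (Subgroup.eq_bot_iff_forall _).mpr fun x hx => by
    obtain ⟨k, hk⟩ := hP ⟨x, hx.1⟩
    have hxV := Subgroup.mem_centralizer_iff.mp hx.2
    exact C.Ufree x k (hxV _ ((hmem _).mpr (by simp))).symm (hxV _ ((hmem _).mpr (by simp))).symm
      (congrArg Subtype.val hk)
  rwa [h1, Subgroup.card_bot, one_pow, mul_one] at h

include C in
theorem card_cent_invol {u : G} (hu : u * u = 1) (hu1 : u ≠ 1) {D : Subgroup G} (hD : IsPGroup r D)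
    (hle : D ≤ Subgroup.centralizer ({u} : Set G)) : Nat.card D ∣ r ^ a := by
  obtain ⟨g, hg⟩ := C.oneClass u hu hu1
  have := C.centBound (D.map (MulAut.conj g).toMonoidHom) (hD.map _) (by
    rintro _ ⟨x, hx, rfl⟩
    have e := Subgroup.mem_centralizer_singleton_iff.mp (hle hx)
    rw [Subgroup.mem_centralizer_singleton_iff, ← hg]
    simp only [MulEquiv.toMonoidHom_eq_coe, MonoidHom.coe_coe, MulAut.conj_apply]
    calc g * x * g⁻¹ * (g * u * g⁻¹) = g * (x * u) * g⁻¹ := by group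
      _ = g * (u * x) * g⁻¹ := by rw [e]
      _ = g * u * g⁻¹ * (g * x * g⁻¹) := by group)
  rwa [Subgroup.card_map_of_injective (MulEquiv.injective _)] at this

theorem card_invariant_dvd {P : Subgroup G} (hP : IsPGroup r P) (ht : ∀ x ∈ P, C.t * x * C.t⁻¹ ∈ P)
    (hs : ∀ x ∈ P, C.s * x * C.s⁻¹ ∈ P) : Nat.card P ∣ r ^ (3 * a) := by
  rw [C.four hP ht hs, show 3 * a = a + a + a by ring, pow_add, pow_add]
  refine Nat.mul_dvd_mul (Nat.mul_dvd_mul ?_ ?_) ?_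
  · exact C.card_cent_invol C.t_sq C.t_ne (hP.to_le inf_le_left) inf_le_right
  · exact C.card_cent_invol C.s_sq C.s_ne (hP.to_le inf_le_left) inf_le_right
  · refine C.card_cent_invol ?_ C.ts_ne (hP.to_le inf_le_left) inf_le_right
    rw [mul_assoc, ← mul_assoc C.s, C.ts, mul_assoc, C.s_sq, mul_one, C.t_sq]

/-- An invariant `r`-subgroup is not larger than `X`. -/
theorem card_invariant_le {X : Subgroup G} (hbound : ∀ D : Subgroup G, IsPGroup r D → D ≤ C.K → Nat.card D ≤ Nat.card X)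
    {P : Subgroup G} (hP : IsPGroup r P) (ht : ∀ x ∈ P, C.t * x * C.t⁻¹ ∈ P)
    (hs : ∀ x ∈ P, C.s * x * C.s⁻¹ ∈ P) : Nat.card P ≤ Nat.card X := by
  haveI : Fact r.Prime := ⟨C.hr⟩
  rcases Nat.lt_or_ge 1 (Nat.card P) with hP1 | hP1
  swap
  · exact hP1.trans Nat.card_pos
  haveI : Nontrivial P := Finite.one_lt_card_iff_nontrivial.mp hP1
  haveI := hP.center_nontrivial
  set Z := (Subgroup.center P).map P.subtype with hZ
  have hZP : Z ≤ P := Subgroup.map_subtype_le _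
  have hZp : IsPGroup r Z := hP.to_le hZP
  have hmemZ : ∀ z, z ∈ Z ↔ z ∈ P ∧ ∀ p ∈ P, p * z = z * p := fun z => by
    constructor
    · rintro ⟨w, hw, rfl⟩
      exact ⟨w.2, fun p hp => congrArg Subtype.val (Subgroup.mem_center_iff.mp hw ⟨p, hp⟩)⟩
    · rintro ⟨hz, hc⟩
      exact ⟨⟨z, hz⟩, Subgroup.mem_center_iff.mpr fun p => Subtype.ext (hc p p.2), rfl⟩
  have hinvZ : ∀ {g : G}, g * g = 1 → (∀ x ∈ P, g * x * g⁻¹ ∈ P) → ∀ z ∈ Z, g * z * g⁻¹ ∈ Z := by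
    intro g hg hgP z hz
    obtain ⟨hzP, hzc⟩ := (hmemZ z).mp hz
    refine (hmemZ _).mpr ⟨hgP z hzP, fun p hp => ?_⟩
    have hp' := hgP p hp
    have e := hzc _ hp'
    rw [inv_eq_of_mul_eq_one_left hg] at e ⊢
    have e2 := congrArg (fun w => g * w * g) e
    simp only [mul_assoc, ← mul_assoc g g, hg, one_mul] at e2
    simp only [mul_assoc] at e2 ⊢
    simpa [← mul_assoc g g, hg] using e2
  have hZ1 : 1 < Nat.card Z := by
    rw [hZ, Subgroup.card_map_of_injective (Subgroup.subtype_injective _)]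
    exact Finite.one_lt_card
  have h4 := C.four hZp (hinvZ C.t_sq ht) (hinvZ C.s_sq hs)
  obtain ⟨u, hu2, hu1, hu⟩ : ∃ u : G, u * u = 1 ∧ u ≠ 1 ∧
      Nat.card (Z ⊓ Subgroup.centralizer ({u} : Set G) : Subgroup G) ≠ 1 := by
    by_contra! hall
    rw [hall _ C.t_sq C.t_ne, hall _ C.s_sq C.s_ne, hall _ (by
      rw [mul_assoc, ← mul_assoc C.s, C.ts, mul_assoc, C.s_sq, mul_one, C.t_sq]) C.ts_ne] at h4
    omega
  obtain ⟨⟨w, hw⟩, hwr⟩ := exists_prime_orderOf_dvd_card' r (G := (Z ⊓ Subgroup.centralizer ({u} : Set G) : Subgroup G)) (by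
    obtain ⟨k, hk⟩ := IsPGroup.iff_card.mp (hZp.to_le (inf_le_left (b := Subgroup.centralizer ({u} : Set G))))
    rw [hk] at hu ⊢
    exact dvd_pow_self r fun e => hu (by rw [e, pow_zero]))
  rw [Subgroup.orderOf_mk] at hwr
  obtain ⟨g, hg⟩ := C.oneClass u hu2 hu1
  obtain ⟨h, hht, hh⟩ := C.toY (g * w * g⁻¹) (by
      have e := Subgroup.mem_centralizer_singleton_iff.mp hw.2
      rw [← hg]
      calc g * w * g⁻¹ * (g * u * g⁻¹) = g * (w * u) * g⁻¹ := by group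
        _ = g * (u * w) * g⁻¹ := by rw [e]
        _ = g * u * g⁻¹ * (g * w * g⁻¹) := by group)
    (by rw [conj_pow, ← hwr, pow_orderOf_eq_one, mul_one, mul_inv_cancel])
  have hgen : Subgroup.zpowers (h * (g * w * g⁻¹) * h⁻¹) = Subgroup.zpowers C.y := by
    refine Subgroup.eq_of_le_of_card_ge (Subgroup.zpowers_le.mpr hh) (le_of_eq ?_)
    rw [Nat.card_zpowers, Nat.card_zpowers, C.yord, CfsgLib.Involutions.orderOf_conj,
      CfsgLib.Involutions.orderOf_conj, hwr]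
  set k := h * g with hk
  have hle : P.map (MulAut.conj k).toMonoidHom ≤ C.K := by
    rintro _ ⟨p, hp, rfl⟩
    obtain ⟨i, hi⟩ := Subgroup.mem_zpowers_iff.mp (hgen ▸ Subgroup.mem_zpowers C.y :
      C.y ∈ Subgroup.zpowers (h * (g * w * g⁻¹) * h⁻¹))
    refine C.mem_K.mpr ?_
    show k * p * k⁻¹ * C.y = C.y * (k * p * k⁻¹)
    have hpw : p * w ^ i = w ^ i * p := (show Commute p w from ((hmemZ w).mp hw.1).2 p hp).zpow_right i
    rw [← hi, show h * (g * w * g⁻¹) * h⁻¹ = k * w * k⁻¹ by rw [hk]; group, conj_zpow]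
    calc k * p * k⁻¹ * (k * w ^ i * k⁻¹) = k * (p * w ^ i) * k⁻¹ := by group
      _ = k * (w ^ i * p) * k⁻¹ := by rw [hpw]
      _ = k * w ^ i * k⁻¹ * (k * p * k⁻¹) := by group
  have := hbound _ (hP.map _) hle
  rwa [Subgroup.card_map_of_injective (MulEquiv.injective _)] at this

omit [Finite G] in
/-- Lifting a centraliser through a subgroup of odd order. -/
theorem lift_cent {O : Subgroup G} (hodd : ∀ k ∈ O, Odd (orderOf k)) {g : G}
    (h : g * C.t * g⁻¹ * C.t ∈ O) : ∃ j ∈ O, j⁻¹ * g * C.t = C.t * (j⁻¹ * g) := by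
  set k := g * C.t * g⁻¹ * C.t with hk
  have htk : C.t * k * C.t = k⁻¹ := by
    rw [hk]
    simp only [_root_.mul_inv_rev, inv_inv, C.t_inv, mul_assoc, C.t_sq, mul_one]
  obtain ⟨m, hm⟩ := hodd k h
  set j := k ^ (m + 1)
  have hjj : j * j = k := by
    rw [← pow_add, show m + 1 + (m + 1) = orderOf k + 1 by omega, pow_succ, pow_orderOf_eq_one, one_mul]
  have htj : C.t * j * C.t = j⁻¹ := by
    have : C.t * j * C.t⁻¹ = (C.t * k * C.t⁻¹) ^ (m + 1) := by rw [conj_pow]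
    rwa [C.t_inv, htk, inv_pow] at this
  refine ⟨j, pow_mem h _, ?_⟩
  have e : g * C.t * g⁻¹ = j * C.t * j⁻¹ := by
    calc g * C.t * g⁻¹ = k * C.t := by rw [hk, mul_assoc (g * C.t * g⁻¹), C.t_sq, mul_one]
      _ = j * (j * C.t) := by rw [← hjj, mul_assoc]
      _ = j * (C.t * (C.t * j * C.t)) := by rw [← mul_assoc C.t, ← mul_assoc C.t C.t, C.t_sq, one_mul]
      _ = _ := by rw [htj]; group
  calc j⁻¹ * g * C.t = j⁻¹ * (g * C.t * g⁻¹) * g := by group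
    _ = _ := by rw [e]; group

end RCtx

end CfsgLib.GL2Cent
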