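import Cfsg.Agent.Lib.GL2Cent.Hexagon
import Cfsg.Agent.Lib.GL2Cent.Plane

/-!
With index `q² (q² + q + 1)` and two commuting root groups the group is `PSL₃(q)`: the cosets of the normaliser of
the product are the points, and an orbit of an involution centraliser is a line.
-/

set_option autoImplicit false
set_option linter.unusedSectionVars false
set_option linter.style.haveILetI false

namespace CfsgLib.GL2Cent

open Matrix
open scoped Pointwise

universe u v

variable {G : Type u} [Group G] {F : Type v} [Field F]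

namespace Pair

variable {f f' : GL (Fin 2) F →* G} (h : Pair f f') (hc : Adj f f') [Finite G] [IsSimpleGroup G] [Fintype F]
  (h2 : (2 : F) ≠ 0) {p : ℕ} [hp : Fact p.Prime] {n : ℕ} (hq : Fintype.card F = p ^ n) (hn : n ≠ 0)
  (hN : (Subgroup.centralizer ({tt f} : Set G)).index =
      Fintype.card F ^ 2 * (Fintype.card F ^ 2 + Fintype.card F + 1))
include h hc h2 hq hn hN

/-- The recognition for one orientation of the path. -/
theorem psl3_of {g : GL (Fin 2) F →* G} (hg1 : Pair f g) (hg2 : Pair f' g) (ht : tt g = tt f * tt f')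
    (hgN : root g ≤ Subgroup.normalizer (qq f f' : Set G)) (hadj : Adj f' g) (hnadj : ¬ Adj f g) :
    Nonempty (G ≃* Matrix.ProjectiveSpecialLinearGroup (Fin 3) F) := by
  classical
  set q := Fintype.card F with hq'
  have hq2 : 2 ≤ q := Fintype.one_lt_card
  obtain ⟨hjM, c0, hc0, hc0A⟩ := h.top_of h2 hc hq hn hN hg1 hg2 ht hgN hadj hnadj
  obtain ⟨-, hMcard⟩ := h.cent_third_le h2 hc hq hn hN
  have hN' : (Subgroup.centralizer ({tt f'} : Set G)).index = q ^ 2 * (q ^ 2 + q + 1) := by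
    rw [h.hf.index_eq h2 h.hf']; exact hN
  have htM : Subgroup.centralizer ({tt f} : Set G) ≤ Subgroup.normalizer (qq f' g : Set G) := by
    obtain ⟨hle, -⟩ := hg2.cent_third_le h2 hadj hq hn hN'
    rwa [ht, h.comm h2, ← mul_assoc, Hyp.tt_sq, one_mul] at hle
  set M1 := Subgroup.normalizer (qq f f' : Set G) with hM1
  have htorM : tor f ≤ M1 := h.tor_le_normalizer hc h2 hq hn
  -- the flip in the first centraliser
  set w := f ww with hw
  have hww : w * w = 1 := by rw [hw, ← map_mul, ww_mul_self, map_one]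
  have hwC : w * tt f = tt f * w := h.hf.mem_cent.mpr ⟨_, rfl⟩
  have hXQ : root f ≤ qq f f' := le_sup_left
  have hwM : w ∉ M1 := fun hwm => by
    have hup := h.hf.upper_of_norm (g := ww) (h.qq_cent hc h2
      ((Subgroup.mem_normalizer_iff.mp hwm _).mp (hXQ (mem_root.mpr ⟨1, rfl⟩))) (by
        refine h.hf.mem_cent.mpr ⟨ww * xr 1 * ww⁻¹, ?_⟩
        rw [map_mul, map_mul, map_inv]))
    simp [ww] at hup
  set M2 := M1.map (MulAut.conj w).toMonoidHom with hM2
  have hwconj : ∀ x, x ∈ M2 ↔ w * x * w ∈ M1 := fun x => by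
    constructor
    · rintro ⟨y, hy, rfl⟩
      simp only [MulEquiv.toMonoidHom_eq_coe, MonoidHom.coe_coe, MulAut.conj_apply]
      rw [inv_eq_of_mul_eq_one_right hww, show w * (w * y * w) * w = w * w * y * (w * w) by simp only [mul_assoc], hww,
        one_mul, mul_one]
      exact hy
    · intro hx
      refine ⟨w * x * w, hx, ?_⟩
      simp only [MulEquiv.toMonoidHom_eq_coe, MonoidHom.coe_coe, MulAut.conj_apply]
      rw [inv_eq_of_mul_eq_one_right hww, show w * (w * x * w) * w = w * w * x * (w * w) by simp only [mul_assoc], hww,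
        one_mul, mul_one]
  have hwtor : ∀ k ∈ tor f, w * k * w ∈ tor f := fun k hk => by
    obtain ⟨a, b, rfl⟩ := mem_tor.mp hk
    rw [hw, ← map_mul, ← map_mul, show ww * dg a b * ww = ww * dg a b * ww⁻¹ by
      rw [show (ww : GL (Fin 2) F)⁻¹ = ww from inv_eq_of_mul_eq_one_right ww_mul_self], ww_conj_dg]
    exact mem_tor.mpr ⟨b, a, rfl⟩
  have htorM2 : tor f ≤ M2 := fun k hk => (hwconj k).mpr (htorM (hwtor k hk))
  have hwt' : w * tt f' * w = tt f * tt f' := by
    have hu : w * uu f * w = tt f * uu f := by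
      rw [hw, uu, tt, ← map_mul, ← map_mul, show ww * dg 1 (-1 : Fˣ) * ww = ww * dg 1 (-1) * ww⁻¹ by
        rw [show (ww : GL (Fin 2) F)⁻¹ = ww from inv_eq_of_mul_eq_one_right ww_mul_self], ww_conj_dg, ← map_mul, dg_mul]
      simp
    rcases h.cases h2 with e | e <;> rw [e]
    · exact hu
    · rw [← mul_assoc (tt f) (tt f) (uu f), Hyp.tt_sq, one_mul, ← mul_assoc w (tt f) (uu f), hwC, mul_assoc (tt f) w,
        mul_assoc (tt f) (w * uu f) w, hu, ← mul_assoc, Hyp.tt_sq, one_mul]
  have hC'M2 : Subgroup.centralizer ({tt f'} : Set G) ≤ M2 := fun x hx => by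
    refine (hwconj x).mpr (hjM ?_)
    rw [hg1.hf'.range, ht, Subgroup.mem_centralizer_singleton_iff, ← hwt']
    have hxc := Subgroup.mem_centralizer_singleton_iff.mp hx
    calc w * x * w * (w * tt f' * w) = w * x * (w * w) * tt f' * w := by group
      _ = w * (x * tt f') * w := by rw [hww]; group
      _ = w * (tt f' * (w * w) * x) * w := by rw [hxc, hww, mul_one]
      _ = _ := by group
  set AB := qq f' g with hAB
  have hAB1 : AB ≤ M1 := sup_le (le_sup_right.trans Subgroup.le_normalizer) hgN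
  have hABC : ∀ c : G, c * tt f = tt f * c → ∀ x ∈ AB, c * x * c⁻¹ ∈ AB := fun c hc' x hx =>
    (Subgroup.mem_normalizer_iff.mp (htM (Subgroup.mem_centralizer_singleton_iff.mpr hc')) x).mp hx
  have hAB2 : AB ≤ M2 := fun x hx => (hwconj x).mpr (hAB1 (by
    have := hABC w hwC x hx
    rwa [inv_eq_of_mul_eq_one_right hww] at this))
  set I := M1 ⊓ M2 with hI
  have hAI : root f' ≤ I := le_inf (le_sup_left.trans hAB1) (le_sup_left.trans hAB2)
  have htorI : tor f ≤ I := le_inf htorM htorM2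
  have hQI : qq f f' ⊓ I = root f' := by
    refine le_antisymm (fun x hx => ?_) (le_inf le_sup_right hAI)
    obtain ⟨a, ha, b, hb, rfl⟩ := (qq_mem hc).mp hx.1
    rcases eq_or_ne a 1 with rfl | ha1
    · rw [one_mul]; exact hb
    exfalso
    have haI : a ∈ M2 := by
      have := mul_mem (Subgroup.mem_inf.mp (Subgroup.mem_inf.mp hx).2).2 (inv_mem (Subgroup.mem_inf.mp (hAI hb)).2)
      rwa [mul_inv_cancel_right] at this
    have hX2 : root f ≤ M2 := h.hf.root_le_of_mem h2 (K := M2)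
      (fun k hk y hy => mul_mem (mul_mem (htorM2 hk) hy) (inv_mem (htorM2 hk))) ha haI ha1
    have htop : M2.comap f = ⊤ := by
      refine eq_top_of_borel (fun a b => Subgroup.mem_comap.mpr (htorM2 (mem_tor.mpr ⟨a, b, rfl⟩)))
        (fun γ => Subgroup.mem_comap.mpr (hX2 (mem_root.mpr ⟨γ, rfl⟩))) (g := yr (1 : F)) ?_ ?_
      · refine Subgroup.mem_comap.mpr ((hwconj _).mpr ?_)
        rw [show yr (1 : F) = ww * xr 1 * ww⁻¹ from (ww_conj_xr 1).symm,
          show (ww : GL (Fin 2) F)⁻¹ = ww from inv_eq_of_mul_eq_one_right ww_mul_self, map_mul, map_mul, ← hw,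
          show w * (w * f (xr 1) * w) * w = w * w * f (xr 1) * (w * w) by simp only [mul_assoc], hww, one_mul, mul_one]
        exact Subgroup.le_normalizer (hXQ (mem_root.mpr ⟨1, rfl⟩))
      · simp [yr]
    have hwM2 : w ∈ M2 := Subgroup.mem_comap.mp (htop.ge (Subgroup.mem_top ww))
    have := (hwconj w).mp hwM2
    rw [hww, one_mul] at this
    exact hwM this
  -- the bound on the intersection of two point stabilisers
  set j := tt f * tt f' with hj
  set K := qq f f' ⊔ I with hK
  have hjC : Subgroup.centralizer ({j} : Set G) = g.range := by rw [hg1.hf'.range, ht]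
  set J := K ⊓ Subgroup.centralizer {j} with hJ
  have hKA : K ≤ Subgroup.normalizer (root f' : Set G) := by
    refine sup_le (fun x hx => Subgroup.centralizer_le_normalizer _ ?_) fun x hx => ?_
    · exact Subgroup.centralizer_le (SetLike.coe_subset_coe.mpr le_sup_right) (h.qq_le_cent hc h2 hx)
    · refine Subgroup.mem_normalizer_fintype fun y hy => ?_
      rw [← hQI] at hy
      exact (SetLike.le_def.mp hQI.le) (Subgroup.mem_inf.mpr ⟨(Subgroup.mem_normalizer_iff.mp (Subgroup.mem_inf.mp hx).1 y).mp (Subgroup.mem_inf.mp hy).1,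
        mul_mem (mul_mem hx (Subgroup.mem_inf.mp hy).2) (inv_mem hx)⟩)
  have hJle : J ≤ root g ⊔ tor f := by
    intro x hx
    obtain ⟨v, rfl⟩ : x ∈ g.range := by rw [hg1.hf'.range, ht]; exact hx.2
    by_cases hv : v.1 1 0 = 0
    · obtain ⟨a, b, e⟩ := tri_cases hv
      rw [e, map_mul, ← hg1.htor]
      exact mul_mem (Subgroup.mem_sup_right (mem_tor.mpr ⟨a, b, rfl⟩)) (Subgroup.mem_sup_left (mem_root.mpr ⟨_, rfl⟩))
    exfalso
    set D := (Subgroup.normalizer (root f' : Set G)).comap g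
    have htop : D = ⊤ := by
      refine eq_top_of_borel (fun a b => Subgroup.mem_comap.mpr (Subgroup.mem_normalizer_fintype fun y hy => ?_))
        (fun γ => Subgroup.mem_comap.mpr ?_) (g := v) (Subgroup.mem_comap.mpr (hKA hx.1)) hv
      · exact h.hf'.tor_conj_root h2 (h.htor.symm ▸ hg1.htor ▸ mem_tor.mpr ⟨a, b, rfl⟩) hy
      · exact Subgroup.centralizer_le_normalizer _ (Subgroup.mem_centralizer_iff.mpr fun y hy =>
          hadj y hy _ (mem_root.mpr ⟨γ, rfl⟩))
    obtain ⟨c, rfl⟩ := hc0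
    have hcn : g c ∈ Subgroup.normalizer (root f' : Set G) := Subgroup.mem_comap.mp (htop.ge (Subgroup.mem_top c))
    have hx1 : g c * f (xr 1) * (g c)⁻¹ ∈ root f' := hc0A ▸ Subgroup.mem_map_of_mem _ (mem_root.mpr ⟨1, rfl⟩)
    have hmem : f (xr 1) ∈ root f' := (Subgroup.mem_normalizer_iff.mp hcn _).mpr hx1
    exact one_ne_zero (h.hf.root_inj (h.root_cent_eq_one h2 (mem_root.mpr ⟨1, rfl⟩) (root_tt_mem h.hf' hmem)))
  have hKM1 : K ≤ M1 := sup_le Subgroup.le_normalizer inf_le_left
  have hM1dec : qq f f' ⊔ Subgroup.centralizer {j} = M1 := by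
    have hle : qq f f' ⊔ Subgroup.centralizer {j} ≤ M1 :=
      sup_le Subgroup.le_normalizer (hjC.le.trans hjM)
    refine Subgroup.eq_of_le_of_card_ge hle ?_
    have e := CfsgLib.CentrallyLarge.card_sup_mul_card_inf (H := qq f f') (K := Subgroup.centralizer {j})
      (le_sup_right.trans hle)
    have hbot : qq f f' ⊓ Subgroup.centralizer {j} = ⊥ := (Subgroup.eq_bot_iff_forall _).mpr fun x hx =>
      h.qq_inf_third hc h2 hq hn hx.1 (Subgroup.mem_centralizer_singleton_iff.mp hx.2)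
    rw [hbot, Subgroup.card_bot, mul_one, h.qq_card hc h2] at e
    rw [e, hMcard, hjC, h.hf.card_range_eq, hg1.hf'.card_range_eq, hg1.htor]
  have hKdec : K = qq f f' ⊔ J := by
    refine le_antisymm (fun x hx => ?_) (sup_le le_sup_left inf_le_left)
    have hxM : x ∈ ((qq f f' ⊔ Subgroup.centralizer {j} : Subgroup G) : Set G) := by
      rw [hM1dec]; exact hKM1 hx
    rw [Subgroup.coe_mul_of_right_le_normalizer_left _ _ (le_sup_right.trans hM1dec.le)] at hxM
    obtain ⟨a, ha, b, hb, rfl⟩ := Set.mem_mul.mp hxM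
    have hbK : b ∈ K := by
      have := mul_mem (inv_mem (Subgroup.mem_sup_left ha : a ∈ K)) hx
      rwa [inv_mul_cancel_left] at this
    exact mul_mem (Subgroup.mem_sup_left ha) (Subgroup.mem_sup_right ⟨hbK, hb⟩)
  have hIle : Nat.card I ≤ q ^ 2 * Nat.card (tor f) := by
    have e1 := CfsgLib.CentrallyLarge.card_sup_mul_card_inf (H := qq f f') (K := I) inf_le_left
    rw [hQI, h.hf'.card_root, h.qq_card hc h2, ← hK, ← hq'] at e1
    have e2 := CfsgLib.CentrallyLarge.card_sup_mul_card_inf (H := qq f f') (K := J) (inf_le_left.trans hKM1)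
    rw [← hKdec, h.qq_card hc h2, ← hq'] at e2
    have hJc : Nat.card J ≤ q * Nat.card (tor f) := by
      refine (Subgroup.card_le_of_le hJle).trans_eq ?_
      rw [← hg1.htor]; exact hg1.hf'.card_borel h2
    have hKc : Nat.card K ≤ q ^ 2 * (q * Nat.card (tor f)) := by
      refine le_trans ?_ (Nat.mul_le_mul_left _ hJc)
      rw [← e2]
      exact Nat.le_mul_of_pos_right _ Nat.card_pos
    refine Nat.le_of_mul_le_mul_left ?_ (pow_pos (show 0 < q by omega) 2)
    rw [← e1]
    refine le_trans (Nat.mul_le_mul_right q hKc) (le_of_eq ?_)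
    ring
  have hIeq : AB ⊔ tor f = I := by
    refine Subgroup.eq_of_le_of_card_ge (sup_le (le_inf hAB1 hAB2) htorI) (hIle.trans (Nat.le_of_dvd Nat.card_pos ?_))
    have hcop : (Nat.card AB).Coprime (Nat.card (tor f)) := by
      rw [hg2.qq_card hadj h2, ← hq', hq, ← pow_mul]
      exact ((Nat.Prime.coprime_iff_not_dvd hp.out).mpr (h.hf.not_dvd_tor hq hn)).pow_left _
    rw [hq', ← hg2.qq_card hadj h2]
    exact hcop.mul_dvd_of_dvd_of_dvd (Subgroup.card_dvd_of_le le_sup_left) (Subgroup.card_dvd_of_le le_sup_right)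
  -- the points
  let Ω := G ⧸ M1
  set p1 : Ω := ((1 : G) : G ⧸ M1) with hp1
  set p2 : Ω := (w : G ⧸ M1) with hp2
  have hfix1 : ∀ x ∈ M1, x • p1 = p1 := fun x hx => by
    show ((x * 1 : G) : G ⧸ M1) = _
    rw [mul_one]; exact QuotientGroup.eq.mpr (by simpa using inv_mem hx)
  have hst1 : ∀ x : G, x • p1 = p1 → x ∈ M1 := fun x hx => by
    have e : ((x * 1 : G) : G ⧸ M1) = ((1 : G) : G ⧸ M1) := hx
    rw [mul_one, QuotientGroup.eq, mul_one] at e
    simpa using inv_mem e
  have hwp : w • p1 = p2 := by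
    show ((w * 1 : G) : G ⧸ M1) = _
    rw [mul_one]
  have hfix2 : ∀ x : G, x • p2 = p2 ↔ x ∈ M2 := fun x => by
    rw [hwconj, ← hwp, ← mul_smul]
    constructor
    · intro e
      refine hst1 _ ?_
      rw [mul_assoc, mul_smul, e, ← mul_smul, hww, one_smul]
    · intro e
      have h1 := congrArg (fun a => w • a) (hfix1 _ e)
      rw [← mul_smul, ← mul_assoc, ← mul_assoc, hww, one_mul] at h1
      exact h1
  have hne12 : p1 ≠ p2 := fun e => hwM (hst1 w (by rw [hwp, ← e]))
  have hG := h.hf.card_group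
  rw [hN, ← hq'] at hG
  have hcardM : Nat.card M1 = q ^ 2 * (q * (q + 1) * Nat.card (tor f)) := by
    rw [hMcard, h.hf.card_range_eq]
  have hpos : 0 < q ^ 2 * (q * (q + 1) * Nat.card (tor f)) := by
    have := Nat.card_pos (α := tor f)
    positivity
  have hΩ : Nat.card Ω = q ^ 2 + q + 1 := by
    have e := M1.card_mul_index
    rw [hcardM, hG] at e
    refine Nat.eq_of_mul_eq_mul_left hpos ?_
    show _ * M1.index = _
    linear_combination e
  -- the stabiliser of the first point moves the second to all others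
  have horb : ∀ b : Ω, b ≠ p1 → ∃ m ∈ M1, m • p2 = b := by
    have hst : Nat.card (MulAction.stabilizer M1 p2) ≤ q ^ 2 * Nat.card (tor f) := by
      refine le_trans ?_ hIle
      rw [← Subgroup.card_map_of_injective M1.subtype_injective]
      refine Subgroup.card_le_of_le ?_
      rintro _ ⟨x, hx, rfl⟩
      exact ⟨x.2, (hfix2 _).mp hx⟩
    have hsz : q * (q + 1) ≤ (MulAction.orbit M1 p2).ncard := by
      rw [← MulAction.index_stabilizer M1 p2]
      have e := (MulAction.stabilizer M1 p2).card_mul_index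
      rw [hcardM] at e
      refine Nat.le_of_mul_le_mul_left ?_ (show 0 < q ^ 2 * Nat.card (tor f) by
        have := Nat.card_pos (α := tor f); positivity)
      refine le_trans (le_of_eq ?_) (Nat.mul_le_mul_right _ hst)
      rw [e]; ring
    have hsub : MulAction.orbit M1 p2 ⊆ {p1}ᶜ := by
      rintro _ ⟨m, rfl⟩ hm
      refine hne12 ((MulAction.injective (m : G)) ?_)
      show (m : G) • p1 = (m : G) • p2
      rw [hfix1 _ m.2]
      exact (Set.mem_singleton_iff.mp hm).symm
    have heq : MulAction.orbit M1 p2 = {p1}ᶜ := Set.eq_of_subset_of_ncard_le hsub (by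
      rw [Set.ncard_compl, Set.ncard_singleton, hΩ]
      refine le_trans (le_of_eq ?_) hsz
      rw [Nat.add_sub_cancel]; ring)
    intro b hb
    obtain ⟨m, hm⟩ : b ∈ MulAction.orbit M1 p2 := heq ▸ hb
    exact ⟨m, m.2, hm⟩
  have h2t : ∀ a b c d : Ω, a ≠ b → c ≠ d → ∃ g : G, g • a = c ∧ g • b = d := by
    have key : ∀ a b : Ω, a ≠ b → ∃ g : G, g • p1 = a ∧ g • p2 = b := by
      intro a b hab
      obtain ⟨x, hx⟩ := MulAction.exists_smul_eq G p1 a
      obtain ⟨m, hm, hm2⟩ := horb (x⁻¹ • b) (fun e => hab (by rw [← hx, ← e, smul_inv_smul]))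
      refine ⟨x * m, ?_, ?_⟩
      · rw [mul_smul, hfix1 m hm, hx]
      · rw [mul_smul, hm2, smul_inv_smul]
    intro a b c d hab hcd
    obtain ⟨x, hx1, hx2⟩ := key a b hab
    obtain ⟨y, hy1, hy2⟩ := key c d hcd
    refine ⟨y * x⁻¹, ?_, ?_⟩
    · rw [mul_smul, ← hx1, inv_smul_smul, hy1]
    · rw [mul_smul, ← hx2, inv_smul_smul, hy2]
  -- the line
  set ℓ : Set Ω := MulAction.orbit f.range p1 with hℓ
  have hℓfix : ∀ x : G, x * tt f = tt f * x → x • ℓ = ℓ := by
    intro x hx
    have hx' : x ∈ f.range := by rw [h.hf.range]; exact Subgroup.mem_centralizer_singleton_iff.mpr hx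
    exact MulAction.smul_orbit (⟨x, hx'⟩ : f.range) p1
  have hℓI : ∀ x ∈ I, x • ℓ = ℓ := by
    have hle : AB ⊔ tor f ≤ MulAction.stabilizer G ℓ := by
      refine sup_le (fun x hx => ?_) fun x hx => MulAction.mem_stabilizer_iff.mpr (hℓfix x ((h.hf.tor_iff h2).mp hx).1)
      refine MulAction.mem_stabilizer_iff.mpr ?_
      have hpt : ∀ a ∈ ℓ, x • a = a := by
        rintro _ ⟨c, rfl⟩
        show x • ((c : G) • p1) = (c : G) • p1
        have hcc : (c : G)⁻¹ * tt f = tt f * (c : G)⁻¹ :=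
          h.hf.mem_cent.mpr (MonoidHom.mem_range.mp (inv_mem c.2))
        have hc' := hABC _ hcc x hx
        rw [inv_inv] at hc'
        have e := hfix1 _ (hAB1 hc')
        calc x • ((c : G) • p1) = (c : G) • (((c : G)⁻¹ * x * c) • p1) := by
              rw [← mul_smul, ← mul_smul]; group
          _ = _ := by rw [e]
      ext a
      refine ⟨fun ⟨b, hb, e⟩ => ?_, fun ha => ⟨a, ha, hpt a ha⟩⟩
      rw [← e]
      show x • b ∈ ℓ
      rw [hpt b hb]; exact hb
    exact fun x hx => MulAction.mem_stabilizer_iff.mp (hle (hIeq.symm ▸ hx))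
  have hℓcard : ℓ.ncard = q + 1 := by
    rw [hℓ, ← MulAction.index_stabilizer f.range p1]
    have e := (MulAction.stabilizer f.range p1).card_mul_index
    rw [h.hf.card_range_eq, ← hq'] at e
    have hst : Nat.card (MulAction.stabilizer f.range p1) = q * Nat.card (tor f) := by
      refine Nat.dvd_antisymm ?_ ?_
      · refine dvd_trans ?_ (h.hf.card_cent_norm_dvd h2 hq hn (h.qq_isPGroup hc h2 hq hn) hXQ)
        rw [← Subgroup.card_map_of_injective f.range.subtype_injective]
        refine Subgroup.card_dvd_of_le ?_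
        rintro _ ⟨x, hx, rfl⟩
        exact ⟨hst1 _ hx, h.hf.range ▸ x.2⟩
      · have hle : root f ⊔ tor f ≤ f.range := sup_le
          (fun x hx => by obtain ⟨β, e⟩ := mem_root.mp hx; exact ⟨_, e⟩)
          (fun x hx => by obtain ⟨a, b, e⟩ := mem_tor.mp hx; exact ⟨_, e⟩)
        rw [← h.hf.card_borel h2, ← Nat.card_congr (Subgroup.subgroupOfEquivOfLe hle).toEquiv]
        exact Subgroup.card_dvd_of_le fun x hx =>
          hfix1 _ ((sup_le (hXQ.trans Subgroup.le_normalizer) htorM : root f ⊔ tor f ≤ M1) hx)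
    rw [hst] at e
    refine Nat.eq_of_mul_eq_mul_left (show 0 < q * Nat.card (tor f) by
      have := Nat.card_pos (α := tor f); positivity) ?_
    linear_combination e
  -- two points of the line are conjugate to the standard pair inside the centraliser
  have hpairs : ∀ a ∈ ℓ, ∀ b ∈ ℓ, a ≠ b → ∃ c : G, c * tt f = tt f * c ∧ c • p1 = a ∧ c • p2 = b := by
    intro a ha b hb hab
    obtain ⟨c, rfl⟩ := ha
    obtain ⟨d, rfl⟩ := hb
    obtain ⟨v, hv⟩ := MonoidHom.mem_range.mp (mul_mem (inv_mem c.2) d.2)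
    have hv0 : v.1 1 0 ≠ 0 := by
      intro h0
      refine hab ?_
      obtain ⟨a, b, e⟩ := tri_cases h0
      have hfix : ((c : G)⁻¹ * d) • p1 = p1 := hfix1 _ (by
        rw [← hv, e, map_mul]
        exact mul_mem (htorM (mem_tor.mpr ⟨a, b, rfl⟩))
          (Subgroup.le_normalizer (hXQ (mem_root.mpr ⟨_, rfl⟩))))
      show (c : G) • p1 = (d : G) • p1
      rw [mul_smul, inv_smul_eq_iff] at hfix
      exact hfix.symm
    set α := v.1 0 0 / v.1 1 0
    set δ := v.1 1 1 / v.1 1 0
    have hi : ∀ β : F, (xr β)⁻¹ = xr (-β) := fun β =>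
      inv_eq_of_mul_eq_one_right (by rw [xr_add, add_neg_cancel, xr_zero])
    have hD : Diag ((xr α)⁻¹ * v * (xr δ)⁻¹ * ww) := by
      rw [hi, hi]
      constructor <;> simp [mul_apply', xr, ww, α, δ] <;> field_simp <;> ring
    obtain ⟨a1, b1, e⟩ := eq_dg hD
    have hvdec : v = xr α * dg a1 b1 * ww * xr δ := by
      rw [← e, show xr α * ((xr α)⁻¹ * v * (xr δ)⁻¹ * ww) * ww * xr δ = v * (xr δ)⁻¹ * (ww * ww) * xr δ by group,
        ww_mul_self, mul_one, inv_mul_cancel_right]
    set u := f (xr α) * f (dg a1 b1)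
    have hu : u ∈ M1 := mul_mem (Subgroup.le_normalizer (hXQ (mem_root.mpr ⟨α, rfl⟩)))
      (htorM (mem_tor.mpr ⟨a1, b1, rfl⟩))
    have hδ : f (xr δ) • p1 = p1 := hfix1 _ (Subgroup.le_normalizer (hXQ (mem_root.mpr ⟨δ, rfl⟩)))
    refine ⟨(c : G) * u, ?_, ?_, ?_⟩
    · refine h.hf.mem_cent.mpr (MonoidHom.mem_range.mp (mul_mem c.2 ?_))
      exact mul_mem ⟨_, rfl⟩ ⟨_, rfl⟩
    · rw [mul_smul, hfix1 u hu]; rfl
    · have hd : ((c : G)⁻¹ * d) • p1 = u • p2 := by
        rw [← hv, hvdec, map_mul, map_mul, map_mul, mul_smul, hδ, mul_smul, hwp]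
      rw [mul_smul, ← hd, mul_smul, smul_inv_smul]
      rfl
  refine CfsgLib.TTP.psl3_of_block hΩ h2t ℓ hℓcard fun x a ha b hb hab hxa hxb => ?_
  obtain ⟨c, hcC, hca, hcb⟩ := hpairs a ha b hb hab
  obtain ⟨d, hdC, hda, hdb⟩ := hpairs _ hxa _ hxb (fun e => hab (MulAction.injective x e))
  have hmem : d⁻¹ * x * c ∈ I := by
    refine ⟨hst1 _ ?_, (hfix2 _).mp ?_⟩
    · rw [mul_smul, mul_smul, hca, ← hda, inv_smul_smul]
    · rw [mul_smul, mul_smul, hcb, ← hdb, inv_smul_smul]
  have hxd : x = d * (d⁻¹ * x * c) * c⁻¹ := by group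
  rw [hxd, mul_smul, mul_smul, hℓfix c⁻¹ (Commute.inv_left hcC).eq, hℓI _ hmem, hℓfix d hdC]

/-- Two commuting root groups in the series of `PSL₃(q)`. -/
theorem psl3 : Nonempty (G ≃* Matrix.ProjectiveSpecialLinearGroup (Fin 3) F) := by
  obtain ⟨g, hg1, hg2, ht, hgN, hor⟩ := h.exists_normalising h2 hc hq hn hN
  rcases hor with ⟨ha, hb⟩ | ⟨ha, hb⟩
  · have hN' := hN
    rw [← h.hf.index_eq h2 h.hf'] at hN'
    rw [← qq_comm] at hgN
    exact h.symm.psl3_of hc.symm h2 hq hn hN' hg2 hg1 (ht.trans (h.comm h2)) hgN ha hb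
  · exact h.psl3_of hc h2 hq hn hN hg1 hg2 ht hgN ha hb

end Pair

end CfsgLib.GL2Cent
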