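import Cfsg.Agent.Lib.GL2Cent.Model
import Cfsg.Agent.Lib.ZStar.Main
import Cfsg.Agent.Lib.CyclicInt.Fusion

/-!
The setting: a simple group and a surjection of `GL(2, F)` onto the centraliser of an involution with a central
kernel of odd order. Conjugating the map, or composing it with `alpha`, gives the same setting again.
-/

set_option autoImplicit false
set_option linter.unusedSectionVars false
set_option linter.style.haveILetI false

namespace CfsgLib.GL2Cent

open Matrix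

variable {G : Type*} [Group G] {F : Type*} [Field F]

/-- The central involution. -/
noncomputable def tt (f : GL (Fin 2) F →* G) : G := f (dg (-1) (-1))

/-- A noncentral involution. -/
noncomputable def uu (f : GL (Fin 2) F →* G) : G := f (dg 1 (-1))

/-- The hypothesis on `f`. -/
structure Hyp (f : GL (Fin 2) F →* G) : Prop where
  range : f.range = Subgroup.centralizer {tt f}
  kerc : f.ker ≤ Subgroup.center (GL (Fin 2) F)
  kero : Odd (Nat.card f.ker)

/-- The torus. -/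
noncomputable def dgHom : Fˣ × Fˣ →* GL (Fin 2) F where
  toFun p := dg p.1 p.2
  map_one' := dg_one
  map_mul' p r := (dg_mul _ _ _ _).symm

/-- The upper root group. -/
noncomputable def xrHom : Multiplicative F →* GL (Fin 2) F where
  toFun x := xr x.toAdd
  map_one' := xr_zero
  map_mul' x y := (xr_add _ _).symm

/-- The image of the torus. -/
noncomputable def tor (f : GL (Fin 2) F →* G) : Subgroup G := (f.comp dgHom).range

/-- The image of the scalars. -/
noncomputable def scal (f : GL (Fin 2) F →* G) : Subgroup G :=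
  (f.comp (dgHom.comp ((MonoidHom.id Fˣ).prod (MonoidHom.id Fˣ)))).range

/-- The image of the upper root group. -/
noncomputable def root (f : GL (Fin 2) F →* G) : Subgroup G := (f.comp xrHom).range

theorem mem_tor {f : GL (Fin 2) F →* G} {x : G} : x ∈ tor f ↔ ∃ a b, f (dg a b) = x :=
  ⟨fun ⟨p, e⟩ => ⟨p.1, p.2, e⟩, fun ⟨a, b, e⟩ => ⟨(a, b), e⟩⟩

theorem mem_scal {f : GL (Fin 2) F →* G} {x : G} : x ∈ scal f ↔ ∃ a, f (dg a a) = x :=
  ⟨fun ⟨p, e⟩ => ⟨p, e⟩, fun ⟨a, e⟩ => ⟨a, e⟩⟩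

theorem mem_root {f : GL (Fin 2) F →* G} {x : G} : x ∈ root f ↔ ∃ β, f (xr β) = x :=
  ⟨fun ⟨p, e⟩ => ⟨Multiplicative.toAdd p, e⟩, fun ⟨β, e⟩ => ⟨Multiplicative.ofAdd β, e⟩⟩

theorem scal_le_tor (f : GL (Fin 2) F →* G) : scal f ≤ tor f := fun _ hx => by
  obtain ⟨a, e⟩ := mem_scal.mp hx
  exact mem_tor.mpr ⟨a, a, e⟩

theorem alpha_alpha (g : GL (Fin 2) F) : alpha (alpha g) = g := by
  have hdet : Matrix.GeneralLinearGroup.det (alpha g) = (Matrix.GeneralLinearGroup.det g)⁻¹ := by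
    have hd : ∀ a b : Fˣ, Matrix.GeneralLinearGroup.det (dg a b) = a * b := fun a b =>
      Units.ext (by simp [dg, Matrix.det_fin_two])
    show Matrix.GeneralLinearGroup.det (dg _ _ * (dg 1 (-1) * g * dg 1 (-1))) = _
    rw [map_mul, map_mul, map_mul, hd, hd]
    simp [mul_assoc]
  show dg _ _ * (dg 1 (-1) * (dg _ _ * (dg 1 (-1) * g * dg 1 (-1))) * dg 1 (-1)) = g
  rw [hdet, inv_inv]
  set d := Matrix.GeneralLinearGroup.det g
  set u := dg (1 : Fˣ) (-1)
  have hu : u * u = 1 := by rw [dg_mul]; simp [dg_one]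
  have hc : dg d⁻¹ d⁻¹ * u = u * dg d⁻¹ d⁻¹ := by rw [dg_mul, dg_mul]; simp [mul_comm]
  have hd : dg d d * dg d⁻¹ d⁻¹ = (1 : GL (Fin 2) F) := by rw [dg_mul]; simp [dg_one]
  calc _ = dg d d * (u * dg d⁻¹ d⁻¹) * u * g * (u * u) := by group
    _ = dg d d * dg d⁻¹ d⁻¹ * (u * u) * g := by
        rw [← hc, hu, mul_one]
        simp only [mul_assoc]
        rw [← mul_assoc u u g, hu]
    _ = g := by rw [hd, hu, one_mul, one_mul]

theorem alpha_surj : Function.Surjective (alpha : GL (Fin 2) F →* GL (Fin 2) F) := fun g => ⟨_, alpha_alpha g⟩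

namespace Hyp

variable {f : GL (Fin 2) F →* G} (hf : Hyp f)
include hf

theorem comm_iff {g h : GL (Fin 2) F} : f g * f h = f h * f g ↔ g * h = h * g := by
  refine ⟨fun e => commute_of_mod hf.kerc hf.kero (f.mem_ker.mpr ?_), fun e => by rw [← map_mul, ← map_mul, e]⟩
  rw [map_mul, map_inv, map_mul, map_mul, e, inv_mul_cancel]

theorem mem_cent {x : G} : x * tt f = tt f * x ↔ ∃ g, f g = x := by
  rw [← Subgroup.mem_centralizer_singleton_iff, ← hf.range]; rfl

theorem eq_one_of_unit {a : Fˣ} (h : f (dg a a) = 1) (h2 : a * a = 1) : a = 1 :=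
  unit_eq_one_of_sq hf.kero (f.mem_ker.mpr h) h2

theorem root_inj {β : F} (h : f (xr β) = 1) : β = 0 := by
  obtain ⟨a, ha⟩ := exists_scalar (hf.kerc (f.mem_ker.mpr h))
  simpa [xr, dg] using entry ha 0 1

variable (h2 : (2 : F) ≠ 0)
include h2

omit hf in
theorem neg_one_ne : (-1 : Fˣ) ≠ 1 := fun e => h2 (by
  have := congrArg Units.val e
  simp at this
  linear_combination -this)

theorem tt_ne : tt f ≠ 1 := fun e => neg_one_ne h2 (hf.eq_one_of_unit e (by simp))

omit hf h2 in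
theorem tt_sq : tt f * tt f = 1 := by rw [tt, ← map_mul, dg_mul]; simp [dg_one]

omit hf h2 in
theorem uu_sq : uu f * uu f = 1 := by rw [uu, ← map_mul, dg_mul]; simp [dg_one]

theorem uu_ne : uu f ≠ 1 := fun e => by
  obtain ⟨a, ha⟩ := exists_scalar (hf.kerc (f.mem_ker.mpr e))
  exact neg_one_ne h2 ((dg_inj ha).2.trans (dg_inj ha).1.symm)

theorem uu_ne_tt : uu f ≠ tt f := fun e => by
  have h1 : f (dg (1 * (-1)) (-1 * -1)) = 1 := by
    rw [← dg_mul, map_mul]
    exact (congrArg (· * tt f) e).trans tt_sq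
  obtain ⟨a, ha⟩ := exists_scalar (hf.kerc (f.mem_ker.mpr h1))
  have := (dg_inj ha).1.trans (dg_inj ha).2.symm
  exact neg_one_ne h2 (by simpa using this)

omit h2 in
theorem uu_comm : uu f * tt f = tt f * uu f := by rw [uu, tt, ← map_mul, ← map_mul, dg_mul, dg_mul]; simp

theorem tor_iff {x : G} : x ∈ tor f ↔ x * tt f = tt f * x ∧ x * uu f = uu f * x := by
  rw [mem_tor]
  constructor
  · rintro ⟨a, b, rfl⟩
    exact ⟨by rw [tt, ← map_mul, ← map_mul, dg_mul, dg_mul]; simp [mul_comm],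
      by rw [uu, ← map_mul, ← map_mul, dg_mul, dg_mul]; simp [mul_comm]⟩
  · rintro ⟨h1, h'⟩
    obtain ⟨g, rfl⟩ := hf.mem_cent.mp h1
    obtain ⟨a, b, e⟩ := eq_dg (commute_dg (Ne.symm (neg_one_ne h2)) (hf.comm_iff.mp h'))
    exact ⟨a, b, by rw [e]⟩

/-- An element squaring to one in the kernel comes from one squaring to one. -/
theorem exists_sq_one {g : GL (Fin 2) F} (h : f g * f g = 1) : ∃ g', f g' = f g ∧ g' * g' = 1 := by
  have hz : g * g ∈ f.ker := f.mem_ker.mpr (by rw [map_mul, h])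
  obtain ⟨k, hk⟩ := hf.kero
  have hp : (g * g) ^ (2 * k + 1) = 1 := by
    rw [← hk]; exact Subtype.mk_eq_mk.mp (pow_card_eq_one' (x := (⟨g * g, hz⟩ : f.ker)))
  refine ⟨g * (g * g) ^ k, by rw [map_mul, map_pow, map_mul, h, one_pow, mul_one], ?_⟩
  have hc : Commute g ((g * g) ^ k) := ((Commute.refl g).mul_right (Commute.refl g)).pow_right k
  calc g * (g * g) ^ k * (g * (g * g) ^ k) = g * g * ((g * g) ^ k * (g * g) ^ k) := by
        exact (hc.symm.mul_mul_mul_comm _ _)
    _ = (g * g) ^ (2 * k + 1) := by rw [← pow_add, ← pow_succ', two_mul]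
    _ = 1 := hp

theorem inv_cases {x : G} (hc : x * tt f = tt f * x) (hx : x * x = 1) :
    x = 1 ∨ x = tt f ∨ ∃ h, f h * x * (f h)⁻¹ = uu f := by
  obtain ⟨g, rfl⟩ := hf.mem_cent.mp hc
  obtain ⟨g', e, hg'⟩ := hf.exists_sq_one h2 hx
  rw [← e]
  rcases sq_one_cases h2 hg' with rfl | rfl | ⟨h, hh⟩
  · exact Or.inl (map_one f)
  · exact Or.inr (Or.inl rfl)
  · exact Or.inr (Or.inr ⟨h, by rw [uu, ← hh, map_mul, map_mul, map_inv]⟩)

theorem not_comm : ¬ IsMulCommutative G := fun h => by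
  have e : f (dg 1 (-1)) * f (xr 1) = f (xr 1) * f (dg 1 (-1)) := h.is_comm.comm _ _
  have := entry (hf.comm_iff.mp e) 0 1
  simp [mul_apply', dg, xr] at this
  exact h2 (by linear_combination this)

variable [Finite G] [IsSimpleGroup G]

theorem center_bot : Subgroup.center G = ⊥ :=
  (IsSimpleGroup.eq_bot_or_eq_top_of_normal (Subgroup.center G) inferInstance).resolve_right fun e =>
    hf.not_comm h2 ⟨⟨fun a b => (Subgroup.mem_center_iff.mp (e ▸ Subgroup.mem_top b) a)⟩⟩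

theorem conj_uu : ∃ g, g * uu f * g⁻¹ = tt f := by
  by_contra hno
  have hord : orderOf (tt f) = 2 := orderOf_eq_prime (by rw [pow_two, tt_sq]) (hf.tt_ne h2)
  have hiso : Cfsg.IsIsolated (tt f) := fun g hg => by
    rcases hf.inv_cases h2 hg.eq.symm (by
      rw [show g * tt f * g⁻¹ * (g * tt f * g⁻¹) = g * (tt f * tt f) * g⁻¹ by group, tt_sq]; group) with
      h | h | ⟨h, e⟩
    · exact absurd (conj_eq_one_iff.mp h) (hf.tt_ne h2)
    · exact h
    · exact absurd ⟨(f h * g)⁻¹, by rw [← e]; group⟩ hno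
  have hcen : tt f ∈ Subgroup.center G := Subgroup.mem_center_iff.mpr fun g => by
    have h := CfsgLib.ZStar.commutator_mem hord hiso g
    rw [CfsgLib.CyclicInt.pPrimeCore_eq_bot (hf.not_comm h2), Subgroup.mem_bot, mul_inv_eq_one,
      mul_inv_eq_iff_eq_mul] at h
    exact h.symm
  rw [hf.center_bot h2] at hcen
  exact hf.tt_ne h2 hcen

theorem exists_swap : ∃ s, s * tt f * s⁻¹ = uu f ∧ s * uu f * s⁻¹ = tt f := by
  obtain ⟨g, hg⟩ := hf.conj_uu h2
  have hc : g * tt f * g⁻¹ * tt f = tt f * (g * tt f * g⁻¹) :=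
    calc g * tt f * g⁻¹ * tt f = g * (tt f * uu f) * g⁻¹ := by rw [← hg]; group
      _ = g * (uu f * tt f) * g⁻¹ := by rw [hf.uu_comm]
      _ = g * uu f * g⁻¹ * (g * tt f * g⁻¹) := by group
      _ = _ := by rw [hg]
  rcases hf.inv_cases h2 hc (by
      rw [show g * tt f * g⁻¹ * (g * tt f * g⁻¹) = g * (tt f * tt f) * g⁻¹ by group, tt_sq]; group) with
    h | h | ⟨c, hcu⟩
  · exact absurd (conj_eq_one_iff.mp h) (hf.tt_ne h2)
  · exact absurd (conj_injective (h.trans hg.symm)).symm (hf.uu_ne_tt h2)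
  · refine ⟨f c * g, by rw [← hcu]; group, ?_⟩
    have hct : f c * tt f * (f c)⁻¹ = tt f := by
      rw [mul_inv_eq_iff_eq_mul]; exact (hf.mem_cent.mpr ⟨c, rfl⟩)
    rw [show f c * g * uu f * (f c * g)⁻¹ = f c * (g * uu f * g⁻¹) * (f c)⁻¹ by group, hg, hct]

omit h2 in
omit [Finite G] [IsSimpleGroup G] in
/-- The setting is invariant under conjugation. -/
theorem conj (g : G) : Hyp ((MulAut.conj g).toMonoidHom.comp f) := by
  have hk : ((MulAut.conj g).toMonoidHom.comp f).ker = f.ker := by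
    ext x; simp [MonoidHom.mem_ker]
  refine ⟨?_, hk ▸ hf.kerc, hk ▸ hf.kero⟩
  ext x
  rw [Subgroup.mem_centralizer_singleton_iff]
  constructor
  · rintro ⟨y, rfl⟩
    have e := hf.mem_cent.mpr ⟨y, rfl⟩
    simp only [tt, MonoidHom.comp_apply, MulEquiv.toMonoidHom_eq_coe, MonoidHom.coe_coe, MulAut.conj_apply]
    simp only [tt] at e
    rw [show ∀ a b : G, g * a * g⁻¹ * (g * b * g⁻¹) = g * (a * b) * g⁻¹ from fun a b => by group, e]
    group
  · intro hx
    obtain ⟨y, hy⟩ := (hf.mem_cent (x := g⁻¹ * x * g)).mp (by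
      simp only [tt, MonoidHom.comp_apply, MulEquiv.toMonoidHom_eq_coe, MonoidHom.coe_coe, MulAut.conj_apply] at hx
      simp only [tt]
      calc g⁻¹ * x * g * f (dg (-1) (-1)) = g⁻¹ * (x * (g * f (dg (-1) (-1)) * g⁻¹)) * g := by group
        _ = _ := by rw [hx]; group)
    exact ⟨y, by simp [MulAut.conj_apply, hy]; group⟩

omit h2 in
omit [Finite G] [IsSimpleGroup G] in
/-- The setting is invariant under `alpha`. -/
theorem alphaComp : Hyp (f.comp (alpha : GL (Fin 2) F →* GL (Fin 2) F)) := by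
  have ht : tt (f.comp (alpha : GL (Fin 2) F →* GL (Fin 2) F)) = tt f := by
    simp [tt, alpha_dg]
  have hk : (f.comp (alpha : GL (Fin 2) F →* GL (Fin 2) F)).ker = f.ker.map alpha := by
    ext x
    refine ⟨fun hx => ⟨alpha x, hx, alpha_alpha x⟩, ?_⟩
    rintro ⟨y, hy, rfl⟩
    show f (alpha (alpha y)) = 1
    rw [alpha_alpha]; exact hy
  refine ⟨?_, ?_, ?_⟩
  · rw [ht, ← hf.range]
    exact MonoidHom.range_comp _ _ |>.trans (by rw [MonoidHom.range_eq_top.mpr alpha_surj, ← MonoidHom.range_eq_map])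
  · rw [hk]
    rintro _ ⟨y, hy, rfl⟩
    obtain ⟨a, rfl⟩ := exists_scalar (hf.kerc hy)
    rw [alpha_dg]; exact scalar_central _
  · rw [hk]; exact hf.kero.of_dvd_nat (Subgroup.card_map_dvd _ _)

omit h2 in
omit [Finite G] [IsSimpleGroup G] in
theorem alpha_uu : uu (f.comp (alpha : GL (Fin 2) F →* GL (Fin 2) F)) = tt f * uu f := by
  simp [uu, tt, alpha_dg, ← map_mul, dg_mul]

end Hyp

end CfsgLib.GL2Cent
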