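import Cfsg.Agent.Lib.GL2Cent.Main
import Cfsg.Agent.S0197

/-!
The passage from the abstract centraliser to the map `f`, and the field with three elements.
-/

set_option autoImplicit false
set_option linter.unusedSectionVars false

namespace CfsgLib.GL2Cent

open Matrix

universe u v

variable {G : Type u} [Group G] {F : Type v} [Field F]

/-- The centraliser isomorphism gives the map. -/
theorem exists_hyp (Z : Subgroup (GL (Fin 2) F)) [Z.Normal] (hZc : Z ≤ Subgroup.center (GL (Fin 2) F))
    (hZo : Odd (Nat.card Z)) {t : G} (ht : orderOf t = 2)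
    (e : Subgroup.centralizer ({t} : Set G) ≃* (GL (Fin 2) F ⧸ Z)) :
    ∃ f : GL (Fin 2) F →* G, Hyp f ∧ tt f = t ∧ f.ker = Z := by
  set C := Subgroup.centralizer ({t} : Set G)
  set π : GL (Fin 2) F →* C := e.symm.toMonoidHom.comp (QuotientGroup.mk' Z) with hπ
  set f := C.subtype.comp π
  have hπs : Function.Surjective π := e.symm.surjective.comp (QuotientGroup.mk'_surjective Z)
  have hker : f.ker = Z := by
    ext x
    simp only [f, π, MonoidHom.mem_ker, MonoidHom.coe_comp, Function.comp_apply, Subgroup.coe_subtype,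
      OneMemClass.coe_eq_one, MulEquiv.coe_toMonoidHom, EmbeddingLike.map_eq_one_iff, QuotientGroup.mk'_apply,
      QuotientGroup.eq_one_iff]
  have htC : t ∈ C := Subgroup.mem_centralizer_singleton_iff.mpr rfl
  obtain ⟨g, hg⟩ := hπs ⟨t, htC⟩
  have hgf : f g = t := congrArg Subtype.val hg
  have hcomm : ∀ h, g * h = h * g := fun h => commute_of_mod hZc hZo (by
    rw [← hker, MonoidHom.mem_ker, map_mul, map_inv, map_mul, map_mul, hgf, inv_mul_eq_one]
    exact Subgroup.mem_centralizer_singleton_iff.mp (π h).2)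
  have hsq : g * g ∈ Z := by
    rw [← hker, MonoidHom.mem_ker, map_mul, hgf, ← pow_two, ← ht, pow_orderOf_eq_one]
  obtain ⟨k, hk⟩ := hZo
  set z := (g * g) ^ (k + 1) with hz
  have hzsq : z * z = g * g := by
    rw [hz, ← pow_add, show k + 1 + (k + 1) = Nat.card Z + 1 by omega, pow_succ]
    have : (g * g) ^ Nat.card Z = 1 := congrArg Subtype.val (pow_card_eq_one' (x := (⟨g * g, hsq⟩ : Z)))
    rw [this, one_mul]
  have hzZ : z ∈ Z := pow_mem hsq _
  set g' := g * z⁻¹ with hg'
  have hgz : Commute g z⁻¹ := hcomm _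
  have hg'2 : g' * g' = 1 := by
    rw [hg', hgz.symm.mul_mul_mul_comm, ← _root_.mul_inv_rev, hzsq, mul_inv_cancel]
  have hfg' : f g' = t := by
    rw [hg', map_mul, hgf, MonoidHom.mem_ker.mp (show z⁻¹ ∈ f.ker from hker ▸ inv_mem hzZ), mul_one]
  have hcen : g' ∈ Subgroup.center (GL (Fin 2) F) :=
    mul_mem (Subgroup.mem_center_iff.mpr fun h => (hcomm h).symm) (inv_mem (hZc hzZ))
  obtain ⟨a, ha⟩ := exists_scalar hcen
  rw [ha, dg_mul, ← dg_one] at hg'2
  have ha2 : (a : F) * a = 1 := by simpa using congrArg Units.val (dg_inj hg'2).1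
  have htt : tt f = t := by
    rcases mul_self_eq_one_iff.mp ha2 with h | h
    · exfalso
      rw [ha, show a = 1 from Units.ext h, dg_one, map_one] at hfg'
      rw [← hfg', orderOf_one] at ht
      omega
    · rw [tt, ← hfg', ha, show (-1 : Fˣ) = a from Units.ext (by simp [h])]
  refine ⟨f, ⟨?_, hker ▸ hZc, ?_⟩, htt, hker⟩
  · rw [htt, MonoidHom.range_comp, MonoidHom.range_eq_top.mpr hπs, ← MonoidHom.range_eq_map, Subgroup.range_subtype]
  · rw [hker]
    exact ⟨k, hk⟩

namespace Hyp

variable {f : GL (Fin 2) F →* G} (hf : Hyp f) [Finite G] [IsSimpleGroup G] [Fintype F]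
include hf

/-- The field with three elements. -/
theorem of_three (h3 : Fintype.card F = 3) :
    Nonempty (G ≃* Matrix.ProjectiveSpecialLinearGroup (Fin 3) F) ∨ Nat.card G = 7920 := by
  classical
  haveI : Fact (Nat.Prime 3) := ⟨Nat.prime_three⟩
  have hq : Fintype.card F = 3 ^ 1 := by rw [h3, pow_one]
  have h2 : (2 : F) ≠ 0 := by
    intro h
    have h3' : ((3 : ℕ) : F) = 0 := by rw [← h3]; exact FiniteField.cast_card_eq_zero F
    exact one_ne_zero (show (1 : F) = 0 by push_cast at h3'; linear_combination h3' - h)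
  have hk1 : Nat.card f.ker = 1 := by
    have hd := hf.ker_dvd
    rw [h3] at hd
    rcases (Nat.dvd_prime Nat.prime_two).mp hd with h | h
    · exact h
    · exact absurd hf.kero (by rw [h]; decide)
  have hinj : Function.Injective f := (MonoidHom.ker_eq_bot_iff f).mp (Subgroup.card_eq_one.mp hk1)
  let σ : F ≃+* ZMod 3 := (ZMod.ringEquivOfPrime F Nat.prime_three h3).symm
  let e : Subgroup.centralizer ({tt f} : Set G) ≃* GL (Fin 2) (ZMod 3) :=
    ((MulEquiv.subgroupCongr hf.range.symm).trans (MonoidHom.ofInjective hinj).symm).trans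
      (Units.mapEquiv σ.mapMatrix.toMulEquiv)
  have ht : orderOf (tt f) = 2 := orderOf_eq_prime (by rw [pow_two]; exact Hyp.tt_sq) (hf.tt_ne h2)
  rcases Cfsg.Agent.S0197.result (tt f) ht e with h | h
  · left
    have hc := hf.card_group
    have htor := hf.card_tor
    rw [hk1, h3] at htor
    rw [h, h3] at hc
    have hN : (Subgroup.centralizer ({tt f} : Set G)).index = 117 := by
      rw [show Nat.card (tor f) = 4 by simpa using htor] at hc
      omega
    rcases hf.root_dichotomy h2 with ⟨f', hf', htt, htor', hcomm⟩ | hB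
    · have hne : tt f' ≠ tt f := by
        rcases htt with e | e <;> rw [e]
        · exact hf.uu_ne_tt h2
        · exact fun e' => hf.uu_ne h2 (mul_left_cancel (a := tt f) (by rw [e', mul_one]))
      exact (Pair.mk hf hf' htor' hne).psl3 hcomm h2 hq one_ne_zero (by rw [hN, h3]; norm_num)
    · exact absurd (by rw [hN]; decide) (hf.not_dvd_index h2 hq one_ne_zero hB)
  · exact Or.inr h

end Hyp

end CfsgLib.GL2Cent
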