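import Cfsg.Agent.Lib.GL2Cent.Borel

/-!
With index `q² (q² + q + 1)` three pairwise commuting root groups in the three centralisers do not occur.
-/

set_option autoImplicit false
set_option linter.unusedSectionVars false
set_option linter.style.haveILetI false

namespace CfsgLib.GL2Cent

open Matrix
open scoped Pointwise

variable {G : Type*} [Group G] {F : Type*} [Field F]

namespace Pair

variable {f f' : GL (Fin 2) F →* G} (h : Pair f f') [Finite G] [IsSimpleGroup G] [Fintype F] (h2 : (2 : F) ≠ 0)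
include h h2

/-- The order formula for a group normalised by the two involutions. -/
theorem four'' {N : Subgroup G} (hN : Odd (Nat.card N)) (nt : ∀ x ∈ N, tt f * x * (tt f)⁻¹ ∈ N)
    (nu : ∀ x ∈ N, tt f' * x * (tt f')⁻¹ ∈ N) :
    Nat.card N * Nat.card (N ⊓ tor f : Subgroup G) ^ 2 =
      Nat.card (N ⊓ Subgroup.centralizer {tt f} : Subgroup G) *
      Nat.card (N ⊓ Subgroup.centralizer {tt f'} : Subgroup G) *
      Nat.card (N ⊓ Subgroup.centralizer {tt f * tt f'} : Subgroup G) := by
  rcases h.cases h2 with c | c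
  · have e := h.hf.four h2 hN nt (c ▸ nu)
    rw [c]; exact e
  · have hu : uu f = tt f * tt f' := by rw [c, ← mul_assoc, Hyp.tt_sq, one_mul]
    have e := h.hf.four h2 hN nt fun x hx => by
      rw [hu, show tt f * tt f' * x * (tt f * tt f')⁻¹ = tt f * (tt f' * x * (tt f')⁻¹) * (tt f)⁻¹ by group]
      exact nt _ (nu x hx)
    rw [c, ← mul_assoc (tt f) (tt f) (uu f), Hyp.tt_sq, one_mul, e]
    ring

theorem inv_cases_tor {x : G} (hx : x ∈ tor f) (hxx : x * x = 1) :
    x = 1 ∨ x = tt f ∨ x = tt f' ∨ x = tt f * tt f' := by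
  rcases h.hf.tor_sq h2 hx hxx with e | e | e | e
  · exact Or.inl e
  · exact Or.inr (Or.inl e)
  · rcases h.cases h2 with c | c
    · exact Or.inr (Or.inr (Or.inl (e.trans c.symm)))
    · exact Or.inr (Or.inr (Or.inr (by rw [e, c, ← mul_assoc, Hyp.tt_sq, one_mul])))
  · rcases h.cases h2 with c | c
    · exact Or.inr (Or.inr (Or.inr (by rw [e, c])))
    · exact Or.inr (Or.inr (Or.inl (e.trans c.symm)))

variable {g : GL (Fin 2) F →* G} (hg : Pair f g) (ht : tt g = tt f * tt f') (hc : Adj f f') (ha : Adj f g)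
  (hb : Adj f' g) {p : ℕ} [hp : Fact p.Prime] {n : ℕ} (hq : Fintype.card F = p ^ n) (hn : n ≠ 0)
include hg ht hc ha hb hq hn

theorem no_triangle
    (hN : (Subgroup.centralizer ({tt f} : Set G)).index =
      Fintype.card F ^ 2 * (Fintype.card F ^ 2 + Fintype.card F + 1)) : False := by
  classical
  haveI : Fact (Nat.Prime 2) := ⟨Nat.prime_two⟩
  have hcomm : ∀ x ∈ qq f f', ∀ z ∈ root g, Commute x z := fun x hx z hz => by
    obtain ⟨a, hax, b, hbx, rfl⟩ := (qq_mem hc).mp hx
    exact Commute.mul_left (ha a hax z hz) (hb b hbx z hz)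
  have hgN : root g ≤ Subgroup.normalizer (qq f f' : Set G) := fun z hz => Subgroup.centralizer_le_normalizer _
    (Subgroup.mem_centralizer_iff.mpr fun x hx => (hcomm x hx z hz).eq)
  obtain ⟨hEp, hEcard⟩ := h.triple_card hc h2 hq hn hg.hf' ht hgN
  set E := qq f f' ⊔ root g with hE
  set q := Fintype.card F with hq'
  have hrf : root f ≤ E := le_sup_left.trans le_sup_left
  have hrf' : root f' ≤ E := le_sup_right.trans le_sup_left
  have hrg : root g ≤ E := le_sup_right
  have hab : ∀ x ∈ E, ∀ y ∈ E, x * y = y * x := by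
    have h1 : E ≤ Subgroup.centralizer (E : Set G) := by
      rw [hE, Subgroup.sup_eq_closure, Subgroup.centralizer_closure, Subgroup.closure_le]
      rintro x hx
      refine Subgroup.mem_centralizer_iff.mpr fun y hy => ?_
      rcases hx with hx | hx <;> rcases hy with hy | hy
      · exact Subgroup.mem_centralizer_iff.mp (h.qq_le_cent hc h2 hx) y hy
      · exact (hcomm x hx y hy).eq.symm
      · exact (hcomm y hy x hx).eq
      · obtain ⟨β, rfl⟩ := mem_root.mp hx
        obtain ⟨γ, rfl⟩ := mem_root.mp hy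
        rw [← map_mul, ← map_mul, xr_add, xr_add, add_comm]
    exact fun x hx y hy => (Subgroup.mem_centralizer_iff.mp (h1 hx) y hy).symm
  set M := Subgroup.normalizer (E : Set G) with hM
  have htorM : tor f ≤ M := fun k hk => Subgroup.mem_normalizer_fintype fun x hx => by
    have hxm : x ∈ ((qq f f' ⊔ root g : Subgroup G) : Set G) := hx
    rw [Subgroup.coe_mul_of_right_le_normalizer_left _ _ hgN] at hxm
    obtain ⟨a, hax, b, hbx, rfl⟩ := Set.mem_mul.mp hxm
    rw [show k * (a * b) * k⁻¹ = k * a * k⁻¹ * (k * b * k⁻¹) by group]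
    exact mul_mem (Subgroup.mem_sup_left (h.qq_conj_tor hc h2 hk hax))
      (Subgroup.mem_sup_right (hg.hf'.tor_conj_root h2 (hg.htor.symm ▸ hk) hbx))
  have hpq : p ∣ q := hq ▸ dvd_pow_self p hn
  have hG := h.hf.card_group
  rw [hN, ← hq'] at hG
  have hcop : Nat.Coprime (q ^ 3) (Nat.card (tor f)) := by
    rw [hq, ← pow_mul]
    exact ((Nat.Prime.coprime_iff_not_dvd hp.out).mpr (h.hf.not_dvd_tor hq hn)).pow_left _
  -- `E` is a Sylow subgroup
  obtain ⟨P0, hP0⟩ := hEp.exists_le_sylow
  have hPE : (P0 : Subgroup G) = E := by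
    refine (Subgroup.eq_of_le_of_card_ge hP0 ?_).symm
    rw [hEcard]
    obtain ⟨k, hk⟩ := IsPGroup.iff_card.mp P0.2
    rw [hk]
    refine Nat.le_of_dvd (by positivity) ?_
    have hcop2 : p.Coprime ((q ^ 2 + q + 1) * (q + 1) * Nat.card (tor f)) := by
      refine (Nat.Prime.coprime_iff_not_dvd hp.out).mpr fun hd => ?_
      rcases hp.out.dvd_mul.mp hd with hd | hd
      · rcases hp.out.dvd_mul.mp hd with hd | hd
        · have := Nat.dvd_sub hd (dvd_add (dvd_pow hpq two_ne_zero) hpq)
          rw [Nat.add_sub_cancel_left] at this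
          exact hp.out.not_dvd_one this
        · exact Hyp.not_dvd_succ hq hn hd
      · exact h.hf.not_dvd_tor hq hn hd
    refine (hcop2.pow_left k).dvd_of_dvd_mul_right ?_
    rw [← hk]
    refine (Subgroup.card_subgroup_dvd_card _).trans (dvd_of_eq ?_)
    rw [hG]; ring
  -- the centraliser of an element of the root group normalises `E`
  have hcx : ∀ x ∈ root f, x ≠ 1 → Subgroup.centralizer {x} ≤ M := by
    intro x hx hx1
    obtain ⟨β, rfl⟩ := mem_root.mp hx
    have hβ : β ≠ 0 := fun e => hx1 (by rw [e, xr_zero, map_one])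
    set y := f (xr β) with hy
    obtain ⟨N, hNodd, hmem, hdec⟩ := h.hf.odd_part h2 (K := Subgroup.centralizer {y})
      (Subgroup.mem_centralizer_singleton_iff.mpr (h.hf.root_tt β).symm)
      fun z hz hzc => h.hf.cent_one hβ hzc (Subgroup.mem_centralizer_singleton_iff.mp hz)
    have hEN : E ≤ N := fun z hz => (hmem z).mpr ⟨Subgroup.mem_centralizer_singleton_iff.mpr (hab z hz y (hrf hx)), by
      obtain ⟨i, hi⟩ := IsPGroup.iff_orderOf.mp hEp ⟨z, hz⟩
      rw [Subgroup.orderOf_mk] at hi
      rw [hi]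
      refine (hp.out.odd_of_ne_two fun e => h2 ?_).pow
      have h0 := FiniteField.cast_card_eq_zero F
      rw [← hq', hq, e, Nat.cast_pow, Nat.cast_ofNat] at h0
      exact pow_eq_zero_iff hn |>.mp h0⟩
    have hnorm : ∀ j : G, j * j = 1 → (j * y * j⁻¹ = y ∨ j * y * j⁻¹ = y⁻¹) → ∀ z ∈ N, j * z * j⁻¹ ∈ N := by
      intro j hj hjy z hz
      obtain ⟨h1, h3⟩ := (hmem z).mp hz
      refine (hmem _).mpr ⟨Subgroup.mem_centralizer_singleton_iff.mpr ?_, by
        rw [show j * z * j⁻¹ = MulAut.conj j z from rfl, MulEquiv.orderOf_eq]; exact h3⟩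
      have hzy : Commute z y := Subgroup.mem_centralizer_singleton_iff.mp h1
      have hjy' : j⁻¹ * y * j = y ∨ j⁻¹ * y * j = y⁻¹ := by
        rw [inv_eq_of_mul_eq_one_right hj] at hjy ⊢; exact hjy
      have hzy' : z * (j⁻¹ * y * j) = j⁻¹ * y * j * z := by
        rcases hjy' with e | e <;> rw [e]
        · exact hzy.eq
        · exact hzy.inv_right.eq
      calc j * z * j⁻¹ * y = j * (z * (j⁻¹ * y * j)) * j⁻¹ := by group
        _ = j * (j⁻¹ * y * j * z) * j⁻¹ := by rw [hzy']
        _ = _ := by group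
    have hfour := h.four'' h2 hNodd
      (hnorm _ Hyp.tt_sq (Or.inl (by rw [← h.hf.root_tt β]; exact mul_inv_cancel_right _ _)))
      (hnorm _ Hyp.tt_sq (Or.inr (h.inv_root h2 hx)))
    rw [h.hf.card_split h2 hNodd (hrf.trans hEN), h.hf'.card_split h2 hNodd (hrf'.trans hEN), ← ht,
      hg.hf'.card_split h2 hNodd (hrg.trans hEN), h.htor, hg.htor, ← hq'] at hfour
    set T := N ⊓ tor f
    have hNcard : Nat.card N = q ^ 3 * Nat.card T := by
      refine Nat.eq_of_mul_eq_mul_right (pow_pos (Nat.card_pos (α := T)) 2) ?_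
      rw [hfour]; ring
    have hNM : N ≤ M := by
      have hle : E ⊔ T ≤ N ⊓ M := sup_le (le_inf hEN Subgroup.le_normalizer)
        (le_inf inf_le_left (inf_le_right.trans htorM))
      refine (Subgroup.eq_of_le_of_card_ge (inf_le_left : N ⊓ M ≤ N) ?_).symm.le.trans inf_le_right
      refine le_trans (Nat.le_of_dvd Nat.card_pos ?_) (Subgroup.card_le_of_le hle)
      rw [hNcard, ← hEcard]
      exact Nat.Coprime.mul_dvd_of_dvd_of_dvd (hEcard ▸ hcop.coprime_dvd_right (Subgroup.card_dvd_of_le inf_le_right))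
        (Subgroup.card_dvd_of_le le_sup_left) (Subgroup.card_dvd_of_le le_sup_right)
    intro k hk
    obtain ⟨m, hm, s, hs, rfl⟩ := hdec k hk
    exact mul_mem (hNM hm) (htorM (scal_le_tor f hs))
  -- the numbers
  obtain ⟨μ, hμ⟩ : q ^ 3 * Nat.card (tor f) ∣ Nat.card M := by
    rw [← hEcard]
    exact Nat.Coprime.mul_dvd_of_dvd_of_dvd (hEcard.symm ▸ hcop) (Subgroup.card_dvd_of_le Subgroup.le_normalizer)
      (Subgroup.card_dvd_of_le htorM)
  set k := Nat.card (Sylow p G) with hk
  have hkM : k = M.index := by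
    rw [hk, Sylow.card_eq_index_normalizer P0]
    show (Subgroup.normalizer ((P0 : Subgroup G) : Set G)).index = _
    rw [hPE]
  have hkμ : k * μ = (q ^ 2 + q + 1) * (q + 1) := by
    have e := M.card_mul_index
    rw [hμ, hG, ← hkM] at e
    refine Nat.eq_of_mul_eq_mul_left (mul_pos (pow_pos (show 0 < q from Fintype.card_pos) 3)
      (Nat.card_pos (α := tor f))) ?_
    linear_combination e
  -- only `E` is fixed by an element of the root group
  have hfix : ∀ x : root f, x ≠ 1 → Nat.card (MulAction.fixedBy (Sylow p G) x) = 1 := by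
    intro x hx
    have hxE : (x : G) ∈ (P0 : Subgroup G) := hPE.symm ▸ hrf x.2
    refine Nat.card_eq_one_iff_unique.mpr ⟨⟨fun ⟨P, hP⟩ ⟨R, hR⟩ => ?_⟩,
      ⟨⟨P0, Sylow.smul_eq_iff_mem_normalizer.mpr (Subgroup.le_normalizer hxE)⟩⟩⟩
    suffices ∀ P : Sylow p G, x • P = P → P = P0 from Subtype.ext ((this P hP).trans (this R hR).symm)
    intro P hP
    have hxN : (x : G) ∈ Subgroup.normalizer ((P : Subgroup G) : Set G) := Sylow.smul_eq_iff_mem_normalizer.mp hP
    have hxp : IsPGroup p (Subgroup.zpowers (x : G)) :=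
      hEp.to_le (Subgroup.zpowers_le.mpr (hrf x.2))
    have hxP : (x : G) ∈ (P : Subgroup G) := by
      rw [← P.3 (P.2.to_sup_of_normal_left' hxp (Subgroup.zpowers_le.mpr hxN)) le_sup_left]
      exact Subgroup.mem_sup_right (Subgroup.mem_zpowers _)
    obtain ⟨c, hcP⟩ := MulAction.exists_smul_eq G P0 P
    have hPc : (P : Subgroup G) ≤ Subgroup.centralizer {(x : G)} := by
      intro y hy
      refine Subgroup.mem_centralizer_singleton_iff.mpr ?_
      rw [← hcP] at hy hxP
      obtain ⟨a, hax, rfl⟩ := hy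
      obtain ⟨b, hbx, hb'⟩ := hxP
      rw [← hb']
      show c * a * c⁻¹ * (c * b * c⁻¹) = c * b * c⁻¹ * (c * a * c⁻¹)
      have := hab a (hPE ▸ hax) b (hPE ▸ hbx)
      calc c * a * c⁻¹ * (c * b * c⁻¹) = c * (a * b) * c⁻¹ := by group
        _ = c * (b * a) * c⁻¹ := by rw [this]
        _ = _ := by group
    have hPM := hPc.trans (hcx x x.2 fun e => hx (Subtype.ext e))
    have hEM : (P0 : Subgroup G) ≤ M := hPE ▸ Subgroup.le_normalizer
    obtain ⟨m, hm⟩ := MulAction.exists_smul_eq M (P0.subtype hEM) (P.subtype hPM)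
    have hm0 : (m : G) • P0 = P0 := Sylow.smul_eq_iff_mem_normalizer.mpr (by
      show (m : G) ∈ Subgroup.normalizer ((P0 : Subgroup G) : Set G)
      rw [hPE]; exact m.2)
    rw [← hm0]
    exact (Sylow.subtype_injective ((Sylow.smul_subtype hEM m).symm.trans hm)).symm
  have hmod : (q : ℤ) ∣ (k : ℤ) - 1 := by
    haveI := Fintype.ofFinite (root f)
    haveI := Fintype.ofFinite (Sylow p G)
    haveI : Fintype (Quotient (MulAction.orbitRel (root f) (Sylow p G))) := Fintype.ofFinite _
    have hsum := MulAction.sum_card_fixedBy_eq_card_orbits_mul_card_group (root f) (Sylow p G)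
    simp only [← Nat.card_eq_fintype_card] at hsum
    rw [← Finset.add_sum_erase _ _ (Finset.mem_univ (1 : root f)),
      Finset.sum_congr rfl (fun x hx => hfix x (Finset.ne_of_mem_erase hx)), Finset.sum_const, smul_eq_mul, mul_one,
      Finset.card_erase_of_mem (Finset.mem_univ _), Finset.card_univ, ← Nat.card_eq_fintype_card, h.hf.card_root]
      at hsum
    have h1 : Nat.card (MulAction.fixedBy (Sylow p G) (1 : root f)) = k :=
      Nat.card_congr (Equiv.subtypeUnivEquiv fun P => one_smul _ P)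
    rw [h1] at hsum
    refine ⟨(Nat.card (Quotient (MulAction.orbitRel (root f) (Sylow p G))) : ℤ) - 1, ?_⟩
    have e := congrArg (fun m : ℕ => (m : ℤ)) hsum
    push_cast [Nat.cast_sub (show 1 ≤ q from Fintype.card_pos), ← hq'] at e
    linear_combination e
  -- the centraliser moves `E` to more than `q` places
  have horb : q + 1 ≤ k ∧ (k = q + 1 → ∀ P : Sylow p G, (tt f) • P = P) := by
    have hst := MulAction.index_stabilizer f.range P0
    have hd : Nat.card (MulAction.stabilizer f.range P0) ∣ q * Nat.card (tor f) := by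
      refine dvd_trans ?_ (h.hf.card_cent_norm_dvd h2 hq hn hEp hrf)
      rw [← Subgroup.card_map_of_injective f.range.subtype_injective]
      refine Subgroup.card_dvd_of_le ?_
      rintro _ ⟨c, hc', rfl⟩
      refine ⟨?_, h.hf.range ▸ c.2⟩
      have := Sylow.smul_eq_iff_mem_normalizer.mp (show (c : G) • P0 = P0 from hc')
      rw [← hPE]; exact this
    have hidx : q + 1 ≤ (MulAction.stabilizer f.range P0).index := by
      have e := (MulAction.stabilizer f.range P0).card_mul_index
      rw [h.hf.card_range_eq, ← hq'] at e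
      have hle := Nat.le_of_dvd (mul_pos Fintype.card_pos (Nat.card_pos (α := tor f))) hd
      by_contra hlt
      have := Nat.mul_le_mul hle (show (MulAction.stabilizer f.range P0).index ≤ q by omega)
      rw [e] at this
      have hpos := mul_pos (show 0 < q from Fintype.card_pos) (Nat.card_pos (α := tor f))
      nlinarith
    rw [hst] at hidx
    refine ⟨hidx.trans ?_, fun hk1 P => ?_⟩
    · rw [hk, ← Nat.card_coe_set_eq]
      exact Nat.card_le_card_of_injective _ Subtype.val_injective
    have huniv : MulAction.orbit f.range P0 = Set.univ :=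
      Set.eq_of_subset_of_ncard_le (Set.subset_univ _) (by rw [Set.ncard_univ, ← hk, hk1]; exact hidx)
    obtain ⟨c, rfl⟩ : P ∈ MulAction.orbit f.range P0 := huniv ▸ Set.mem_univ P
    have htc : tt f * (c : G) = (c : G) * tt f := (h.hf.mem_cent.mpr (MonoidHom.mem_range.mp c.2)).symm
    have ht0 : tt f • P0 = P0 := Sylow.smul_eq_iff_mem_normalizer.mpr (by
      show tt f ∈ Subgroup.normalizer ((P0 : Subgroup G) : Set G)
      rw [hPE]; exact htorM (tt_mem_tor f))
    show tt f • ((c : G) • P0) = (c : G) • P0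
    rw [← mul_smul, htc, mul_smul, ht0]
  have hμ1 : μ ≠ 1 := by
    intro e
    rw [e, mul_one] at hμ
    have hsup : E ⊔ tor f = M := Subgroup.eq_of_le_of_card_ge (sup_le Subgroup.le_normalizer htorM) (by
      rw [hμ]
      refine Nat.le_of_dvd Nat.card_pos ?_
      rw [← hEcard]
      exact Nat.Coprime.mul_dvd_of_dvd_of_dvd (hEcard.symm ▸ hcop) (Subgroup.card_dvd_of_le le_sup_left)
        (Subgroup.card_dvd_of_le le_sup_right))
    have hnorm : M ≤ Subgroup.normalizer (root f : Set G) := by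
      rw [← hsup]
      refine sup_le (fun z hz => Subgroup.mem_normalizer_fintype fun w hw => ?_)
        fun z hz => Subgroup.mem_normalizer_fintype fun w hw => h.hf.tor_conj_root h2 hz hw
      rw [hab z hz w (hrf hw), mul_inv_cancel_right]; exact hw
    obtain ⟨c0, -, hc0, -⟩ := h.exists_conj_root h2 hq hn
    obtain ⟨m, hm, hmA⟩ := exists_normalizer_conj P0 (A := root f) (B := root f')
      (fun x hx y hy => hab x (hPE ▸ hx) y (hPE ▸ hy)) (hPE.symm ▸ hrf) (hPE.symm ▸ hrf') hc0
    rw [hPE] at hm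
    have hmem : m * f (xr 1) * m⁻¹ ∈ root f' := hmA ▸ Subgroup.mem_map_of_mem _ (mem_root.mpr ⟨1, rfl⟩)
    have hmem' : m * f (xr 1) * m⁻¹ ∈ root f :=
      (Subgroup.mem_normalizer_iff.mp (hnorm hm) _).mp (mem_root.mpr ⟨1, rfl⟩)
    exact one_ne_zero (h.hf.root_inj (conj_eq_one_iff.mp
      (h.root_cent_eq_one h2 hmem' (root_tt_mem h.hf' hmem))))
  -- the arithmetic
  obtain ⟨b, hb'⟩ := hmod
  have hkμZ : (k : ℤ) * (μ : ℤ) = ((q : ℤ) ^ 2 + q + 1) * ((q : ℤ) + 1) := by exact_mod_cast hkμ
  have hqpos : (2 : ℤ) ≤ q := by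
    have : 1 < q := Fintype.one_lt_card
    omega
  obtain ⟨a, ha'⟩ : (q : ℤ) ∣ (μ : ℤ) - 1 :=
    ⟨(q : ℤ) ^ 2 + 2 * q + 2 - b * μ, by linear_combination hkμZ - (μ : ℤ) * hb'⟩
  have hkey : a + b + a * b * q = (q : ℤ) ^ 2 + 2 * q + 2 := mul_left_cancel₀ (show (q : ℤ) ≠ 0 by omega)
    (by linear_combination hkμZ - (μ : ℤ) * hb' - (1 + (q : ℤ) * b) * ha')
  have hkq : ((q : ℤ) + 1) ≤ k := by exact_mod_cast horb.1
  have hb1 : 1 ≤ b := by
    by_contra hlt
    have : (q : ℤ) * b ≤ 0 := mul_nonpos_of_nonneg_of_nonpos (by omega) (by omega)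
    omega
  have hμpos : (0 : ℤ) < μ := by
    rcases Nat.eq_zero_or_pos μ with e | e
    · exfalso; rw [e, mul_zero] at hμ; exact (Nat.card_pos (α := M)).ne' hμ
    · exact_mod_cast e
  have ha1 : 1 ≤ a := by
    by_contra hlt
    rcases eq_or_ne a 0 with e | e
    · rw [e, mul_zero] at ha'
      exact hμ1 (by exact_mod_cast (by linarith : (μ : ℤ) = 1))
    · have : (q : ℤ) * a ≤ (q : ℤ) * (-1) := mul_le_mul_of_nonneg_left (by omega) (by omega)
      omega
  set m := (q : ℤ) + 2 - a * b with hm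
  have hsum : a + b - 2 = q * m := by rw [hm]; linear_combination hkey
  have hprod : (a - 1) * (b - 1) = (1 - m) * ((q : ℤ) + 1) := by rw [hm]; linear_combination -hkey
  have hm0 : 0 ≤ m := by
    by_contra hlt
    have : (q : ℤ) * m < 0 := mul_neg_of_pos_of_neg (by omega) (by omega)
    omega
  have hm1 : m ≤ 1 := by
    by_contra hlt
    have : (1 - m) * ((q : ℤ) + 1) < 0 := mul_neg_of_neg_of_pos (by omega) (by omega)
    have := mul_nonneg (show (0 : ℤ) ≤ a - 1 by omega) (show (0 : ℤ) ≤ b - 1 by omega)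
    omega
  interval_cases hmv : m
  · have e1 : a = 1 := by linarith
    have e2 : b = 1 := by linarith
    rw [e1, e2] at hprod
    linarith
  rw [sub_self, zero_mul] at hprod
  rcases mul_eq_zero.mp hprod with e | e
  swap
  · -- as many Sylow subgroups as in the centraliser
    have hk1 : k = q + 1 := by
      rw [show b = 1 by omega, mul_one] at hb'
      omega
    have hker : (MulAction.toPermHom G (Sylow p G)).ker = ⊤ := by
      refine (IsSimpleGroup.eq_bot_or_eq_top_of_normal _ (MonoidHom.normal_ker _)).resolve_left fun e => ?_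
      refine h.hf.tt_ne h2 ((Subgroup.eq_bot_iff_forall _).mp e _ ?_)
      exact MonoidHom.mem_ker.mpr (Equiv.ext fun P => horb.2 hk1 P)
    have hall : ∀ x : G, x ∈ Subgroup.normalizer ((P0 : Subgroup G) : Set G) := fun x => by
      have hx : MulAction.toPermHom G (Sylow p G) x = 1 :=
        MonoidHom.mem_ker.mp (by rw [hker]; exact Subgroup.mem_top x)
      exact Sylow.smul_eq_iff_mem_normalizer.mp (Equiv.congr_fun hx P0)
    have hEn : E.Normal := ⟨fun z hz x => by
      have := (Subgroup.mem_normalizer_iff.mp (hall x) z).mp (hPE.symm ▸ hz)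
      exact hPE ▸ this⟩
    rcases IsSimpleGroup.eq_bot_or_eq_top_of_normal E hEn with e | e
    · rw [e, Subgroup.card_bot] at hEcard
      have := Nat.one_lt_pow (by norm_num : 3 ≠ 0) (show 1 < q from Fintype.one_lt_card)
      omega
    · exact h.hf.not_comm h2 ⟨⟨fun x y => hab x (e ▸ Subgroup.mem_top x) y (e ▸ Subgroup.mem_top y)⟩⟩
  · -- an odd number of Sylow subgroups
    have hk2 : k = q ^ 2 + q + 1 := by
      have hμq : μ = q + 1 := by
        rw [show a = 1 by omega, mul_one] at ha'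
        omega
      rw [hμq] at hkμ
      exact Nat.eq_of_mul_eq_mul_right (Nat.succ_pos q) hkμ
    have hs2 : IsPGroup 2 (signs : Subgroup (GL (Fin 2) F)) := fun x => ⟨1, Subtype.ext (by
      rw [Subgroup.coe_pow, pow_one, pow_two]
      rcases mem_signs.mp x.2 with e | e | e | e <;> rw [e] <;>
        first | exact one_mul _ | (rw [dg_mul]; simp [dg_one]))⟩
    have hs3 : IsPGroup 2 (tor f ⊓ signs.map f : Subgroup G) := (hs2.map f).to_le inf_le_right
    obtain ⟨R, hR⟩ := (hs3.comap_of_injective M.subtype M.subtype_injective).exists_le_sylow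
    have hsgn : ∀ j ∈ tor f, j * j = 1 → j ∈ (signs.map f : Subgroup G) := fun j hj hjj => by
      rcases h.hf.tor_sq h2 hj hjj with e | e | e | e <;> rw [e]
      · exact one_mem _
      · exact ⟨_, mem_signs.mpr (Or.inr (Or.inl rfl)), rfl⟩
      · exact ⟨_, mem_signs.mpr (Or.inr (Or.inr (Or.inl rfl))), rfl⟩
      · exact ⟨dg (-1) 1, mem_signs.mpr (Or.inr (Or.inr (Or.inr rfl))), by
          rw [tt, uu, ← map_mul, dg_mul]; simp⟩
    have htR : (⟨tt f, htorM (tt_mem_tor f)⟩ : M) ∈ (R : Subgroup M) :=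
      hR ⟨tt_mem_tor f, hsgn _ (tt_mem_tor f) Hyp.tt_sq⟩
    have htM' : tt f' ∈ tor f := h.htor ▸ tt_mem_tor f'
    have htR' : (⟨tt f', htorM htM'⟩ : M) ∈ (R : Subgroup M) := hR ⟨htM', hsgn _ htM' Hyp.tt_sq⟩
    haveI : Nontrivial (R : Subgroup M) := ⟨⟨⟨_, htR⟩, 1, fun e => h.hf.tt_ne h2
      (congrArg (fun y : (R : Subgroup M) => ((y : M) : G)) e)⟩⟩
    haveI := R.2.center_nontrivial
    obtain ⟨z, hz⟩ := exists_prime_orderOf_dvd_card' (G := Subgroup.center (R : Subgroup M)) 2 (by
      obtain ⟨e, he⟩ := IsPGroup.iff_card.mp (R.2.to_subgroup (Subgroup.center (R : Subgroup M)))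
      rw [he]
      refine dvd_pow_self 2 fun e0 => ?_
      rw [e0, pow_zero] at he
      exact not_subsingleton _ ((Nat.card_eq_one_iff_unique.mp he).1))
    set j : G := (((z : (R : Subgroup M)) : M) : G)
    have hjc : ∀ x : M, x ∈ (R : Subgroup M) → (x : G) * j = j * x := fun x hx =>
      congrArg (fun y : (R : Subgroup M) => ((y : M) : G)) (Subgroup.mem_center_iff.mp z.2 ⟨x, hx⟩)
    have hjj : j * j = 1 := by
      have := pow_orderOf_eq_one z
      rw [hz, pow_two] at this
      exact congrArg (fun y : Subgroup.center (R : Subgroup M) => (((y : (R : Subgroup M)) : M) : G)) this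
    have hj1 : j ≠ 1 := fun e => by
      rw [show z = 1 from Subtype.ext (Subtype.ext (Subtype.ext e)), orderOf_one] at hz
      omega
    have hjtor : j ∈ tor f := (h.tor_iff' h2).mpr ⟨(hjc _ htR).symm, (hjc _ htR').symm⟩
    obtain ⟨e, he, hje, hre, htore⟩ : ∃ e : GL (Fin 2) F →* G, Hyp e ∧ j = tt e ∧ root e ≤ E ∧ tor e = tor f := by
      rcases h.inv_cases_tor h2 hjtor hjj with e | e | e | e
      · exact absurd e hj1
      · exact ⟨f, h.hf, e, hrf, rfl⟩
      · exact ⟨f', h.hf', e, hrf', h.htor⟩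
      · exact ⟨g, hg.hf', e.trans ht.symm, hrg, hg.htor⟩
    have hd := he.card_cent_norm_dvd h2 hq hn hEp hre
    rw [htore, ← hq'] at hd
    have hRd : Nat.card (R : Subgroup M) ∣ q * Nat.card (tor f) := by
      refine dvd_trans ?_ hd
      rw [← Subgroup.card_map_of_injective M.subtype_injective]
      refine Subgroup.card_dvd_of_le ?_
      rintro _ ⟨x, hx, rfl⟩
      exact ⟨x.2, Subgroup.mem_centralizer_singleton_iff.mpr (hje ▸ hjc x hx)⟩
    have hqodd : ¬ 2 ∣ q := fun h2q => by
      rw [hq] at h2q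
      have := (Nat.prime_dvd_prime_iff_eq Nat.prime_two hp.out).mp (Nat.prime_two.dvd_of_dvd_pow h2q)
      refine h2 ?_
      have h0 := FiniteField.cast_card_eq_zero F
      rw [← hq', hq, ← this, Nat.cast_pow, Nat.cast_ofNat] at h0
      exact pow_eq_zero_iff hn |>.mp h0
    have hMfac : (Nat.card G).factorization 2 = (Nat.card M).factorization 2 := by
      rw [← M.card_mul_index, Nat.factorization_mul Nat.card_pos.ne' Subgroup.index_ne_zero_of_finite,
        Finsupp.add_apply, Nat.factorization_eq_zero_of_not_dvd (n := M.index), add_zero]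
      rw [← hkM, hk2]
      intro h2d
      have : Even (q ^ 2 + q) := by rw [pow_two, ← Nat.mul_succ]; exact Nat.even_mul_succ_self q
      obtain ⟨r, hr⟩ := this
      omega
    have h2h : 2 * Nat.card (tor f) ∣ Nat.card G := by
      rw [hG]
      obtain ⟨r, hr⟩ : 2 ∣ q + 1 := by omega
      exact ⟨q ^ 2 * (q ^ 2 + q + 1) * (q * r), by rw [hr]; ring⟩
    rw [R.card_eq_multiplicity, ← hMfac] at hRd
    have hle := (Nat.prime_two.pow_dvd_iff_le_factorization
      (mul_ne_zero Fintype.card_ne_zero Nat.card_pos.ne')).mp hRd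
    have hge := (Nat.factorization_le_iff_dvd (mul_ne_zero two_ne_zero Nat.card_pos.ne') Nat.card_pos.ne').mpr h2h 2
    rw [Nat.factorization_mul Fintype.card_ne_zero Nat.card_pos.ne', Finsupp.add_apply,
      Nat.factorization_eq_zero_of_not_dvd hqodd, zero_add] at hle
    rw [Nat.factorization_mul two_ne_zero Nat.card_pos.ne', Finsupp.add_apply,
      Nat.Prime.factorization_self Nat.prime_two] at hge
    omega

end Pair

end CfsgLib.GL2Cent
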